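/-
Helper library (helper78): for a cartesian morphism of thickenings of algebraic spaces
`(f, f') : (X ⊂ X') ⟶ (Y ⊂ Y')`, transfer of "isomorphism", "open immersion", "finite",
"finite locally free (of degree d)" from `f` to `f'`, given the transfer of the local properties
(flat, locally quasi-finite, locally of finite presentation, etale).
-/
import Groth.Agent.Lib.Helper54.ProperQf
import Groth.Agent.Lib.Helper54.MonoUnram
import Groth.Agent.Lib.Helper66.AlgStAffFacts
import Groth.Agent.H52.ThickFlat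
import Groth.Agent.H53.DistSqC
import Groth.Agent.H53.OpenSub
import Groth.Agent.S10587
import Groth.Agent.S10589
import Groth.Agent.S10261
import Groth.Agent.S9906
import Groth.Agent.S9928
import Groth.Agent.S10294

set_option autoImplicit false
universe u
open CategoryTheory CategoryTheory.Limits AlgebraicGeometry Opposite

namespace Groth.Agent.Lib.Helper78.DeformIso

open AlgSp

variable {S : Scheme.{u}}

/-- An isomorphism of sheaves is surjective on points. -/
theorem isSurjectiveMor_of_isIso {F G : Sp S} (f : F ⟶ G) [IsIso f] : IsSurjectiveMor f := by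
  intro y
  refine ⟨Points.map (inv f) y, ?_⟩
  rw [← Points.map_comp, IsIso.inv_hom_id, Points.map_id]

/-- A surjective open immersion of algebraic spaces is an isomorphism. -/
theorem isIso_of_repWith_isOpenImmersion_of_isSurjectiveMor {X Y : AlgSp.Space S} (f : X ⟶ Y)
    (hO : RepWith @IsOpenImmersion f.hom) (hs : IsSurjectiveMor f.hom) : IsIso f.hom := by
  have hrep : Representable f.hom := hO.rep
  have hS : RepWith @Surjective f.hom := (Groth.Agent.S9906.result f hrep).2 hs
  refine Groth.Agent.H53.isIso_of_repWith_isomorphisms f.hom ⟨hrep, fun U V g fst snd sq => ?_⟩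
  have h1 : IsOpenImmersion snd.left := hO.property g fst snd sq
  have h2 : Surjective snd.left := hS.property g fst snd sq
  exact (isIso_iff_isOpenImmersion_and_surjective snd.left).mpr ⟨h1, h2⟩

/-- Chart maps between the base changes of two thickenings, at the level of sheaves. -/
theorem exists_chart_map_yon {X X' Y Y' : Sp S} {i : X ⟶ X'} {j : Y ⟶ Y'} {f : X ⟶ Y}
    {f' : X' ⟶ Y'} (w : i ≫ f' = f ≫ j) {U U' V V' : Over S} {a : (yon S).obj U ⟶ X}
    {a' : (yon S).obj U' ⟶ X'} {b : (yon S).obj V ⟶ Y} {b' : (yon S).obj V' ⟶ Y'} {iU : U ⟶ U'}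
    {jV : V ⟶ V'} {h' : U' ⟶ V'} (sqU : IsPullback a ((yon S).map iU) i a')
    (sqV : IsPullback b ((yon S).map jV) j b') (comm' : a' ≫ f' = (yon S).map h' ≫ b')
    (hcart : IsPullback i f f' j) (sq' : IsPullback a' ((yon S).map h') f' b') :
    ∃ h : U ⟶ V, IsPullback a ((yon S).map h) f b ∧
      IsPullback iU.left h.left h'.left jV.left := by
  have hcomm : (a ≫ f) ≫ j = (yon S).map (iU ≫ h') ≫ b' := by
    rw [Category.assoc, ← w, ← Category.assoc, sqU.w, Category.assoc, comm', Functor.map_comp,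
      Category.assoc]
  obtain ⟨h, hh⟩ := (yon S).map_surjective (sqV.lift (a ≫ f) ((yon S).map (iU ≫ h')) hcomm)
  have hh1 : (yon S).map h ≫ b = a ≫ f := by
    rw [hh]
    exact sqV.lift_fst _ _ _
  have hh2 : h ≫ jV = iU ≫ h' := by
    apply (yon S).map_injective
    rw [Functor.map_comp, hh]
    exact sqV.lift_snd _ _ _
  have hbig : IsPullback (a ≫ f) ((yon S).map iU) j (a' ≫ f') := sqU.paste_horiz hcart.flip
  rw [← hh1, comm'] at hbig
  have hcomm2 : (yon S).map h ≫ (yon S).map jV = (yon S).map iU ≫ (yon S).map h' := by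
    rw [← Functor.map_comp, ← Functor.map_comp, hh2]
  have sqS : IsPullback ((yon S).map iU) ((yon S).map h) ((yon S).map h') ((yon S).map jV) :=
    (IsPullback.of_right hbig hcomm2 sqV).flip
  refine ⟨h, ?_, Groth.Agent.H52.isPullback_left_of_isPullback_yon sqS⟩
  have outer : IsPullback ((yon S).map iU ≫ a') ((yon S).map h) f' ((yon S).map jV ≫ b') :=
    sqS.paste_horiz sq'
  rw [← sqU.w, ← sqV.w] at outer
  exact IsPullback.of_right outer hh1.symm hcart

/-- Transfer along a cartesian morphism of thickenings. -/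
theorem deform_core {X X' Y Y' : AlgSp.Space S} (iX : X ⟶ X') (iY : Y ⟶ Y')
    (f : X ⟶ Y) (f' : X' ⟶ Y') (hiX : IsThickMor iX.hom) (hiY : IsThickMor iY.hom)
    (w : iX ≫ f' = f ≫ iY) (sqXY : IsPullback iX.hom f.hom f'.hom iY.hom)
    (hflat : LocP @Flat f.hom ↔ LocP @Flat f'.hom)
    (hlqf : LocP (@LocallyQuasiFinite ⊓ @LocallyOfFiniteType) f.hom ↔
      LocP (@LocallyQuasiFinite ⊓ @LocallyOfFiniteType) f'.hom)
    (hlfp : LocP @LocallyOfFinitePresentation f.hom ↔ LocP @LocallyOfFinitePresentation f'.hom)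
    (het : IsEtaleMor f.hom ↔ IsEtaleMor f'.hom) :
    (IsIso f.hom ↔ IsIso f'.hom) ∧
    (RepWith @IsOpenImmersion f.hom ↔ RepWith @IsOpenImmersion f'.hom) ∧
    (IsFiniteMor f.hom ↔ IsFiniteMor f'.hom) ∧
    (IsFinLocFreeMor f.hom ↔ IsFinLocFreeMor f'.hom) ∧
    (∀ d : ℕ, IsFinLocFreeOfDegMor d f.hom ↔ IsFinLocFreeOfDegMor d f'.hom) := by
  have hX' : IsAlgSpace X'.obj := X'.property
  have hY' : IsAlgSpace Y'.obj := Y'.property
  have hX : IsAlgSpace X.obj := X.property
  have hY : IsAlgSpace Y.obj := Y.property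
  have w' : iX.hom ≫ f'.hom = f.hom ≫ iY.hom := congrArg (fun k => k.hom) w
  obtain ⟨hsurj, hqc, huc, hui, huo⟩ := Groth.Agent.S10587.result iX iY f f' hiX hiY w
  obtain ⟨hsep, hqsep⟩ := Groth.Agent.S10589.result iX iY f f' hiX hiY w
  -- open immersions
  have hopen : RepWith @IsOpenImmersion f.hom → RepWith @IsOpenImmersion f'.hom := by
    intro hO
    have h1 : RepWith @Etale f.hom :=
      Groth.Agent.H53.repWith_of_le (fun A B φ hφ => by
        have : IsOpenImmersion φ := hφ
        change Etale φ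
        infer_instance) hO
    have h2 : IsEtaleMor f.hom := Groth.Agent.H53.DistSq.isEtaleMor_of_repWith_etale f.hom h1
    have h3 : RepWith @IsImmersion f.hom :=
      Groth.Agent.H53.repWith_of_le (fun A B φ hφ => by
        have : IsOpenImmersion φ := hφ
        change IsImmersion φ
        infer_instance) hO
    haveI : Mono f.hom := Groth.Agent.S9928.result f h3
    have h4 : IsUnivInjectiveMor f.hom := Groth.Agent.Lib.Helper54.isUnivInjectiveMor_of_mono f.hom
    exact Groth.Agent.S10261.result f' (het.1 h2) (hui.1 h4)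
  have hfin : IsFiniteMor f.hom ↔ IsFiniteMor f'.hom := by
    constructor
    · intro hfin
      obtain ⟨-, h1, -, h3⟩ := (Groth.Agent.H53.isFiniteMor_iff hX hY f.hom).1 hfin
      have hq := Groth.Agent.Lib.Helper54.locP_lqf_of_isFiniteMor f.hom hfin
      exact Groth.Agent.Lib.Helper54.isFiniteMor_of_univClosed_sep_lqf hX' hY' f'.hom
        (huc.1 h3) (hsep.1 h1) (hlqf.1 hq)
    · intro hfin
      exact Groth.Agent.Lib.Helper66.AlgStAffFacts.isFiniteMor_of_isPullback sqXY hfin
  have hflf : IsFinLocFreeMor f.hom ↔ IsFinLocFreeMor f'.hom := by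
    rw [(Groth.Agent.S10294.result f).1, (Groth.Agent.S10294.result f').1, hfin, hflat, hlfp]
  refine ⟨⟨?_, ?_⟩, ⟨hopen, ?_⟩, hfin, hflf, fun d => ⟨?_, ?_⟩⟩
  · intro hiso
    haveI : IsIso f.hom := hiso
    have hO : RepWith @IsOpenImmersion f.hom := Groth.Agent.H52.repWith_of_isIso _ f.hom
    have hs : IsSurjectiveMor f.hom := isSurjectiveMor_of_isIso f.hom
    exact isIso_of_repWith_isOpenImmersion_of_isSurjectiveMor f' (hopen hO) (hsurj.1 hs)
  · intro hiso
    haveI : IsIso f'.hom := hiso
    exact sqXY.isIso_snd_of_isIso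
  · intro hO
    exact MorphismProperty.of_isPullback (P := RepWith (S := S) @IsOpenImmersion) sqXY hO
  · intro hd
    have hF : IsFinLocFreeMor f.hom :=
      Groth.Agent.H53.repWith_of_le (fun A B φ hφ => hφ.1) hd
    have hF' : RepWith finLocFree f'.hom := hflf.1 hF
    refine ⟨hF'.rep, fun U V g fst snd sq => ?_⟩
    have hsnd : finLocFree snd.left := hF'.property g fst snd sq
    refine ⟨hsnd, fun y => ?_⟩
    have sqU := hiX.rep.isPullback fst
    have sqV := hiY.rep.isPullback g
    obtain ⟨h, sqh, pS⟩ := exists_chart_map_yon w' sqU sqV sq.w sqXY sq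
    have hdh : finLocFreeOfDeg d h.left := hd.property _ _ h sqh
    have hthV : thick (hiY.rep.snd g).left := hiY.property_snd g
    obtain ⟨y₀, rfl⟩ := hthV.2.surj y
    haveI : IsFinite snd.left := hsnd.1
    haveI : Flat snd.left := hsnd.2.1
    change snd.left.finrank ((hiY.rep.snd g).left y₀) = d
    rw [← Scheme.Hom.finrank_of_isPullback _ _ _ _ pS y₀]
    exact hdh.2 y₀
  · intro hd
    exact MorphismProperty.of_isPullback (P := RepWith (S := S) (finLocFreeOfDeg d)) sqXY hd

end Groth.Agent.Lib.Helper78.DeformIso
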