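import Mathlib

/-!
# Points in the closure of the image of a quasi-compact morphism (helper78)

`exists_specializes_of_mem_closure_range`: for a quasi-compact morphism `g : U ⟶ P`, every point of
the closure of the image of `g` is a specialization of a point of the image.
-/

set_option autoImplicit false
universe u

namespace Groth.Agent.Lib.Helper78

open AlgebraicGeometry CategoryTheory

/-- Affine case. -/
theorem exists_specializes_of_mem_closure_range_Spec {A B : CommRingCat.{u}} (φ : A ⟶ B)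
    (z : ↥(Spec A)) (hz : z ∈ closure (Set.range (Spec.map φ))) :
    ∃ q : ↥(Spec B), (Spec.map φ) q ⤳ z := by
  have h1 : closure (Set.range (PrimeSpectrum.comap φ.hom)) =
      PrimeSpectrum.zeroLocus (RingHom.ker φ.hom : Set A) := PrimeSpectrum.closure_range_comap φ.hom
  have hz' : z ∈ PrimeSpectrum.zeroLocus (RingHom.ker φ.hom : Set A) := by
    rw [← h1]; exact hz
  have hle : RingHom.ker φ.hom ≤ PrimeSpectrum.asIdeal (z : PrimeSpectrum A) := hz'
  have hzprime : (PrimeSpectrum.asIdeal (z : PrimeSpectrum A)).IsPrime :=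
    (z : PrimeSpectrum A).isPrime
  obtain ⟨p, hp, hpz⟩ := Ideal.exists_minimalPrimes_le hle
  obtain ⟨p', hp', -, rfl⟩ := Ideal.exists_comap_eq_of_mem_minimalPrimes φ.hom (I := ⊥) p hp
  refine ⟨(⟨p', hp'⟩ : PrimeSpectrum B), ?_⟩
  exact (PrimeSpectrum.le_iff_specializes (⟨p'.comap φ.hom, inferInstance⟩ : PrimeSpectrum A)
    (z : PrimeSpectrum A)).mp hpz

theorem exists_specializes_of_mem_closure_range {U P : Scheme.{u}} (g : U ⟶ P) [QuasiCompact g]
    (z : P) (hz : z ∈ closure (Set.range g)) : ∃ u : U, g u ⤳ z := by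
  obtain ⟨W, hW, hzW, -⟩ := (TopologicalSpace.Opens.isBasis_iff_nbhd.mp P.isBasis_affineOpens)
    (show z ∈ (⊤ : P.Opens) from trivial)
  change IsAffineOpen W at hW
  have hcomp : IsCompact (g ⁻¹ᵁ W : Set U) := g.isCompact_preimage hW.isCompact
  obtain ⟨s, hs, hsU⟩ := (isCompact_iff_finite_and_eq_biUnion_affineOpens (U := g ⁻¹ᵁ W)).mp hcomp
  -- the closure of the part of the image in `W`
  have h1 : z ∈ closure ((W : Set P) ∩ Set.range g) := W.isOpen.inter_closure ⟨hzW, hz⟩
  have h2 : (W : Set P) ∩ Set.range g = ⋃ i ∈ s, g '' ((i : U.Opens) : Set U) := by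
    ext w
    simp only [Set.mem_inter_iff, Set.mem_range, Set.mem_iUnion, Set.mem_image, SetLike.mem_coe]
    constructor
    · rintro ⟨hw, u, rfl⟩
      have hu : u ∈ g ⁻¹ᵁ W := hw
      rw [hsU] at hu
      simp only [TopologicalSpace.Opens.mem_iSup] at hu
      obtain ⟨i, hi, hui⟩ := hu
      exact ⟨i, hi, u, hui, rfl⟩
    · rintro ⟨i, hi, u, hui, rfl⟩
      have hu : u ∈ g ⁻¹ᵁ W := by
        rw [hsU]
        simp only [TopologicalSpace.Opens.mem_iSup]
        exact ⟨i, hi, hui⟩
      exact ⟨hu, u, rfl⟩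
  rw [h2, hs.closure_biUnion] at h1
  simp only [Set.mem_iUnion] at h1
  obtain ⟨V, hVs, hzV⟩ := h1
  have hVle : (V : U.Opens) ≤ g ⁻¹ᵁ W := by
    rw [hsU]
    exact le_iSup₂ (f := fun (i : U.affineOpens) (_ : i ∈ s) => (i : U.Opens)) V hVs
  have hV : IsAffineOpen (V : U.Opens) := V.2
  -- pass to spectra
  have hcomm : hV.fromSpec ≫ g = Spec.map (g.appLE W V hVle) ≫ hW.fromSpec :=
    (IsAffineOpen.SpecMap_appLE_fromSpec g hW hV hVle).symm
  have himg : g '' ((V : U.Opens) : Set U) =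
      hW.fromSpec '' (Set.range (Spec.map (g.appLE W V hVle))) := by
    rw [← hV.range_fromSpec, ← Set.range_comp, ← Set.range_comp]
    have : (g : U → P) ∘ (hV.fromSpec : _ → U) = (hV.fromSpec ≫ g : _ → P) := by
      ext x; rfl
    rw [this, hcomm]
    rfl
  obtain ⟨z₀, rfl⟩ : z ∈ Set.range hW.fromSpec := by rw [hW.range_fromSpec]; exact hzW
  rw [himg] at hzV
  have hz₀ : z₀ ∈ closure (Set.range (Spec.map (g.appLE W V hVle))) := by
    rw [hW.fromSpec.isOpenEmbedding.isInducing.closure_eq_preimage_closure_image]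
    exact hzV
  obtain ⟨q, hq⟩ := exists_specializes_of_mem_closure_range_Spec _ z₀ hz₀
  refine ⟨hV.fromSpec q, ?_⟩
  have : g (hV.fromSpec q) = hW.fromSpec ((Spec.map (g.appLE W V hVle)) q) := by
    rw [← Scheme.Hom.comp_apply, hcomm, Scheme.Hom.comp_apply]
  rw [this]
  exact hq.map hW.fromSpec.continuous

end Groth.Agent.Lib.Helper78
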