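import Mathlib

/-!
# Krull–Akizuki for rings between a one-dimensional Noetherian domain and its fraction field
(helper78)

`isNoetherianRing_of_between`: if `R` is a Noetherian domain of Krull dimension `≤ 1` with fraction
field `K`, every `R`-subalgebra of `K` is a Noetherian ring.

The proof is the classical elementary one (descending chains in the Artinian rings `R/sR`),
it does not use lengths.
-/

set_option autoImplicit false
universe u v

namespace Groth.Agent.Lib.Helper78

section

variable {R : Type u} [CommRing R] [IsDomain R] [IsNoetherianRing R] [Ring.KrullDimLE 1 R]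

/-- `R/sR` is an Artinian `R`-module for `s ≠ 0` in a Noetherian domain of dimension `≤ 1`. -/
theorem isArtinian_quotient_span_singleton {s : R} (hs : s ≠ 0) :
    IsArtinian R (R ⧸ Ideal.span {s}) := by
  have hx : s ∈ nonZeroDivisors R := mem_nonZeroDivisors_of_ne_zero hs
  have hart : IsArtinianRing (R ⧸ Ideal.span {s}) := by
    rw [isArtinianRing_iff_krullDimLE_zero, Ring.KrullDimLE, Order.krullDimLE_iff,
      ← ENat.WithBot.add_le_add_one_right_iff, Nat.cast_zero, zero_add]
    exact (ringKrullDim_quotient_succ_le_of_nonZeroDivisor hx).trans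
      (Order.KrullDimLE.krullDim_le)
  exact isArtinian_of_surjective_algebraMap (R := R ⧸ Ideal.span {s}) Ideal.Quotient.mk_surjective

/-- A decreasing sequence of ideals stabilises modulo a nonzero element. -/
theorem exists_stabilizes_mod {s : R} (hs : s ≠ 0) (I : ℕ → Ideal R) (hI : Antitone I) :
    ∃ n₀, ∀ n, n₀ ≤ n → I n₀ ≤ I n ⊔ Ideal.span {s} := by
  have := isArtinian_quotient_span_singleton hs
  let f : ℕ →o (Submodule R (R ⧸ Ideal.span {s}))ᵒᵈ :=
    ⟨fun n => OrderDual.toDual (Submodule.map (Ideal.span {s}).mkQ (I n)),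
      fun a b hab => Submodule.map_mono (hI hab)⟩
  obtain ⟨n₀, hn₀⟩ := IsArtinian.monotone_stabilizes f
  refine ⟨n₀, fun n hn r hr => ?_⟩
  have h1 : (Ideal.span {s}).mkQ r ∈ Submodule.map (Ideal.span {s}).mkQ (I n₀) :=
    Submodule.mem_map_of_mem hr
  have h2 : Submodule.map (Ideal.span {s}).mkQ (I n₀) = Submodule.map (Ideal.span {s}).mkQ (I n) :=
    congrArg OrderDual.ofDual (hn₀ n hn)
  rw [h2] at h1
  obtain ⟨r', hr', e⟩ := h1
  have h3 : r - r' ∈ Ideal.span {s} := by
    have : (Ideal.span {s}).mkQ (r - r') = 0 := by rw [map_sub, e, sub_self]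
    rwa [Submodule.mkQ_apply, Submodule.Quotient.mk_eq_zero] at this
  have : r = r' + (r - r') := by ring
  rw [this]
  exact Submodule.add_mem_sup hr' h3

end

section KA

variable {R : Type u} [CommRing R] [IsDomain R] [IsNoetherianRing R] [Ring.KrullDimLE 1 R]
  {K : Type v} [Field K] [Algebra R K] [IsFractionRing R K]

/-- Key lemma: for a subalgebra `B` of the fraction field of `R` and `0 ≠ x ∈ R`, there is a finitely
generated `R`-submodule `N` of `B` with `B = N + xB`. -/
theorem exists_fg_add_smul (B : Subalgebra R K) {x : R} (hx : x ≠ 0) :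
    ∃ N : Submodule R B, N.FG ∧ ∀ b : B, ∃ z ∈ N, ∃ b' : B, b = z + algebraMap R B x * b' := by
  have hinj : Function.Injective (algebraMap R B) := by
    intro a b hab
    apply IsFractionRing.injective R K
    have := congrArg (fun z : B => (z : K)) hab
    simpa using this
  set xB : B := algebraMap R B x with hxB
  have hxB0 : xB ≠ 0 := by
    intro h
    apply hx
    apply hinj
    rw [map_zero]; exact h
  -- the ideals `I n = {r | r ∈ x ^ n B}`
  let I : ℕ → Ideal R := fun n => Ideal.comap (algebraMap R B) (Ideal.span {xB ^ n})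
  have hmemI : ∀ n r, r ∈ I n ↔ ∃ b : B, algebraMap R B r = xB ^ n * b := by
    intro n r
    change algebraMap R B r ∈ Ideal.span {xB ^ n} ↔ _
    rw [Ideal.mem_span_singleton']
    constructor
    · rintro ⟨b, hb⟩; exact ⟨b, by rw [← hb, mul_comm]⟩
    · rintro ⟨b, hb⟩; exact ⟨b, by rw [hb, mul_comm]⟩
  have hanti : Antitone I := by
    intro m n hmn
    apply Ideal.comap_mono
    rw [Ideal.span_singleton_le_span_singleton]
    exact pow_dvd_pow xB hmn
  obtain ⟨n₀, hn₀⟩ := exists_stabilizes_mod hx I hanti
  have hstep : ∀ k, n₀ ≤ k → I k ≤ I (k + 1) ⊔ Ideal.span {x} := fun k hk =>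
    (hanti hk).trans (hn₀ (k + 1) (hk.trans (Nat.le_succ k)))
  -- the property `P k b`
  let P : ℕ → B → Prop := fun k b => ∃ (r : R) (b' : B), xB ^ k * b = algebraMap R B r + xB ^ (k + 1) * b'
  have hup : ∀ k b, P k b → P (k + 1) b := by
    rintro k b ⟨r, b', h⟩
    refine ⟨x * r, b', ?_⟩
    rw [pow_succ, mul_assoc, mul_comm xB b, ← mul_assoc, h, map_mul, ← hxB]
    ring
  have hup' : ∀ j k b, P k b → P (k + j) b := by
    intro j
    induction j with
    | zero => intro k b h; simpa using h
    | succ j ih => intro k b h; rw [← add_assoc]; exact hup _ _ (ih k b h)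
  have hdown : ∀ k, n₀ ≤ k → ∀ b, P (k + 1) b → P k b := by
    rintro k hk b ⟨r, b', h⟩
    have hr : r ∈ I (k + 1) := by
      rw [hmemI]
      refine ⟨b - xB * b', ?_⟩
      have : algebraMap R B r = xB ^ (k + 1) * b - xB ^ (k + 1 + 1) * b' := by rw [h]; ring
      rw [this]; ring
    have hr' := hstep (k + 1) (hk.trans (Nat.le_succ k)) hr
    obtain ⟨r₁, hr₁, r₂, hr₂, rfl⟩ := Submodule.mem_sup.mp hr'
    obtain ⟨b₁, hb₁⟩ := (hmemI _ _).mp hr₁
    obtain ⟨c, rfl⟩ := Ideal.mem_span_singleton'.mp hr₂
    refine ⟨c, b₁ + b', ?_⟩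
    apply mul_left_cancel₀ hxB0
    have : xB * (xB ^ k * b) = xB ^ (k + 1) * b := by ring
    rw [this, h, map_add, hb₁, map_mul, ← hxB]
    ring
  have hdown' : ∀ j b, P (n₀ + j) b → P n₀ b := by
    intro j
    induction j with
    | zero => intro b h; simpa using h
    | succ j ih => intro b h; exact ih b (hdown _ (Nat.le_add_right _ _) b h)
  -- every element satisfies `P k` for some `k`
  have hex : ∀ b : B, ∃ k, P k b := by
    intro b
    obtain ⟨⟨a, s⟩, has⟩ := IsLocalization.surj (nonZeroDivisors R) (b : K)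
    have hs0 : (s : R) ≠ 0 := nonZeroDivisors.ne_zero s.2
    have has' : b * algebraMap R B s = algebraMap R B a := by
      apply Subtype.ext
      simpa using has
    obtain ⟨k₀, hk₀⟩ := exists_stabilizes_mod hs0 (fun n => Ideal.span {x ^ n}) (by
      intro m n hmn
      rw [Ideal.span_singleton_le_span_singleton]
      exact pow_dvd_pow x hmn)
    have h1 := hk₀ (k₀ + 1) (Nat.le_succ _) (Ideal.mem_span_singleton_self _)
    obtain ⟨u, hu, w, hw, huw⟩ := Submodule.mem_sup.mp h1
    obtain ⟨c, rfl⟩ := Ideal.mem_span_singleton'.mp hu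
    obtain ⟨d, rfl⟩ := Ideal.mem_span_singleton'.mp hw
    refine ⟨k₀, d * a, c • b, ?_⟩
    have h2 : xB ^ k₀ = algebraMap R B c * xB ^ (k₀ + 1) + algebraMap R B d * algebraMap R B s := by
      rw [hxB, ← map_pow, ← map_pow, ← map_mul, ← map_mul, ← map_add, huw]
    rw [h2, add_mul, mul_assoc (algebraMap R B d), mul_comm (algebraMap R B s) b, has',
      Algebra.smul_def, map_mul]
    ring
  have hP : ∀ b : B, P n₀ b := by
    intro b
    obtain ⟨k, hk⟩ := hex b
    have := hup' n₀ k b hk
    rw [add_comm] at this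
    exact hdown' k b this
  -- the module `N`
  let N : Submodule R B :=
    { carrier := {z | ∃ r : R, xB ^ n₀ * z = algebraMap R B r}
      zero_mem' := ⟨0, by simp⟩
      add_mem' := by
        rintro z₁ z₂ ⟨r₁, h₁⟩ ⟨r₂, h₂⟩
        exact ⟨r₁ + r₂, by rw [mul_add, h₁, h₂, map_add]⟩
      smul_mem' := by
        rintro c z ⟨r, h⟩
        exact ⟨c * r, by rw [Algebra.smul_def, mul_left_comm, h, map_mul]⟩ }
  refine ⟨N, ?_, ?_⟩
  · let f : B →ₗ[R] B := LinearMap.mulLeft R (xB ^ n₀)
    have hf : Function.Injective f := by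
      intro a b hab
      exact mul_left_cancel₀ (pow_ne_zero _ hxB0) hab
    apply Submodule.fg_of_fg_map_injective f hf
    have hq : IsNoetherian R (Submodule.span R {(1 : B)}) :=
      isNoetherian_span_of_finite R (Set.finite_singleton _)
    apply isNoetherian_submodule.mp hq
    rintro _ ⟨z, ⟨r, hr⟩, rfl⟩
    change xB ^ n₀ * z ∈ _
    rw [hr, Algebra.algebraMap_eq_smul_one]
    exact Submodule.smul_mem _ _ (Submodule.mem_span_singleton_self _)
  · intro b
    obtain ⟨r, b', h⟩ := hP b
    refine ⟨b - xB * b', ⟨r, ?_⟩, b', by ring⟩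
    have : algebraMap R B r = xB ^ n₀ * b - xB ^ (n₀ + 1) * b' := by rw [h]; ring
    rw [this]; ring

/-- **Krull–Akizuki** for subalgebras of the fraction field: if `R` is a Noetherian domain of Krull
dimension `≤ 1` with fraction field `K`, every `R`-subalgebra of `K` is a Noetherian ring. -/
theorem isNoetherianRing_of_between (B : Subalgebra R K) : IsNoetherianRing B := by
  classical
  have hinj : Function.Injective (algebraMap R B) := by
    intro a b hab
    apply IsFractionRing.injective R K
    have := congrArg (fun z : B => (z : K)) hab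
    simpa using this
  rw [isNoetherianRing_iff_ideal_fg]
  intro J
  by_cases hJ : J = ⊥
  · rw [hJ]; exact Submodule.fg_bot
  obtain ⟨j, hjJ, hj0⟩ := Submodule.exists_mem_ne_zero_of_ne_bot hJ
  obtain ⟨⟨a, s⟩, has⟩ := IsLocalization.surj (nonZeroDivisors R) (j : K)
  have hs0 : (s : R) ≠ 0 := nonZeroDivisors.ne_zero s.2
  have has' : j * algebraMap R B s = algebraMap R B a := by
    apply Subtype.ext
    simpa using has
  have ha0 : a ≠ 0 := by
    rintro rfl
    rw [map_zero] at has'
    rcases mul_eq_zero.mp has' with h | h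
    · exact hj0 h
    · apply hs0; apply hinj; rw [map_zero]; exact h
  have haJ : algebraMap R B a ∈ J := by
    rw [← has']
    exact J.mul_mem_right _ hjJ
  obtain ⟨N, hNfg, hN⟩ := exists_fg_add_smul B ha0
  have hNnoeth : IsNoetherian R N := isNoetherian_of_fg_of_noetherian N hNfg
  let M : Submodule R B := N ⊓ J.restrictScalars R
  have hMfg : M.FG := isNoetherian_submodule.mp hNnoeth M inf_le_left
  obtain ⟨T, hT⟩ := hMfg
  refine ⟨insert (algebraMap R B a) T, ?_⟩
  apply le_antisymm
  · rw [Submodule.span_le]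
    intro z hz
    rw [Finset.coe_insert, Set.mem_insert_iff] at hz
    rcases hz with rfl | hz
    · exact haJ
    · have : z ∈ M := by rw [← hT]; exact Submodule.subset_span hz
      exact this.2
  · intro j' hj'
    obtain ⟨z, hzN, b', rfl⟩ := hN j'
    have hzJ : z ∈ J := by
      have : z = (z + algebraMap R B a * b') - algebraMap R B a * b' := by ring
      rw [this]
      exact J.sub_mem hj' (J.mul_mem_right _ haJ)
    have hzM : z ∈ M := ⟨hzN, hzJ⟩
    have hle : Submodule.span R (T : Set B) ≤
        (Ideal.span ((insert (algebraMap R B a) T : Finset B) : Set B)).restrictScalars R := by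
      rw [Submodule.span_le]
      intro t ht
      apply Ideal.subset_span
      rw [Finset.coe_insert]
      exact Set.mem_insert_of_mem _ ht
    rw [← hT] at hzM
    refine Ideal.add_mem _ (hle hzM) (Ideal.mul_mem_right _ _ (Ideal.subset_span ?_))
    rw [Finset.coe_insert]
    exact Set.mem_insert _ _

end KA

end Groth.Agent.Lib.Helper78
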