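import Mathlib
import Groth.Agent.Lib.Helper78.KrullAkizuki

/-!
# Discrete valuation rings dominating Noetherian local domains (helper78)

* `exists_dvr_of_dim_one`: a one-dimensional Noetherian local domain `R` with fraction field `L` is
  dominated by a discrete valuation subring of `L` (normalise, use Krull–Akizuki, localise).
-/

set_option autoImplicit false
universe u v

namespace Groth.Agent.Lib.Helper78

open IsLocalRing

/-- The valuation subring of `L` attached to a valuation ring `O` with fraction field `L`. -/
noncomputable def valuationSubringOf (O : Type u) [CommRing O] [IsDomain O] [ValuationRing O]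
    (L : Type v) [Field L] [Algebra O L] [IsFractionRing O L] : ValuationSubring L :=
  (ValuationRing.valuation O L).valuationSubring

theorem mem_valuationSubringOf_iff (O : Type u) [CommRing O] [IsDomain O] [ValuationRing O]
    (L : Type v) [Field L] [Algebra O L] [IsFractionRing O L] (x : L) :
    x ∈ valuationSubringOf O L ↔ ∃ a : O, algebraMap O L a = x :=
  ValuationRing.mem_integer_iff O L x

/-- The ring isomorphism between `O` and its associated valuation subring. -/
noncomputable def equivValuationSubringOf (O : Type u) [CommRing O] [IsDomain O] [ValuationRing O]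
    (L : Type v) [Field L] [Algebra O L] [IsFractionRing O L] :
    O ≃+* valuationSubringOf O L :=
  (ValuationRing.equivInteger O L).trans
    { toFun := fun x => ⟨x.1, x.2⟩
      invFun := fun x => ⟨x.1, x.2⟩
      left_inv := fun _ => rfl
      right_inv := fun _ => rfl
      map_mul' := fun _ _ => rfl
      map_add' := fun _ _ => rfl }

theorem ValuationSubring.valuation_lt_one_of_inv_not_mem {L : Type v} [Field L]
    (O : ValuationSubring L) (x : L) (hx : x⁻¹ ∉ O) : O.valuation x < 1 := by
  by_contra h
  push Not at h
  apply hx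
  rw [← ValuationSubring.valuation_le_one_iff, map_inv₀]
  exact inv_le_one_of_one_le₀ h

theorem exists_dvr_of_dim_one (R : Type u) [CommRing R] [IsDomain R] [IsNoetherianRing R]
    [IsLocalRing R] [Ring.KrullDimLE 1 R] (hR : ¬ IsField R)
    (L : Type v) [Field L] [Algebra R L] [IsFractionRing R L] :
    ∃ O : ValuationSubring L, IsDiscreteValuationRing O ∧ (∀ r : R, algebraMap R L r ∈ O) ∧
      ∀ r ∈ maximalIdeal R, O.valuation (algebraMap R L r) < 1 := by
  let B := integralClosure R L
  have hBN : IsNoetherianRing B := isNoetherianRing_of_between B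
  have hdimR : Ring.DimensionLEOne R := ⟨fun hp hprime => hprime.isMaximal_of_ne_bot hp⟩
  have hdimB : Ring.DimensionLEOne B := inferInstance
  have hinjRB : Function.Injective (algebraMap R B) := by
    intro a b hab
    apply IsFractionRing.injective R L
    have := congrArg (fun z : B => (z : L)) hab
    simpa using this
  have hfracB : IsFractionRing B L := by
    apply IsFractionRing.of_field
    intro z
    obtain ⟨x, y, -, rfl⟩ := IsFractionRing.div_surjective (A := R) z
    exact ⟨algebraMap R B x, algebraMap R B y, rfl⟩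
  have hded : IsDedekindDomain B := by
    refine (isDedekindDomain_iff B L).mpr ⟨inferInstance, hBN, hdimB, fun {x} hx => ?_⟩
    have hx' : IsIntegral R x := isIntegral_trans x hx
    exact ⟨⟨x, hx'⟩, rfl⟩
  obtain ⟨n, hnmax, hncomap⟩ := Ideal.exists_ideal_over_maximal_of_isIntegral (S := B)
    (maximalIdeal R) (by
      rw [(RingHom.injective_iff_ker_eq_bot _).mp hinjRB]
      exact bot_le)
  have hn0 : n ≠ ⊥ := by
    rintro rfl
    apply hR
    rw [IsLocalRing.isField_iff_maximalIdeal_eq, ← hncomap]
    rw [eq_bot_iff]
    intro x hx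
    rw [Ideal.mem_comap, Ideal.mem_bot] at hx
    rw [Ideal.mem_bot]
    apply hinjRB
    rw [hx, map_zero]
  have hnprime : n.IsPrime := hnmax.isPrime
  let Bn := Localization.AtPrime n
  have hdvr : IsDiscreteValuationRing Bn :=
    IsLocalization.AtPrime.isDiscreteValuationRing_of_dedekind_domain B hn0 Bn
  -- the algebra structure `Bn → L`
  have hunits : ∀ y : n.primeCompl, IsUnit (algebraMap B L y) := by
    intro y
    apply IsUnit.mk0
    intro h
    have : (y : B) = 0 := (IsFractionRing.injective B L) (by rw [h, map_zero])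
    exact y.2 (by rw [this]; exact n.zero_mem)
  let algBnL : Algebra Bn L := (IsLocalization.lift (M := n.primeCompl) (S := Bn) hunits).toAlgebra
  have htower : IsScalarTower B Bn L :=
    IsScalarTower.of_algebraMap_eq (fun x => (IsLocalization.lift_eq hunits x).symm)
  have hfracBn : IsFractionRing Bn L :=
    IsFractionRing.isFractionRing_of_isDomain_of_isLocalization n.primeCompl Bn L
  refine ⟨valuationSubringOf Bn L, ?_, ?_, ?_⟩
  · exact IsDiscreteValuationRing.RingEquivClass.isDiscreteValuationRing (equivValuationSubringOf Bn L)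
  · intro r
    rw [mem_valuationSubringOf_iff]
    refine ⟨algebraMap B Bn (algebraMap R B r), ?_⟩
    rw [← IsScalarTower.algebraMap_apply B Bn L]
    rfl
  · intro r hr
    by_cases hr0 : algebraMap R L r = 0
    · rw [hr0, map_zero]; exact zero_lt_one
    apply ValuationSubring.valuation_lt_one_of_inv_not_mem
    rw [mem_valuationSubringOf_iff]
    rintro ⟨β, hβ⟩
    have h1 : algebraMap Bn L (β * algebraMap B Bn (algebraMap R B r)) = 1 := by
      rw [map_mul, hβ, ← IsScalarTower.algebraMap_apply B Bn L]
      change (algebraMap R L r)⁻¹ * algebraMap R L r = 1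
      exact inv_mul_cancel₀ hr0
    have h2 : β * algebraMap B Bn (algebraMap R B r) = 1 :=
      (IsFractionRing.injective Bn L) (by rw [h1, map_one])
    have h3 : IsUnit (algebraMap B Bn (algebraMap R B r)) := IsUnit.of_mul_eq_one β (by rw [mul_comm]; exact h2)
    have h4 := (IsLocalization.AtPrime.isUnit_to_map_iff Bn n _).mp h3
    apply h4
    change algebraMap R B r ∈ n
    rw [← Ideal.mem_comap, hncomap]
    exact hr

/-- **Stacks 00PH**: a Noetherian local domain `A` which is not a field is dominated by a discrete
valuation subring of any finitely generated extension `L` of its fraction field. -/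
theorem exists_dvr_dominating (A : Type u) [CommRing A] [IsDomain A] [IsNoetherianRing A]
    [IsLocalRing A] (hA : ¬ IsField A) (K : Type u) [Field K] [Algebra A K] [IsFractionRing A K]
    (L : Type u) [Field L] [Algebra K L] [Algebra A L] [IsScalarTower A K L]
    (hfg : (⊤ : IntermediateField K L).FG) :
    ∃ R : ValuationSubring L, IsDiscreteValuationRing R ∧ (∀ a : A, algebraMap A L a ∈ R) ∧
      ∀ a ∈ maximalIdeal A, R.valuation (algebraMap A L a) < 1 := by
  classical
  have hinjAL : Function.Injective (algebraMap A L) := by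
    rw [IsScalarTower.algebraMap_eq A K L]
    exact (algebraMap K L).injective.comp (IsFractionRing.injective A K)
  -- a valuation ring dominating `A`
  obtain ⟨V, hV, hVloc⟩ := IsLocalRing.exists_factor_valuationRing (algebraMap A L)
  have hVle : ∀ a : A, V.valuation (algebraMap A L a) ≤ 1 := fun a =>
    (V.valuation_le_one_iff _).mpr (hV a)
  have hVlt : ∀ a ∈ maximalIdeal A, V.valuation (algebraMap A L a) < 1 := by
    intro a ha
    have h1 : ¬ IsUnit ((algebraMap A L).codRestrict V.toSubring hV a) := fun h =>
      ha (hVloc.map_nonunit a h)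
    exact (V.valuation_lt_one_iff ⟨algebraMap A L a, hV a⟩).mp h1
  -- generators of the maximal ideal
  obtain ⟨G, hG⟩ := (isNoetherianRing_iff_ideal_fg A).mp inferInstance (maximalIdeal A)
  have hm0 : maximalIdeal A ≠ ⊥ := fun h => hA ((IsLocalRing.isField_iff_maximalIdeal_eq).mpr h)
  have hGne : G.Nonempty := by
    rw [Finset.nonempty_iff_ne_empty]
    rintro rfl
    apply hm0
    rw [← hG]; simp
  obtain ⟨g₀, hg₀G, hg₀⟩ := Finset.exists_max_image G (fun g => V.valuation (algebraMap A L g)) hGne
  set y : L := algebraMap A L g₀ with hy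
  have hGm : ∀ g ∈ G, g ∈ maximalIdeal A := fun g hg => by
    rw [← hG]; exact Ideal.subset_span hg
  have hy0 : y ≠ 0 := by
    intro h
    apply hm0
    rw [← hG, Ideal.span_eq_bot]
    intro g hg
    have h1 := hg₀ g hg
    rw [h, map_zero] at h1
    have h2 : V.valuation (algebraMap A L g) = 0 := le_antisymm h1 zero_le
    rw [map_eq_zero] at h2
    exact hinjAL (by rw [h2, map_zero])
  have hylt : V.valuation y < 1 := hVlt g₀ (hGm g₀ hg₀G)
  -- generators of the field extension
  obtain ⟨S, hS⟩ := hfg
  let σ : L → L := fun s => if s ∈ V then s else s⁻¹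
  have hσV : ∀ s, σ s ∈ V := by
    intro s
    by_cases h : s ∈ V
    · simp only [σ, h, if_true]
    · simp only [σ, h, if_false]
      exact (V.mem_or_inv_mem s).resolve_left h
  let τ : A → L := fun g => algebraMap A L g / y
  have hτV : ∀ g ∈ G, τ g ∈ V := by
    intro g hg
    rw [← V.valuation_le_one_iff]
    simp only [τ, map_div₀]
    exact div_le_one_of_le₀ (hg₀ g hg) zero_le
  let T : Finset L := S.image σ ∪ G.image τ
  have hTV : ∀ t ∈ T, t ∈ V := by
    intro t ht
    rcases Finset.mem_union.mp ht with h | h
    · obtain ⟨s, -, rfl⟩ := Finset.mem_image.mp h; exact hσV s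
    · obtain ⟨g, hg, rfl⟩ := Finset.mem_image.mp h; exact hτV g hg
  -- the finitely generated algebra `B`
  let B : Subalgebra A L := Algebra.adjoin A (T : Set L)
  have hBV : ∀ b ∈ B, b ∈ V := by
    intro b hb
    induction hb using Algebra.adjoin_induction with
    | mem x hx => exact hTV x hx
    | algebraMap r => exact hV r
    | add x y _ _ hx hy => exact V.add_mem _ _ hx hy
    | mul x y _ _ hx hy => exact V.mul_mem _ _ hx hy
  have hTB : ∀ t ∈ T, t ∈ B := fun t ht => Algebra.subset_adjoin ht
  have hBft : Algebra.FiniteType A B :=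
    (Subalgebra.fg_iff_finiteType _).mp (Subalgebra.fg_adjoin_finset T)
  have hBN : IsNoetherianRing B := Algebra.FiniteType.isNoetherianRing A B
  have hinjAB : Function.Injective (algebraMap A B) := by
    intro a b hab
    apply hinjAL
    have := congrArg (fun z : B => (z : L)) hab
    simpa using this
  -- `B` has fraction field `L`
  have hfracB : IsFractionRing B L := by
    apply IsFractionRing.of_field
    intro z
    let F₀ : Subfield L := Subfield.closure (B : Set L)
    have hF₀ : ∀ k : K, algebraMap K L k ∈ F₀ := by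
      intro k
      obtain ⟨a₁, a₂, -, rfl⟩ := IsFractionRing.div_surjective (A := A) k
      rw [map_div₀, ← IsScalarTower.algebraMap_apply A K L, ← IsScalarTower.algebraMap_apply A K L]
      exact F₀.div_mem (Subfield.subset_closure (B.algebraMap_mem a₁))
        (Subfield.subset_closure (B.algebraMap_mem a₂))
    let F : IntermediateField K L := F₀.toIntermediateField hF₀
    have hSF : ∀ s ∈ S, s ∈ F := by
      intro s hs
      have h1 : σ s ∈ F := Subfield.subset_closure
        (hTB _ (Finset.mem_union_left _ (Finset.mem_image_of_mem σ hs)))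
      by_cases h : s ∈ V
      · simpa only [σ, h, if_true] using h1
      · simp only [σ, h, if_false] at h1
        have := F.inv_mem h1
        rwa [inv_inv] at this
    have hFtop : F = ⊤ := by
      rw [eq_top_iff, ← hS, IntermediateField.adjoin_le_iff]
      exact hSF
    have hz : z ∈ F₀ := by
      have : z ∈ F := by rw [hFtop]; trivial
      exact this
    obtain ⟨b₁, hb₁, b₂, hb₂, rfl⟩ := Subfield.mem_closure_iff.mp hz
    have hcl : Subring.closure (B : Set L) = B.toSubring := Subring.closure_eq B.toSubring
    rw [hcl] at hb₁ hb₂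
    exact ⟨⟨b₁, hb₁⟩, ⟨b₂, hb₂⟩, rfl⟩
  -- the element `y` of `B` is not a unit
  let yB : B := algebraMap A B g₀
  have hyB : (yB : L) = y := rfl
  have hyB0 : yB ≠ 0 := by
    intro h
    apply hy0
    rw [← hyB, h]; rfl
  have hyBnu : ¬ IsUnit yB := by
    rintro ⟨u, hu⟩
    have h1 : y * ((u⁻¹ : Bˣ) : B) = 1 := by
      rw [← hyB, ← hu, ← Subalgebra.coe_mul, Units.mul_inv]; rfl
    have h2 : V.valuation y * V.valuation (((u⁻¹ : Bˣ) : B) : L) = 1 := by
      rw [← map_mul, h1, map_one]
    have h3 : V.valuation (((u⁻¹ : Bˣ) : B) : L) ≤ 1 :=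
      (V.valuation_le_one_iff _).mpr (hBV _ (Subtype.mem _))
    have h4 : V.valuation y * V.valuation (((u⁻¹ : Bˣ) : B) : L) < 1 :=
      mul_lt_one_of_nonneg_of_lt_one_left zero_le hylt h3
    exact absurd h2 h4.ne
  -- a minimal prime over `y`
  obtain ⟨J, hJmax, hJle⟩ := Ideal.exists_le_maximal (Ideal.span {yB})
    (by rw [Ne, Ideal.span_singleton_eq_top]; exact hyBnu)
  have hJprime : J.IsPrime := hJmax.isPrime
  obtain ⟨q, hqmin, -⟩ := Ideal.exists_minimalPrimes_le hJle
  have hqprime : q.IsPrime := hqmin.1.1
  have hyq : yB ∈ q := hqmin.1.2 (Ideal.mem_span_singleton_self yB)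
  have hq0 : q ≠ ⊥ := fun h => hyB0 (by rw [h, Ideal.mem_bot] at hyq; exact hyq)
  have hqht : q.height ≤ 1 :=
    Ideal.height_le_one_of_isPrincipal_of_mem_minimalPrimes (Ideal.span {yB}) q hqmin
  -- the maximal ideal of `A` maps into `q`
  have hmq : ∀ a ∈ maximalIdeal A, algebraMap A B a ∈ q := by
    intro a ha
    have h1 : Ideal.map (algebraMap A B) (maximalIdeal A) ≤ q := by
      rw [← hG, Ideal.map_span, Ideal.span_le]
      rintro _ ⟨g, hg, rfl⟩
      have hτB : τ g ∈ B := hTB _ (Finset.mem_union_right _ (Finset.mem_image_of_mem τ hg))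
      have : algebraMap A B g = ⟨τ g, hτB⟩ * yB := by
        apply Subtype.ext
        change algebraMap A L g = (algebraMap A L g / y) * y
        rw [div_mul_cancel₀ _ hy0]
      rw [this]
      exact q.mul_mem_left _ hyq
    exact h1 (Ideal.mem_map_of_mem _ ha)
  -- the localisation
  let Bq := Localization.AtPrime q
  have hBqN : IsNoetherianRing Bq := IsLocalization.isNoetherianRing q.primeCompl Bq hBN
  have hBqdim : Ring.KrullDimLE 1 Bq := by
    rw [Ring.krullDimLE_iff, IsLocalization.AtPrime.ringKrullDim_eq_height q Bq]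
    exact_mod_cast hqht
  have hBqnf : ¬ IsField Bq := IsLocalization.AtPrime.not_isField B hq0 Bq
  have hunits : ∀ z : q.primeCompl, IsUnit (algebraMap B L z) := by
    intro z
    apply IsUnit.mk0
    intro h
    have : (z : B) = 0 := (IsFractionRing.injective B L) (by rw [h, map_zero])
    exact z.2 (by rw [this]; exact q.zero_mem)
  let algBqL : Algebra Bq L := (IsLocalization.lift (M := q.primeCompl) (S := Bq) hunits).toAlgebra
  have htower : IsScalarTower B Bq L :=
    IsScalarTower.of_algebraMap_eq (fun x => (IsLocalization.lift_eq hunits x).symm)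
  have hfracBq : IsFractionRing Bq L :=
    IsFractionRing.isFractionRing_of_isDomain_of_isLocalization q.primeCompl Bq L
  obtain ⟨O, hOdvr, hOmem, hOlt⟩ := exists_dvr_of_dim_one Bq hBqnf L
  have hcomp : ∀ a : A, algebraMap A L a = algebraMap Bq L (algebraMap B Bq (algebraMap A B a)) := by
    intro a
    rw [← IsScalarTower.algebraMap_apply B Bq L]
    rfl
  refine ⟨O, hOdvr, fun a => ?_, fun a ha => ?_⟩
  · rw [hcomp]; exact hOmem _
  · rw [hcomp]
    apply hOlt
    rw [IsLocalization.AtPrime.to_map_mem_maximal_iff Bq q]
    exact hmq a ha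

end Groth.Agent.Lib.Helper78
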