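import Mathlib
import Groth.Agent.Lib.Helper78.DVRDominate

/-!
# Discrete valuation rings through specializations in locally Noetherian schemes (helper78)

`exists_dvr_specialization` (EGA II 7.1.7 / Stacks 054F-like): for `p : X ⟶ Y` locally of finite type,
`Y` locally Noetherian, `x : X` and a proper specialization `p x ⤳ y'`, there is a discrete valuation
subring `A` of `κ(x)` and `Spec A ⟶ Y` sending the closed point to `y'` and compatible with
`Spec κ(x) ⟶ X ⟶ Y`.
-/

set_option autoImplicit false
universe u

namespace Groth.Agent.Lib.Helper78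

open AlgebraicGeometry CategoryTheory IsLocalRing

/-- The stalk specialization map is essentially of finite type (it is a localization). -/
theorem essFiniteType_stalkSpecializes {Y : Scheme.{u}} {y y' : Y} (hsp : y ⤳ y') :
    (Y.presheaf.stalkSpecializes hsp).hom.EssFiniteType := by
  obtain ⟨_, ⟨W, hW, rfl⟩, hy'W, -⟩ :=
    Y.isBasis_affineOpens.exists_subset_of_mem_open (Set.mem_univ y') isOpen_univ
  have hyW : y ∈ W := hsp.mem_open W.2 hy'W
  have hgerm : Y.presheaf.germ W y' hy'W ≫ Y.presheaf.stalkSpecializes hsp =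
      Y.presheaf.germ W y hyW := TopCat.Presheaf.germ_stalkSpecializes _ _ _
  apply RingHom.EssFiniteType.of_comp (Y.presheaf.germ W y' hy'W).hom
  rw [← CommRingCat.hom_comp, hgerm]
  have hloc := hW.isLocalization_stalk ⟨y, hyW⟩
  let := TopCat.Presheaf.algebra_section_stalk Y.presheaf (⟨y, hyW⟩ : W)
  exact RingHom.essFiniteType_algebraMap.mpr
    (Algebra.EssFiniteType.of_isLocalization _ (hW.primeIdealOf ⟨y, hyW⟩).asIdeal.primeCompl)

theorem exists_dvr_specialization {X Y : Scheme.{u}} [IsLocallyNoetherian Y]
    (p : X ⟶ Y) [LocallyOfFiniteType p] (x : X) (y' : Y) (hsp : p x ⤳ y') (hne : y' ≠ p x) :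
    ∃ (A : ValuationSubring (X.residueField x)) (h : Spec (CommRingCat.of A) ⟶ Y),
      IsDiscreteValuationRing A ∧ h.base (IsLocalRing.closedPoint A) = y' ∧
      Spec.map (CommRingCat.ofHom A.subtype) ≫ h = X.fromSpecResidueField x ≫ p := by
  -- the ring map from the local ring at `y'` to the residue field of `x`
  let φ : Y.presheaf.stalk y' ⟶ X.residueField x :=
    Y.presheaf.stalkSpecializes hsp ≫ p.stalkMap x ≫ X.residue x
  have hφSpec : Spec.map φ ≫ Y.fromSpecStalk y' = X.fromSpecResidueField x ≫ p := by
    simp only [φ, Spec.map_comp, Category.assoc, Scheme.SpecMap_stalkSpecializes_fromSpecStalk,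
      Scheme.SpecMap_stalkMap_fromSpecStalk]
    rfl
  have hφess : φ.hom.EssFiniteType := by
    simp only [φ, CommRingCat.hom_comp]
    refine RingHom.EssFiniteType.comp (essFiniteType_stalkSpecializes hsp)
      (RingHom.EssFiniteType.comp (LocallyOfFiniteType.stalkMap (f := p) x) ?_)
    exact (RingHom.FiniteType.of_surjective _ (X.residue_surjective x)).essFiniteType
  -- the image of the local ring in the residue field
  let I : Ideal (Y.presheaf.stalk y') := RingHom.ker φ.hom
  have hIprime : I.IsPrime := RingHom.ker_isPrime φ.hom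
  let ψ : (Y.presheaf.stalk y') ⧸ I →+* X.residueField x := RingHom.kerLift φ.hom
  have hψinj : Function.Injective ψ := RingHom.kerLift_injective φ.hom
  have hψmk : ∀ e, ψ (Ideal.Quotient.mk I e) = φ.hom e := fun e => RingHom.kerLift_mk φ.hom e
  have hψφ : ψ.comp (Ideal.Quotient.mk I) = φ.hom := RingHom.ext hψmk
  have hψess : ψ.EssFiniteType :=
    RingHom.EssFiniteType.of_comp (Ideal.Quotient.mk I) (by rw [hψφ]; exact hφess)
  have hDloc : IsLocalRing ((Y.presheaf.stalk y') ⧸ I) :=
    IsLocalRing.of_surjective' (Ideal.Quotient.mk I) Ideal.Quotient.mk_surjective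
  have hmkloc : IsLocalHom (Ideal.Quotient.mk I) :=
    IsLocalHom.of_surjective _ Ideal.Quotient.mk_surjective
  -- it is not a field
  have hDnf : ¬ IsField ((Y.presheaf.stalk y') ⧸ I) := by
    intro hfield
    apply hne
    have hImax : I.IsMaximal := Ideal.Quotient.maximal_of_isField I hfield
    have hI : I = maximalIdeal (Y.presheaf.stalk y') := IsLocalRing.eq_maximalIdeal hImax
    have h1 : (Spec.map φ) (closedPoint (X.residueField x)) = closedPoint (Y.presheaf.stalk y') := by
      apply PrimeSpectrum.ext
      change Ideal.comap φ.hom (maximalIdeal (X.residueField x)) = maximalIdeal (Y.presheaf.stalk y')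
      rw [IsLocalRing.maximalIdeal_eq_bot, ← hI]
      rfl
    have h2 := congrArg (fun g : Spec (X.residueField x) ⟶ Y => g (closedPoint (X.residueField x))) hφSpec
    change (Y.fromSpecStalk y') ((Spec.map φ) (closedPoint (X.residueField x))) =
      p ((X.fromSpecResidueField x) (closedPoint (X.residueField x))) at h2
    rw [h1, Scheme.fromSpecStalk_closedPoint] at h2
    have h3 : (X.fromSpecResidueField x) (closedPoint (X.residueField x)) = x :=
      Scheme.fromSpecResidueField_apply _ _
    rw [h3] at h2
    exact h2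
  -- algebra structures
  let algDL : Algebra ((Y.presheaf.stalk y') ⧸ I) (X.residueField x) := ψ.toAlgebra
  have : FaithfulSMul ((Y.presheaf.stalk y') ⧸ I) (X.residueField x) :=
    (faithfulSMul_iff_algebraMap_injective _ _).mpr hψinj
  let := FractionRing.liftAlgebra ((Y.presheaf.stalk y') ⧸ I) (X.residueField x)
  have : Algebra.EssFiniteType ((Y.presheaf.stalk y') ⧸ I) (X.residueField x) := hψess
  have : Algebra.EssFiniteType (FractionRing ((Y.presheaf.stalk y') ⧸ I)) (X.residueField x) :=
    Algebra.EssFiniteType.of_comp ((Y.presheaf.stalk y') ⧸ I) _ _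
  have hfg := IntermediateField.fg_top (FractionRing ((Y.presheaf.stalk y') ⧸ I)) (X.residueField x)
  obtain ⟨R, hRdvr, hRmem, hRlt⟩ := exists_dvr_dominating ((Y.presheaf.stalk y') ⧸ I) hDnf
    (FractionRing ((Y.presheaf.stalk y') ⧸ I)) (X.residueField x) hfg
  -- the local homomorphism to the discrete valuation ring
  have hφR : ∀ e, φ.hom e ∈ R.toSubring := fun e => by
    rw [← hψmk]; exact hRmem (Ideal.Quotient.mk I e)
  let ρ : Y.presheaf.stalk y' →+* R := φ.hom.codRestrict R.toSubring hφR
  have hρloc : IsLocalHom ρ := by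
    constructor
    intro e he
    by_contra hne'
    have h1 : Ideal.Quotient.mk I e ∈ maximalIdeal ((Y.presheaf.stalk y') ⧸ I) := by
      rw [IsLocalRing.mem_maximalIdeal, mem_nonunits_iff]
      exact fun h => hne' (hmkloc.map_nonunit e h)
    have h2 := hRlt _ h1
    have h3 : ρ e ∈ maximalIdeal R := by
      rw [ValuationSubring.valuation_lt_one_iff]
      have : ((ρ e : R) : X.residueField x) = φ.hom e := rfl
      rw [this, ← hψmk]
      exact h2
    exact h3 he
  refine ⟨R, Spec.map (CommRingCat.ofHom ρ) ≫ Y.fromSpecStalk y', hRdvr, ?_, ?_⟩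
  · have h1 : (Spec.map (CommRingCat.ofHom ρ)) (closedPoint R) = closedPoint (Y.presheaf.stalk y') :=
      IsLocalRing.comap_closedPoint ρ
    change (Y.fromSpecStalk y') ((Spec.map (CommRingCat.ofHom ρ)) (closedPoint R)) = y'
    rw [h1, Scheme.fromSpecStalk_closedPoint]
  · rw [← hφSpec, ← Spec.map_comp_assoc]
    rfl

end Groth.Agent.Lib.Helper78
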