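import Groth.Agent.S15345
import Mathlib.AlgebraicGeometry.Morphisms.UniversallyClosed
import Mathlib.AlgebraicGeometry.Morphisms.Immersion
import Mathlib.AlgebraicGeometry.AffineSpace

/-!
# A quasi-compact morphism is universally closed if its base changes to affine spaces are closed
(Stacks 05JX)
-/

set_option autoImplicit false
set_option linter.unusedSectionVars false
set_option linter.style.haveILetI false
universe u

namespace Groth.Agent.Lib.Helper78

open AlgebraicGeometry CategoryTheory Limits TensorProduct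
open Groth.Agent.S15345

/-- Base change of a closed map along a continuous map, when the other projection is inducing and
the square is surjective onto the set-theoretic fibre product. -/
theorem isClosedMap_snd_of_cartesian {A A' O P : Type*} [TopologicalSpace A] [TopologicalSpace A']
    [TopologicalSpace O] [TopologicalSpace P] (F : A → A') (hF : IsClosedMap F) (ψ : O → A')
    (hψc : Continuous ψ) (fst : P → A) (hfst : Topology.IsInducing fst)
    (snd : P → O) (hcomm : ∀ w, F (fst w) = ψ (snd w))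
    (hsurj : ∀ a o, F a = ψ o → ∃ w, fst w = a ∧ snd w = o) : IsClosedMap snd := by
  intro W hW
  obtain ⟨C, hC, rfl⟩ := hfst.isClosed_iff.mp hW
  have : snd '' (fst ⁻¹' C) = ψ ⁻¹' (F '' C) := by
    ext o
    constructor
    · rintro ⟨w, hw, rfl⟩
      exact ⟨fst w, hw, hcomm w⟩
    · rintro ⟨a, ha, hao⟩
      obtain ⟨w, rfl, rfl⟩ := hsurj a o hao
      exact ⟨w, ha, rfl⟩
  rw [this]
  exact (hF _ hC).preimage hψc

theorem isClosedMap_snd_congr {X S S' : Scheme.{u}} (f : X ⟶ S) {g₁ g₂ : S' ⟶ S} (e : g₁ = g₂)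
    (H : IsClosedMap (pullback.snd f g₁)) : IsClosedMap (pullback.snd f g₂) := by
  subst e; exact H

/-- If `X ×[S] 𝔸ⁿ_S ⟶ 𝔸ⁿ_S` is closed, then so is the base change of `f` along
`O ⟶ 𝔸ⁿ_S ⟶ S` for any immersion `O ⟶ 𝔸ⁿ_S`. -/
theorem isClosedMap_snd_of_immersion {X S : Scheme.{u}} (f : X ⟶ S) (n : Type u)
    (hf : IsClosedMap (pullback.snd f (𝔸(n; S) ↘ S))) {O : Scheme.{u}} (ψ : O ⟶ 𝔸(n; S))
    [IsImmersion ψ] : IsClosedMap (pullback.snd f (ψ ≫ 𝔸(n; S) ↘ S)) := by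
  have h1 : IsClosedMap (pullback.snd (pullback.snd f (𝔸(n; S) ↘ S)) ψ) :=
    isClosedMap_snd_of_cartesian _ hf ψ ψ.continuous
      (pullback.fst (pullback.snd f (𝔸(n; S) ↘ S)) ψ)
      (pullback.fst (pullback.snd f (𝔸(n; S) ↘ S)) ψ).isEmbedding.isInducing
      (pullback.snd (pullback.snd f (𝔸(n; S) ↘ S)) ψ)
      (fun w => by rw [← Scheme.Hom.comp_apply, ← Scheme.Hom.comp_apply, pullback.condition])
      (fun a o h => Scheme.Pullback.exists_preimage_pullback a o h)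
  have hpb : IsPullback (pullback.fst (pullback.snd f (𝔸(n; S) ↘ S)) ψ ≫ pullback.fst f _)
      (pullback.snd (pullback.snd f (𝔸(n; S) ↘ S)) ψ) f (ψ ≫ 𝔸(n; S) ↘ S) :=
    (IsPullback.of_hasPullback (pullback.snd f (𝔸(n; S) ↘ S)) ψ).paste_horiz
      (IsPullback.of_hasPullback f (𝔸(n; S) ↘ S))
  have h3 : pullback.snd f (ψ ≫ 𝔸(n; S) ↘ S) =
      hpb.isoPullback.inv ≫ pullback.snd (pullback.snd f (𝔸(n; S) ↘ S)) ψ :=
    (hpb.isoPullback_inv_snd).symm
  rw [h3, Scheme.Hom.comp_base, TopCat.coe_comp]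
  exact h1.comp hpb.isoPullback.inv.homeomorph.isClosedMap

theorem isClosedMap_snd_finiteType {X S : Scheme.{u}} (f : X ⟶ S)
    (hyp : ∀ n : ℕ, IsClosedMap (pullback.snd f (𝔸(ULift.{u} (Fin n); S) ↘ S)))
    (R : Type u) [CommRing R] (φU : Spec (.of R) ⟶ S) [IsOpenImmersion φU]
    (T'' : Type u) [CommRing T''] [Algebra R T''] [hft : Algebra.FiniteType R T''] :
    IsClosedMap (pullback.snd f (Spec.map (CommRingCat.ofHom (algebraMap R T'')) ≫ φU)) := by
  obtain ⟨m, g, hg⟩ := Algebra.FiniteType.iff_quotient_mvPolynomial''.mp hft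
  let ρ : MvPolynomial (ULift.{u} (Fin m)) R →ₐ[R] T'' :=
    g.comp (MvPolynomial.rename Equiv.ulift)
  have hρ : Function.Surjective ρ := by
    intro a
    obtain ⟨q, rfl⟩ := hg a
    refine ⟨MvPolynomial.rename Equiv.ulift.symm q, ?_⟩
    have : (ULift.down.{u} ∘ ULift.up.{u} : Fin m → Fin m) = id := rfl
    simp [ρ, MvPolynomial.rename_rename, this]
  haveI : IsOpenImmersion (AffineSpace.map (ULift.{u} (Fin m)) φU) :=
    MorphismProperty.of_isPullback (AffineSpace.isPullback_map φU).flip inferInstance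
  haveI : IsClosedImmersion (Spec.map (CommRingCat.ofHom ρ.toRingHom)) :=
    IsClosedImmersion.spec_of_surjective _ hρ
  let ψ : Spec (.of T'') ⟶ 𝔸(ULift.{u} (Fin m); S) :=
    Spec.map (CommRingCat.ofHom ρ.toRingHom) ≫
      (AffineSpace.SpecIso (ULift.{u} (Fin m)) (.of R)).inv ≫ AffineSpace.map _ φU
  have hψ : ψ ≫ 𝔸(ULift.{u} (Fin m); S) ↘ S =
      Spec.map (CommRingCat.ofHom (algebraMap R T'')) ≫ φU := by
    simp only [ψ, Category.assoc, AffineSpace.map_over, AffineSpace.SpecIso_inv_over_assoc]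
    rw [← Spec.map_comp_assoc, ← CommRingCat.ofHom_comp]
    congr 3
    exact ρ.comp_algebraMap
  exact isClosedMap_snd_congr f hψ (isClosedMap_snd_of_immersion f _ (hyp m) ψ)

section Algebra

variable (R B T : Type u) [CommRing R] [CommRing B] [CommRing T] [Algebra R B] [Algebra R T]

/-- The comparison map `B ⊗ A ⟶ B ⊗ T` for a subalgebra `A ⊆ T`. -/
noncomputable abbrev Th (A : Subalgebra R T) : B ⊗[R] A →ₐ[R] B ⊗[R] T :=
  Algebra.TensorProduct.map (AlgHom.id R B) A.val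

/-- The transition map `B ⊗ A ⟶ B ⊗ A'` for `A ≤ A'`. -/
noncomputable abbrev ThIncl {A A' : Subalgebra R T} (h : A ≤ A') : B ⊗[R] A →ₐ[R] B ⊗[R] A' :=
  Algebra.TensorProduct.map (AlgHom.id R B) (Subalgebra.inclusion h)

lemma Th_ThIncl {A A' : Subalgebra R T} (h : A ≤ A') (x : B ⊗[R] A) :
    Th R B T A' (ThIncl R B T h x) = Th R B T A x := by
  rw [← AlgHom.comp_apply, ← Algebra.TensorProduct.map_comp]
  rfl

variable {R B T}

/-- `e` comes from the extension of `𝔭 ∩ A` to `B ⊗ A`. -/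
def Good (𝔭 : Ideal T) (A : Subalgebra R T) (e : B ⊗[R] T) : Prop :=
  ∃ e'' ∈ Ideal.map (Algebra.TensorProduct.includeRight : A →ₐ[R] B ⊗[R] A)
    (Ideal.comap A.val 𝔭), Th R B T A e'' = e

lemma Good.mono {𝔭 : Ideal T} {A A' : Subalgebra R T} (h : A ≤ A') {e : B ⊗[R] T}
    (he : Good 𝔭 A e) : Good 𝔭 A' e := by
  obtain ⟨e'', he'', rfl⟩ := he
  refine ⟨ThIncl R B T h e'', ?_, Th_ThIncl R B T h e''⟩
  have h1 : Ideal.map (ThIncl R B T h)
      (Ideal.map (Algebra.TensorProduct.includeRight : A →ₐ[R] B ⊗[R] A)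
        (Ideal.comap A.val 𝔭)) ≤
      Ideal.map (Algebra.TensorProduct.includeRight : A' →ₐ[R] B ⊗[R] A')
        (Ideal.comap A'.val 𝔭) := by
    rw [Ideal.map_le_iff_le_comap, Ideal.map_le_iff_le_comap]
    intro a ha
    rw [Ideal.mem_comap, Ideal.mem_comap]
    have : ThIncl R B T h ((Algebra.TensorProduct.includeRight : A →ₐ[R] B ⊗[R] A) a) =
        (Algebra.TensorProduct.includeRight : A' →ₐ[R] B ⊗[R] A') (Subalgebra.inclusion h a) := by
      simp
    rw [this]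
    exact Ideal.mem_map_of_mem _ ha
  exact h1 (Ideal.mem_map_of_mem _ he'')

lemma exists_good (𝔭 : Ideal T) (e : B ⊗[R] T)
    (he : e ∈ Ideal.map (Algebra.TensorProduct.includeRight : T →ₐ[R] B ⊗[R] T) 𝔭) :
    ∃ A : Subalgebra R T, A.FG ∧ Good 𝔭 A e := by
  induction he using Submodule.span_induction with
  | mem x hx =>
    obtain ⟨p, hp, rfl⟩ := hx
    have hfg : (Algebra.adjoin R ({p} : Set T)).FG := by
      have := Subalgebra.fg_adjoin_finset (R := R) ({p} : Finset T)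
      simpa using this
    refine ⟨Algebra.adjoin R {p}, hfg,
      (Algebra.TensorProduct.includeRight : _ →ₐ[R] B ⊗[R] _)
        ⟨p, Algebra.subset_adjoin (Set.mem_singleton p)⟩, Ideal.mem_map_of_mem _ ?_, ?_⟩
    · exact hp
    · simp
  | zero => exact ⟨⊥, Subalgebra.fg_bot, 0, Ideal.zero_mem _, map_zero _⟩
  | add x y _ _ hx hy =>
    obtain ⟨A₁, hA₁, hx⟩ := hx
    obtain ⟨A₂, hA₂, hy⟩ := hy
    obtain ⟨x'', hx'', rfl⟩ := hx.mono (le_sup_left : A₁ ≤ A₁ ⊔ A₂)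
    obtain ⟨y'', hy'', rfl⟩ := hy.mono (le_sup_right : A₂ ≤ A₁ ⊔ A₂)
    exact ⟨A₁ ⊔ A₂, hA₁.sup hA₂, x'' + y'', Ideal.add_mem _ hx'' hy'', map_add _ _ _⟩
  | smul c x _ hx =>
    obtain ⟨A₁, hA₁, hx⟩ := hx
    obtain ⟨A₂, hA₂, c'', rfl⟩ := exists_fg_subalgebra R B T c
    obtain ⟨x'', hx'', rfl⟩ := hx.mono (le_sup_left : A₁ ≤ A₁ ⊔ A₂)
    refine ⟨A₁ ⊔ A₂, hA₁.sup hA₂,
      (ThIncl R B T (le_sup_right : A₂ ≤ A₁ ⊔ A₂)) c'' * x'',
      Ideal.mul_mem_left _ _ hx'', ?_⟩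
    rw [map_mul, Th_ThIncl, smul_eq_mul]

theorem exists_fg_noprime (I : Ideal (B ⊗[R] T)) (𝔭 : Ideal T) [𝔭.IsPrime]
    (hI : ∀ 𝔮 : Ideal (B ⊗[R] T), 𝔮.IsPrime → I ≤ 𝔮 →
      Ideal.comap (Algebra.TensorProduct.includeRight : T →ₐ[R] B ⊗[R] T) 𝔮 ≠ 𝔭) :
    ∃ A₀ : Subalgebra R T, A₀.FG ∧ ∀ A : Subalgebra R T, A₀ ≤ A →
      ∀ 𝔮'' : Ideal (B ⊗[R] A), 𝔮''.IsPrime → Ideal.comap (Th R B T A) I ≤ 𝔮'' →
        Ideal.comap (Algebra.TensorProduct.includeRight : A →ₐ[R] B ⊗[R] A) 𝔮'' ≠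
          Ideal.comap A.val 𝔭 := by
  -- Step a
  set J : Ideal (B ⊗[R] T) :=
    I ⊔ Ideal.map (Algebra.TensorProduct.includeRight : T →ₐ[R] B ⊗[R] T) 𝔭 with hJ
  set M : Submonoid (B ⊗[R] T) :=
    Submonoid.map (Algebra.TensorProduct.includeRight : T →ₐ[R] B ⊗[R] T) 𝔭.primeCompl with hM
  have hnd : ¬ Disjoint (J : Set (B ⊗[R] T)) M := by
    intro hd
    obtain ⟨𝔮, h𝔮, hJ𝔮, h𝔮M⟩ := Ideal.exists_le_prime_disjoint J M hd
    refine hI 𝔮 h𝔮 (le_sup_left.trans hJ𝔮) (le_antisymm ?_ ?_)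
    · intro a ha
      by_contra hap
      exact Set.disjoint_left.mp h𝔮M ha ⟨a, hap, rfl⟩
    · rw [← Ideal.map_le_iff_le_comap]
      exact le_sup_right.trans hJ𝔮
  rw [Set.not_disjoint_iff] at hnd
  obtain ⟨_, hxJ, ⟨a, ha, rfl⟩⟩ := hnd
  obtain ⟨g, hg, e, he, hge⟩ := Submodule.mem_sup.mp hxJ
  obtain ⟨A₁, hA₁, hgood⟩ := exists_good 𝔭 e he
  have hfg : (Algebra.adjoin R ({a} : Set T)).FG := by
    have := Subalgebra.fg_adjoin_finset (R := R) ({a} : Finset T)
    simpa using this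
  refine ⟨A₁ ⊔ Algebra.adjoin R {a}, hA₁.sup hfg, ?_⟩
  intro A hA 𝔮'' h𝔮'' hI𝔮'' heq
  obtain ⟨e'', he'', rfl⟩ := hgood.mono (le_sup_left.trans hA)
  have haA : a ∈ A := hA (le_sup_right (a := A₁)
    (Algebra.subset_adjoin (Set.mem_singleton a)))
  have h1 : (Algebra.TensorProduct.includeRight : A →ₐ[R] B ⊗[R] A) ⟨a, haA⟩ - e'' ∈
      Ideal.comap (Th R B T A) I := by
    rw [Ideal.mem_comap, map_sub]
    have : Th R B T A ((Algebra.TensorProduct.includeRight : A →ₐ[R] B ⊗[R] A) ⟨a, haA⟩) =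
        (Algebra.TensorProduct.includeRight : T →ₐ[R] B ⊗[R] T) a := by simp
    rw [this, ← hge, add_sub_cancel_right]
    exact hg
  have h2 : e'' ∈ 𝔮'' := by
    have : Ideal.map (Algebra.TensorProduct.includeRight : A →ₐ[R] B ⊗[R] A)
        (Ideal.comap A.val 𝔭) ≤ 𝔮'' := by
      rw [Ideal.map_le_iff_le_comap, heq]
    exact this he''
  have h3 : (Algebra.TensorProduct.includeRight : A →ₐ[R] B ⊗[R] A) ⟨a, haA⟩ ∈ 𝔮'' := by
    have := Ideal.add_mem _ (hI𝔮'' h1) h2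
    rwa [sub_add_cancel] at this
  have h4 : (⟨a, haA⟩ : A) ∈ Ideal.comap A.val 𝔭 := by
    rw [← heq]; exact h3
  exact ha h4

end Algebra

theorem subalgebra_fg_iSup {R T : Type u} [CommRing R] [CommRing T] [Algebra R T]
    {ι : Type*} [Finite ι] (A : ι → Subalgebra R T) (h : ∀ i, (A i).FG) : (⨆ i, A i).FG := by
  choose s hs hsA using fun i => Subalgebra.fg_def.mp (h i)
  rw [Subalgebra.fg_def]
  refine ⟨⋃ i, s i, Set.finite_iUnion hs, ?_⟩
  rw [Algebra.adjoin_iUnion]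
  congr 1
  funext i
  exact hsA i

section Geometric

variable {X S : Scheme.{u}} (f : X ⟶ S)
  (R : Type u) [CommRing R] (φU : Spec (.of R) ⟶ S) [IsOpenImmersion φU]
  {ι : Type*} [Finite ι] (B : ι → Type u) [∀ i, CommRing (B i)] [∀ i, Algebra R (B i)]
  (φV : ∀ i, Spec (.of (B i)) ⟶ X) [∀ i, IsOpenImmersion (φV i)]
  (hV : ∀ i, φV i ≫ f = Spec.map (CommRingCat.ofHom (algebraMap R (B i))) ≫ φU)
  (hcover : ∀ x : X, f x ∈ Set.range φU → ∃ i, x ∈ Set.range (φV i))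
  (T : Type u) [CommRing T] [Algebra R T]

include hV hcover in
theorem isClosedMap_snd_affine
    (hclosed : ∀ (T'' : Type u) [CommRing T''] [Algebra R T''] [Algebra.FiniteType R T''],
      IsClosedMap (pullback.snd f (Spec.map (CommRingCat.ofHom (algebraMap R T'')) ≫ φU))) :
    IsClosedMap (pullback.snd f (Spec.map (CommRingCat.ofHom (algebraMap R T)) ≫ φU)) := by
  intro Z hZ
  rw [← isOpen_compl_iff, isOpen_iff_forall_mem_open]
  intro t ht
  haveI : t.asIdeal.IsPrime := t.isPrime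
  -- the ideals
  have hZi : ∀ i, IsClosed ((chart f R (B i) φU (φV i) (hV i) T) ⁻¹' Z) :=
    fun i => hZ.preimage (chart f R (B i) φU (φV i) (hV i) T).continuous
  have hI : ∀ i, ∀ 𝔮 : Ideal (B i ⊗[R] T), 𝔮.IsPrime →
      PrimeSpectrum.vanishingIdeal ((chart f R (B i) φU (φV i) (hV i) T) ⁻¹' Z) ≤ 𝔮 →
      Ideal.comap (Algebra.TensorProduct.includeRight : T →ₐ[R] B i ⊗[R] T) 𝔮 ≠ t.asIdeal := by
    intro i 𝔮 h𝔮 hle heq
    apply ht
    have hcl : PrimeSpectrum.zeroLocus (PrimeSpectrum.vanishingIdeal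
        ((chart f R (B i) φU (φV i) (hV i) T) ⁻¹' Z) : Set (B i ⊗[R] T)) =
        (chart f R (B i) φU (φV i) (hV i) T) ⁻¹' Z :=
      (PrimeSpectrum.zeroLocus_vanishingIdeal_eq_closure _).trans (hZi i).closure_eq
    let pt : ↥(Spec (CommRingCat.of (B i ⊗[R] T))) := ⟨𝔮, h𝔮⟩
    have hmem : pt ∈ (chart f R (B i) φU (φV i) (hV i) T) ⁻¹' Z := by
      have h0 : pt ∈ PrimeSpectrum.zeroLocus (PrimeSpectrum.vanishingIdeal
          ((chart f R (B i) φU (φV i) (hV i) T) ⁻¹' Z) : Set (B i ⊗[R] T)) :=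
        (PrimeSpectrum.mem_zeroLocus _ _).mpr hle
      exact (Set.ext_iff.mp hcl pt).mp h0
    refine ⟨chart f R (B i) φU (φV i) (hV i) T pt, hmem, ?_⟩
    rw [← Scheme.Hom.comp_apply, chart_snd]
    exact PrimeSpectrum.ext heq
  choose A₀ hA₀fg hA₀ using fun i => exists_fg_noprime
    (PrimeSpectrum.vanishingIdeal ((chart f R (B i) φU (φV i) (hV i) T) ⁻¹' Z)) t.asIdeal (hI i)
  set A := ⨆ i, A₀ i with hA
  have hAfg : A.FG := subalgebra_fg_iSup A₀ hA₀fg
  haveI : Algebra.FiniteType R A := (Subalgebra.fg_iff_finiteType A).mp hAfg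
  set Z'' : Set ↥(pullback f (Spec.map (CommRingCat.ofHom (algebraMap R A)) ≫ φU)) :=
    closure ((trans f R φU T A A.val) '' Z) with hZ''
  have hpZ'' : IsClosed ((pullback.snd f (Spec.map (CommRingCat.ofHom (algebraMap R A)) ≫ φU)) ''
      Z'') := hclosed A _ isClosed_closure
  refine ⟨(Spec.map (CommRingCat.ofHom A.val.toRingHom)) ⁻¹'
    ((pullback.snd f (Spec.map (CommRingCat.ofHom (algebraMap R A)) ≫ φU)) '' Z'')ᶜ, ?_,
    hpZ''.isOpen_compl.preimage (Spec.map (CommRingCat.ofHom A.val.toRingHom)).continuous, ?_⟩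
  · -- disjoint from the image of `Z`
    rintro s hs ⟨z, hz, rfl⟩
    apply hs
    refine ⟨trans f R φU T A A.val z, subset_closure ⟨z, hz, rfl⟩, ?_⟩
    rw [← Scheme.Hom.comp_apply, ← Scheme.Hom.comp_apply, trans_snd]
  · -- `t` lies in the open set
    rintro ⟨y'', hy'', hy''t⟩
    have hfy : f ((pullback.fst f _) y'') ∈ Set.range φU := by
      rw [← Scheme.Hom.comp_apply, pullback.condition, Scheme.Hom.comp_apply,
        Scheme.Hom.comp_apply]
      exact ⟨_, rfl⟩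
    obtain ⟨i, hi⟩ := hcover _ hfy
    have hy''r : y'' ∈ Set.range (chart f R (B i) φU (φV i) (hV i) A) := by
      rw [range_chart]; exact hi
    obtain ⟨z'', rfl⟩ := hy''r
    refine hA₀ i A (le_iSup A₀ i) z''.asIdeal z''.isPrime ?_ ?_
    · -- the closure condition
      have h1 : z'' ∈ closure ((chart f R (B i) φU (φV i) (hV i) A) ⁻¹'
          ((trans f R φU T A A.val) '' Z)) := by
        rw [← (chart f R (B i) φU (φV i) (hV i) A).isOpenEmbedding.isOpenMap.preimage_closure_eq_closure_preimage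
          (chart f R (B i) φU (φV i) (hV i) A).continuous]
        exact hy''
      have h2 : (chart f R (B i) φU (φV i) (hV i) A) ⁻¹' ((trans f R φU T A A.val) '' Z) ⊆
          PrimeSpectrum.zeroLocus (Ideal.comap (Th R (B i) T A) (PrimeSpectrum.vanishingIdeal
            ((chart f R (B i) φU (φV i) (hV i) T) ⁻¹' Z)) : Set (B i ⊗[R] A)) := by
        rintro w ⟨z, hz, hzw⟩
        obtain ⟨v, rfl⟩ := mem_range_chart_of_trans f R (B i) φU (φV i) (hV i) T A A.val z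
          ⟨w, hzw.symm⟩
        have h3 : chart f R (B i) φU (φV i) (hV i) A (Spec.map (CommRingCat.ofHom
            (Algebra.TensorProduct.map (AlgHom.id R (B i)) A.val).toRingHom) v) =
            chart f R (B i) φU (φV i) (hV i) A w := by
          rw [← hzw, ← Scheme.Hom.comp_apply, ← Scheme.Hom.comp_apply, chart_trans]
        have h4 := (chart f R (B i) φU (φV i) (hV i) A).isOpenEmbedding.injective h3
        rw [← h4]
        refine (PrimeSpectrum.mem_zeroLocus _ _).mpr ?_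
        intro x hx
        have hx' : Th R (B i) T A x ∈ v.asIdeal :=
          (PrimeSpectrum.mem_vanishingIdeal _ _).mp hx v hz
        exact hx'
      have h5 := closure_minimal h2 (PrimeSpectrum.isClosed_zeroLocus _) h1
      exact (PrimeSpectrum.mem_zeroLocus _ _).mp h5
    · -- lies over `𝔭 ∩ A`
      rw [← Scheme.Hom.comp_apply, chart_snd] at hy''t
      exact congrArg PrimeSpectrum.asIdeal hy''t

end Geometric

theorem isClosedMap_snd_of_affineSpace {X S : Scheme.{u}} (f : X ⟶ S) [QuasiCompact f]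
    (hyp : ∀ n : ℕ, IsClosedMap (pullback.snd f (𝔸(ULift.{u} (Fin n); S) ↘ S)))
    {S' : Scheme.{u}} (g : S' ⟶ S) : IsClosedMap (pullback.snd f g) := by
  intro Z hZ
  rw [← isOpen_compl_iff, isOpen_iff_forall_mem_open]
  intro s' hs'
  -- choose affine opens
  obtain ⟨U, hU, hxU, -⟩ := (TopologicalSpace.Opens.isBasis_iff_nbhd.mp S.isBasis_affineOpens)
    (show g s' ∈ (⊤ : S.Opens) from trivial)
  obtain ⟨U', hU', hxU', eU'⟩ :=
    (TopologicalSpace.Opens.isBasis_iff_nbhd.mp S'.isBasis_affineOpens)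
    (show s' ∈ g ⁻¹ᵁ U from hxU)
  change IsAffineOpen U at hU
  change IsAffineOpen U' at hU'
  obtain ⟨s, hs, hsU⟩ := isCompact_iff_finite_and_eq_biUnion_affineOpens.mp
    (f.isCompact_preimage hU.isCompact)
  haveI : Finite ↥s := hs.to_subtype
  have eV : ∀ i : ↥s, (i.1 : X.Opens) ≤ f ⁻¹ᵁ U := fun i => by
    rw [hsU]; exact le_iSup₂ (f := fun (j : X.affineOpens) (_ : j ∈ s) => (j : X.Opens)) i.1 i.2
  letI : ∀ i : ↥s, Algebra Γ(S, U) Γ(X, (i.1 : X.Opens)) :=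
    fun i => (f.appLE U i.1 (eV i)).hom.toAlgebra
  letI : Algebra Γ(S, U) Γ(S', U') := (g.appLE U U' eU').hom.toAlgebra
  have hVcomm : ∀ i : ↥s, (i.1.2 : IsAffineOpen (i.1 : X.Opens)).fromSpec ≫ f =
      Spec.map (CommRingCat.ofHom (algebraMap Γ(S, U) Γ(X, (i.1 : X.Opens)))) ≫ hU.fromSpec :=
    fun i => (IsAffineOpen.SpecMap_appLE_fromSpec f hU i.1.2 (eV i)).symm
  have hg' : hU'.fromSpec ≫ g =
      Spec.map (CommRingCat.ofHom (algebraMap Γ(S, U) Γ(S', U'))) ≫ hU.fromSpec :=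
    (IsAffineOpen.SpecMap_appLE_fromSpec g hU hU' eU').symm
  have hcover : ∀ x : X, f x ∈ Set.range hU.fromSpec →
      ∃ i : ↥s, x ∈ Set.range (i.1.2 : IsAffineOpen (i.1 : X.Opens)).fromSpec := by
    intro x hx
    rw [hU.range_fromSpec] at hx
    have hx' : x ∈ f ⁻¹ᵁ U := hx
    rw [hsU] at hx'
    obtain ⟨j, hj⟩ := TopologicalSpace.Opens.mem_iSup.mp hx'
    obtain ⟨hjs, hxj⟩ := TopologicalSpace.Opens.mem_iSup.mp hj
    refine ⟨⟨j, hjs⟩, ?_⟩
    rw [j.2.range_fromSpec]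
    exact hxj
  haveI : ∀ i : ↥s, IsOpenImmersion (i.1.2 : IsAffineOpen (i.1 : X.Opens)).fromSpec :=
    fun i => IsAffineOpen.isOpenImmersion_fromSpec _
  have HC : IsClosedMap (pullback.snd f (hU'.fromSpec ≫ g)) :=
    isClosedMap_snd_congr f hg'.symm
      (isClosedMap_snd_affine f Γ(S, U) hU.fromSpec (fun i : ↥s => Γ(X, (i.1 : X.Opens)))
        (fun i => (i.1.2 : IsAffineOpen (i.1 : X.Opens)).fromSpec) hVcomm hcover Γ(S', U')
        (fun T'' _ _ _ => isClosedMap_snd_finiteType f hyp Γ(S, U) hU.fromSpec T''))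
  -- the open immersion `j`
  let j : pullback f (hU'.fromSpec ≫ g) ⟶ pullback f g :=
    pullback.map f (hU'.fromSpec ≫ g) f g (𝟙 X) hU'.fromSpec (𝟙 S)
      (by rw [Category.id_comp, Category.comp_id]) (by rw [Category.comp_id])
  have hjsnd : j ≫ pullback.snd f g = pullback.snd f _ ≫ hU'.fromSpec := by
    simp only [j, pullback.map, pullback.lift_snd]
  have hrange : Set.range j = (pullback.snd f g) ⁻¹' (U' : Set S') := by
    simp only [j]
    rw [Scheme.Pullback.range_map, hU'.range_fromSpec]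
    simp
  have hZ' : IsClosed ((pullback.snd f (hU'.fromSpec ≫ g)) '' (j ⁻¹' Z)) :=
    HC _ (hZ.preimage j.continuous)
  obtain ⟨t, rfl⟩ : s' ∈ Set.range hU'.fromSpec := by rw [hU'.range_fromSpec]; exact hxU'
  refine ⟨hU'.fromSpec '' ((pullback.snd f (hU'.fromSpec ≫ g)) '' (j ⁻¹' Z))ᶜ, ?_,
    hU'.fromSpec.isOpenEmbedding.isOpenMap _ hZ'.isOpen_compl, ⟨t, ?_, rfl⟩⟩
  · rintro _ ⟨o', ho', rfl⟩ ⟨z, hz, hzo⟩
    apply ho'
    have hzr : z ∈ Set.range j := by
      rw [hrange, Set.mem_preimage, hzo, ← hU'.range_fromSpec]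
      exact ⟨o', rfl⟩
    obtain ⟨z', rfl⟩ := hzr
    refine ⟨z', hz, hU'.fromSpec.isOpenEmbedding.injective ?_⟩
    rw [← hzo, ← Scheme.Hom.comp_apply, ← Scheme.Hom.comp_apply, hjsnd]
  · rintro ⟨z', hz', hz't⟩
    apply hs'
    refine ⟨j z', hz', ?_⟩
    rw [← Scheme.Hom.comp_apply, hjsnd, Scheme.Hom.comp_apply, hz't]

theorem universallyClosed_of_affineSpace {X S : Scheme.{u}} (f : X ⟶ S) [QuasiCompact f]
    (hyp : ∀ n : ℕ, IsClosedMap (pullback.snd f (𝔸(ULift.{u} (Fin n); S) ↘ S))) :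
    UniversallyClosed f := by
  refine ⟨MorphismProperty.universally_mk' _ _ fun {T} g _ => ?_⟩
  have h1 : pullback.fst g f = (pullbackSymmetry g f).hom ≫ pullback.snd f g :=
    (pullbackSymmetry_hom_comp_snd g f).symm
  change IsClosedMap (pullback.fst g f)
  rw [h1, Scheme.Hom.comp_base, TopCat.coe_comp]
  exact (isClosedMap_snd_of_affineSpace f hyp g).comp
    (pullbackSymmetry g f).hom.homeomorph.isClosedMap

end Groth.Agent.Lib.Helper78
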