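import Mathlib
import Groth.Agent.Lib.Helper78.DVRScheme
import Groth.Agent.Lib.Helper78.UnivClosedAffineSpace

/-!
# Noetherian valuative criteria with discrete valuation rings (helper78)

* `DVRExistence f`: every square `Spec K → X`, `Spec A → S` with `A` a discrete valuation ring with
  fraction field `K = FractionRing A` has a lift.
* `DVRExistence.specializingMap`, `DVRExistence.baseChange`,
  `universallyClosed_of_dvrExistence`: for `f` of finite type over a locally Noetherian base,
  existence of lifts for discrete valuation rings implies universally closed.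
-/

set_option autoImplicit false
universe u

namespace Groth.Agent.Lib.Helper78

open AlgebraicGeometry CategoryTheory Limits IsLocalRing

/-- The existence part of the valuative criterion, tested on discrete valuation rings only. -/
def DVRExistence {X S : Scheme.{u}} (f : X ⟶ S) : Prop :=
  ∀ (A : Type u) [CommRing A] [IsDomain A] [IsDiscreteValuationRing A]
    (x : Spec (CommRingCat.of (FractionRing A)) ⟶ X) (y : Spec (CommRingCat.of A) ⟶ S),
    x ≫ f = Spec.map (CommRingCat.ofHom (algebraMap A (FractionRing A))) ≫ y →
    ∃ l : Spec (CommRingCat.of A) ⟶ X, l ≫ f = y ∧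
      Spec.map (CommRingCat.ofHom (algebraMap A (FractionRing A))) ≫ l = x

theorem DVRExistence.baseChange {X S S' : Scheme.{u}} {f : X ⟶ S} (H : DVRExistence f)
    (g : S' ⟶ S) : DVRExistence (pullback.snd f g) := by
  intro A _ _ _ x y w
  obtain ⟨l₀, hl₁, hl₂⟩ := H A (x ≫ pullback.fst f g) (y ≫ g) (by
    rw [Category.assoc, pullback.condition, ← Category.assoc, w, Category.assoc])
  refine ⟨pullback.lift l₀ y hl₁, pullback.lift_snd _ _ _, ?_⟩
  apply pullback.hom_ext
  · rw [Category.assoc, pullback.lift_fst, hl₂]
  · rw [Category.assoc, pullback.lift_snd, w]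

theorem DVRExistence.specializingMap {X S : Scheme.{u}} [IsLocallyNoetherian S] {f : X ⟶ S}
    [LocallyOfFiniteType f] (H : DVRExistence f) : SpecializingMap f := by
  intro x' y h
  by_cases hy : y = f x'
  · exact ⟨x', specializes_rfl, hy.symm⟩
  obtain ⟨A, t, hA, htcl, htgen⟩ := exists_dvr_specialization f x' y h hy
  let e : FractionRing A ≃ₐ[A] X.residueField x' := FractionRing.algEquiv A (X.residueField x')
  let ι : X.residueField x' →+* FractionRing A := (e.symm : X.residueField x' →+* FractionRing A)
  have hι : ι.comp A.subtype = algebraMap A (FractionRing A) := by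
    ext a
    change e.symm (algebraMap A (X.residueField x') a) = _
    exact e.symm.commutes a
  let x : Spec (CommRingCat.of (FractionRing A)) ⟶ X :=
    Spec.map (CommRingCat.ofHom ι) ≫ X.fromSpecResidueField x'
  have w : x ≫ f = Spec.map (CommRingCat.ofHom (algebraMap A (FractionRing A))) ≫ t := by
    simp only [x, Category.assoc]
    rw [← htgen, ← Spec.map_comp_assoc, ← CommRingCat.ofHom_comp, hι]
  obtain ⟨l, hl₁, hl₂⟩ := H A x t w
  let c : ↥(Spec (CommRingCat.of A)) := closedPoint A
  let pt : ↥(Spec (CommRingCat.of (FractionRing A))) := closedPoint (FractionRing A)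
  let η : ↥(Spec (CommRingCat.of A)) :=
    (Spec.map (CommRingCat.ofHom (algebraMap A (FractionRing A)))) pt
  have hη : l η = x' := by
    have h1 : (Spec.map (CommRingCat.ofHom (algebraMap A (FractionRing A))) ≫ l) pt = x pt := by
      rw [hl₂]
    rw [Scheme.Hom.comp_apply] at h1
    rw [h1]
    simp only [x, Scheme.Hom.comp_apply]
    exact Scheme.fromSpecResidueField_apply _ _
  refine ⟨l c, ?_, ?_⟩
  · have hsp : η ⤳ c := specializes_closedPoint (R := A) η
    have h2 : l η ⤳ l c := hsp.map l.continuous
    rw [hη] at h2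
    exact h2
  · have : (l ≫ f) c = t c := by rw [hl₁]
    rw [Scheme.Hom.comp_apply] at this
    rw [this]
    exact htcl

theorem isClosedMap_of_dvrExistence {X S : Scheme.{u}} [IsLocallyNoetherian S] {f : X ⟶ S}
    [LocallyOfFiniteType f] [QuasiCompact f] (H : DVRExistence f) : IsClosedMap f :=
  (isClosedMap_iff_specializingMap f).mpr H.specializingMap

theorem universallyClosed_of_dvrExistence {X S : Scheme.{u}} [IsLocallyNoetherian S] {f : X ⟶ S}
    [LocallyOfFiniteType f] [QuasiCompact f] (H : DVRExistence f) : UniversallyClosed f := by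
  apply universallyClosed_of_affineSpace
  intro n
  have : IsLocallyNoetherian (𝔸(ULift.{u} (Fin n); S)) :=
    LocallyOfFiniteType.isLocallyNoetherian (𝔸(ULift.{u} (Fin n); S) ↘ S)
  exact isClosedMap_of_dvrExistence (H.baseChange _)

/-- The uniqueness part of the valuative criterion, tested on discrete valuation rings only. -/
def DVRUniqueness {X Y : Scheme.{u}} (f : X ⟶ Y) : Prop :=
  ∀ (A : Type u) [CommRing A] [IsDomain A] [IsDiscreteValuationRing A]
    (g₁ g₂ : Spec (CommRingCat.of A) ⟶ X), g₁ ≫ f = g₂ ≫ f →
    Spec.map (CommRingCat.ofHom (algebraMap A (FractionRing A))) ≫ g₁ =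
      Spec.map (CommRingCat.ofHom (algebraMap A (FractionRing A))) ≫ g₂ → g₁ = g₂

/-- Uniqueness of lifts for `f` gives existence of lifts for the diagonal. -/
theorem DVRUniqueness.diagonal {X Y : Scheme.{u}} {f : X ⟶ Y} (H : DVRUniqueness f) :
    DVRExistence (pullback.diagonal f) := by
  intro A _ _ _ x y w
  have h1 : (y ≫ pullback.fst f f) ≫ f = (y ≫ pullback.snd f f) ≫ f := by
    rw [Category.assoc, Category.assoc, pullback.condition]
  have h2 : Spec.map (CommRingCat.ofHom (algebraMap A (FractionRing A))) ≫ y ≫ pullback.fst f f =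
      Spec.map (CommRingCat.ofHom (algebraMap A (FractionRing A))) ≫ y ≫ pullback.snd f f := by
    rw [← Category.assoc, ← w, ← Category.assoc, ← w, Category.assoc, Category.assoc,
      pullback.diagonal_fst, pullback.diagonal_snd]
  have h3 := H A _ _ h1 h2
  refine ⟨y ≫ pullback.fst f f, ?_, ?_⟩
  · apply pullback.hom_ext
    · rw [Category.assoc, pullback.diagonal_fst, Category.comp_id]
    · rw [Category.assoc, pullback.diagonal_snd, Category.comp_id, h3]
  · rw [← Category.assoc, ← w, Category.assoc, pullback.diagonal_fst, Category.comp_id]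

theorem isSeparated_of_dvrUniqueness {X Y : Scheme.{u}} [IsLocallyNoetherian Y] {f : X ⟶ Y}
    [LocallyOfFiniteType f] (H : DVRUniqueness f) : IsSeparated f := by
  have hXN : IsLocallyNoetherian X := LocallyOfFiniteType.isLocallyNoetherian f
  have hPN : IsLocallyNoetherian (pullback f f) :=
    LocallyOfFiniteType.isLocallyNoetherian (pullback.fst f f)
  have hΔft : LocallyOfFiniteType (pullback.diagonal f) := by
    have : LocallyOfFiniteType (pullback.diagonal f ≫ pullback.fst f f) := by
      rw [pullback.diagonal_fst]; infer_instance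
    exact locallyOfFiniteType_of_comp (pullback.diagonal f) (pullback.fst f f)
  have hΔqc : QuasiCompact (pullback.diagonal f) := QuasiSeparated.quasiCompact_diagonal
  have hΔuc : UniversallyClosed (pullback.diagonal f) :=
    universallyClosed_of_dvrExistence H.diagonal
  exact ⟨.of_isPreimmersion _ (pullback.diagonal f).isClosedMap.isClosed_range⟩

theorem DVRUniqueness.of_isSeparated {X Y : Scheme.{u}} {f : X ⟶ Y} [IsSeparated f] :
    DVRUniqueness f := by
  intro A _ _ _ g₁ g₂ h1 h2
  have hu := IsSeparated.valuativeCriterion f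
  let S : ValuativeCommSq f :=
    { R := A, K := FractionRing A
      i₁ := Spec.map (CommRingCat.ofHom (algebraMap A (FractionRing A))) ≫ g₁
      i₂ := g₁ ≫ f
      commSq := ⟨by rw [Category.assoc]⟩ }
  have := hu S
  let l₁ : S.commSq.LiftStruct := ⟨g₁, rfl, rfl⟩
  let l₂ : S.commSq.LiftStruct := ⟨g₂, h2.symm, h1.symm⟩
  exact congrArg CommSq.LiftStruct.l (Subsingleton.elim l₁ l₂)

theorem DVRExistence.of_universallyClosed {X Y : Scheme.{u}} {f : X ⟶ Y} [UniversallyClosed f] :
    DVRExistence f := by
  intro A _ _ _ x y w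
  have hex : ValuativeCriterion.Existence f :=
    (UniversallyClosed.eq_valuativeCriterion ▸ (inferInstance : UniversallyClosed f)).1
  obtain ⟨l, hl₁, hl₂⟩ :=
    (hex { R := A, K := FractionRing A, i₁ := x, i₂ := y, commSq := ⟨w⟩ }).exists_lift
  exact ⟨l, hl₂, hl₁⟩

theorem isProper_of_dvr {X Y : Scheme.{u}} [IsLocallyNoetherian Y] {f : X ⟶ Y}
    [LocallyOfFiniteType f] [QuasiCompact f] (H₁ : DVRExistence f) (H₂ : DVRUniqueness f) :
    IsProper f := by
  have := isSeparated_of_dvrUniqueness H₂
  have := universallyClosed_of_dvrExistence H₁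
  exact {}

end Groth.Agent.Lib.Helper78
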