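/-
helper78: algebra / scheme-level input for S10606 (a quasi-compact monomorphism with universally
injective structure sheaf map is an isomorphism).
-/
import Groth.Agent.Lib.Helper2.UnivInjFlat
import Mathlib

set_option autoImplicit false
universe u
open CategoryTheory CategoryTheory.Limits AlgebraicGeometry TensorProduct

namespace Groth.Agent.Lib.Helper78.PureMono

/-- If `x ⊗ 1 = 0` in `P ⊗ B`, then any ring map out of an `R`-algebra `A'` receiving `P` linearly
kills the image of `x`, as soon as it is compatible with a ring map out of `B`. -/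
theorem map_eq_zero_of_tmul_one_eq_zero {R B A' Γ P : Type*} [CommRing R] [CommRing B] [CommRing A']
    [CommRing Γ] [AddCommGroup P] [Module R P] [Algebra R B] [Algebra R A'] (j : P →ₗ[R] A')
    (α : A' →+* Γ) (β : B →+* Γ)
    (hαβ : α.comp (algebraMap R A') = β.comp (algebraMap R B))
    (x : P) (hx : x ⊗ₜ[R] (1 : B) = 0) : α (j x) = 0 := by
  letI : Algebra R Γ := (β.comp (algebraMap R B)).toAlgebra
  have hsmul : ∀ (r : R) (g : Γ), r • g = β (algebraMap R B r) * g := fun r g => by
    rw [Algebra.smul_def]; rfl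
  have hα : ∀ r : R, α (algebraMap R A' r) = β (algebraMap R B r) := fun r => by
    have := congrArg (fun f => f r) hαβ
    simpa using this
  let ℓ : P →ₗ[R] B →ₗ[R] Γ := LinearMap.mk₂ R (fun p b => α (j p) * β b)
    (fun p p' b => by simp [add_mul])
    (fun r p b => by
      rw [hsmul, map_smul, Algebra.smul_def, map_mul, hα]; ring)
    (fun p b b' => by simp [mul_add])
    (fun r p b => by
      rw [hsmul, Algebra.smul_def, map_mul]; ring)
  have := congrArg (TensorProduct.lift ℓ) hx
  simpa [ℓ] using this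

/-- A flat surjective morphism of schemes is injective on global sections. -/
theorem appTop_injective_of_flat_of_surjective {X Y : Scheme.{u}} (f : X ⟶ Y) [Flat f]
    [Surjective f] : Function.Injective f.appTop.hom := by
  rw [injective_iff_map_eq_zero]
  intro s hs
  refine TopCat.Presheaf.section_ext Y.sheaf ⊤ s 0 (fun y hy => ?_)
  obtain ⟨x, rfl⟩ := f.surjective y
  have h1 := Scheme.Hom.germ_stalkMap_apply f ⊤ x trivial s
  have hinj : Function.Injective (f.stalkMap x).hom := by
    algebraize [(f.stalkMap x).hom]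
    have : Module.FaithfullyFlat (Y.presheaf.stalk (f x)) (X.presheaf.stalk x) :=
      @Module.FaithfullyFlat.of_flat_of_isLocalHom _ _ _ _ _ _ _
        (Flat.stalkMap f x) (f.toLRSHom.prop x)
    exact ‹RingHom.FaithfullyFlat _›.injective
  apply hinj
  have h0 : f.app ⊤ s = 0 := hs
  rw [h0, map_zero] at h1
  refine Eq.trans h1 ?_
  rw [map_zero]
  exact (map_zero (f.stalkMap x).hom).symm

/-- A universally injective flat ring map is faithfully flat. -/
theorem faithfullyFlat_of_univInjective {R B : Type u} [CommRing R] [CommRing B] [Algebra R B]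
    (h : Pi1.UnivInjective R B) [Module.Flat R B] : Module.FaithfullyFlat R B :=
  (Module.FaithfullyFlat.iff_flat_and_lTensor_reflects_triviality R B).2
    ⟨inferInstance, fun N _ _ _ => Groth.Agent.Lib.Helper2.UnivInjective.subsingleton h N⟩

/-- Pure descent of flatness, scheme form: a morphism `h : U ⟶ Z` of affine schemes which is
universally injective on global sections and whose self-pullback projects flatly onto `U`
is flat and surjective. -/
theorem flat_surjective_of_univInjective {U Z Rel : Scheme.{u}} [IsAffine U] [IsAffine Z]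
    (h : U ⟶ Z) (r₁ r₂ : Rel ⟶ U) (sq : IsPullback r₁ r₂ h h) [Flat r₁]
    (hpure : letI := h.appTop.hom.toAlgebra; Pi1.UnivInjective Γ(Z, ⊤) Γ(U, ⊤)) :
    Flat h ∧ Surjective h := by
  letI := h.appTop.hom.toAlgebra
  have hmap : CommRingCat.ofHom (algebraMap Γ(Z, ⊤) Γ(U, ⊤)) = h.appTop := rfl
  have sq' : IsPullback (r₁ ≫ U.isoSpec.hom) (r₂ ≫ U.isoSpec.hom)
      (Spec.map (CommRingCat.ofHom (algebraMap Γ(Z, ⊤) Γ(U, ⊤))))
      (Spec.map (CommRingCat.ofHom (algebraMap Γ(Z, ⊤) Γ(U, ⊤)))) := by
    refine IsPullback.of_iso sq (Iso.refl _) U.isoSpec U.isoSpec Z.isoSpec ?_ ?_ ?_ ?_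
    · simp
    · simp
    · rw [hmap, Scheme.isoSpec_hom_naturality]
    · rw [hmap, Scheme.isoSpec_hom_naturality]
  have hfst : Flat (pullback.fst (Spec.map (CommRingCat.ofHom (algebraMap Γ(Z, ⊤) Γ(U, ⊤))))
      (Spec.map (CommRingCat.ofHom (algebraMap Γ(Z, ⊤) Γ(U, ⊤))))) := by
    rw [← sq'.isoPullback_inv_fst]
    infer_instance
  have hincl : Flat (Spec.map (CommRingCat.ofHom
      (algebraMap Γ(U, ⊤) (Γ(U, ⊤) ⊗[Γ(Z, ⊤)] Γ(U, ⊤))))) := by
    rw [← pullbackSpecIso_inv_fst']
    infer_instance
  rw [Flat.SpecMap_iff] at hincl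
  have hflatBB : Module.Flat Γ(U, ⊤) (Γ(U, ⊤) ⊗[Γ(Z, ⊤)] Γ(U, ⊤)) :=
    RingHom.flat_algebraMap_iff.1 hincl
  have hflat : Module.Flat Γ(Z, ⊤) Γ(U, ⊤) :=
    Groth.Agent.Lib.Helper2.UnivInjective.flat hpure Γ(U, ⊤)
  have hff : Module.FaithfullyFlat Γ(Z, ⊤) Γ(U, ⊤) := faithfullyFlat_of_univInjective hpure
  exact (Flat.flat_and_surjective_iff_faithfullyFlat_of_isAffine (f := h)).2 hff

end Groth.Agent.Lib.Helper78.PureMono
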