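import Groth.Agent.Lib.Helper78.FlatLocusBC
import Groth.Agent.H52.NhdInvariant
import Groth.Agent.H52.BaseChangeCharts
import Groth.Agent.H52.LocPCalc5
import Groth.Agent.H52.LocPInst

/-!
# The flat locus of a morphism of algebraic spaces: openness and base change
-/

set_option autoImplicit false
universe u
open CategoryTheory CategoryTheory.Limits AlgebraicGeometry Opposite

namespace Groth.Agent.Lib.Helper78.FlatLocusSp

open AlgSp Groth.Agent.H52 Groth.Agent.Lib.Helper78.FlatLocusBC

variable {S : Scheme.{u}}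

/-- Variant of `exists_baseChange_charts` with prescribed charts of the bases. -/
theorem exists_baseChange_charts_over {X Y Y' X' : Sp S} (hX : IsAlgSpace X) (hY : IsAlgSpace Y)
    (hY' : IsAlgSpace Y') {f : X ⟶ Y} {g : Y' ⟶ Y} {g' : X' ⟶ X} {f' : X' ⟶ Y'}
    (sq : IsPullback g' f' f g) (x' : Points X')
    {V V' : Over S} (b : (yon S).obj V ⟶ Y) (hbe : RepWith @Etale b)
    (b' : (yon S).obj V' ⟶ Y') (hb'e : RepWith @Etale b') (β : V' ⟶ V)
    (hb'β : b' ≫ g = (yon S).map β ≫ b) (v' : ↥V'.left)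
    (hb'v' : Points.ofPt b' v' = Points.map f' x') :
    ∃ (U U' : Over S) (a : (yon S).obj U ⟶ X) (a' : (yon S).obj U' ⟶ X')
      (h : U ⟶ V) (h' : U' ⟶ V') (α : U' ⟶ U) (u' : ↥U'.left),
      RepWith @Etale a ∧ RepWith @Etale a' ∧
      a ≫ f = (yon S).map h ≫ b ∧ a' ≫ f' = (yon S).map h' ≫ b' ∧
      a' ≫ g' = (yon S).map α ≫ a ∧
      IsPullback α.left h'.left h.left β.left ∧ Points.ofPt a' u' = x' := by
  -- `N = X ×_Y V`
  have sqN := IsPullback.of_hasPullback f b
  have hN : IsAlgSpace (pullback f b) := isAlgSpace_of_isPullback sqN hX hY (IsAlgSpace.yon_obj V)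
  have hn₁ : RepWith @Etale (pullback.fst f b) := MorphismProperty.of_isPullback sqN.flip hbe
  -- `M = N ×_V V'`
  have sqM := IsPullback.of_hasPullback (pullback.snd f b) ((yon S).map β)
  have hM : IsAlgSpace (pullback (pullback.snd f b) ((yon S).map β)) :=
    isAlgSpace_of_isPullback sqM hN (IsAlgSpace.yon_obj V) (IsAlgSpace.yon_obj V')
  set m₁ := pullback.fst (pullback.snd f b) ((yon S).map β) with hm₁
  set m₂ := pullback.snd (pullback.snd f b) ((yon S).map β) with hm₂
  have hcompat : (m₁ ≫ pullback.fst f b) ≫ f = (m₂ ≫ b') ≫ g := by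
    rw [Category.assoc, sqN.w, ← Category.assoc, sqM.w, Category.assoc, Category.assoc, hb'β]
  let μ : pullback (pullback.snd f b) ((yon S).map β) ⟶ X' := sq.lift _ _ hcompat
  have hμ1 : μ ≫ g' = m₁ ≫ pullback.fst f b := sq.lift_fst _ _ _
  have hμ2 : μ ≫ f' = m₂ ≫ b' := sq.lift_snd _ _ _
  have sqL : IsPullback μ m₂ f' b' := by
    have big : IsPullback (m₁ ≫ pullback.fst f b) m₂ f ((yon S).map β ≫ b) :=
      sqM.paste_horiz sqN
    rw [← hb'β, ← hμ1] at big
    exact IsPullback.of_right big hμ2 sq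
  have hμe : RepWith @Etale μ := MorphismProperty.of_isPullback sqL.flip hb'e
  -- the point of `M`
  obtain ⟨m, hmx, hmv⟩ := exists_point_of_isPullback sqL x' (Points.ofScheme V' v')
    (by rw [← Points.ofPt_eq_map_ofScheme, hb'v'])
  obtain ⟨U, c, u, hce, hcu⟩ := exists_chart_through_point hN (Points.map m₁ m)
  obtain ⟨h, hh⟩ := (yon S).map_surjective (c ≫ pullback.snd f b)
  -- the scheme `U' = U ×_V V'`
  let U' : Over S := Over.mk (pullback.fst h.left β.left ≫ U.hom)
  let α : U' ⟶ U := Over.homMk (pullback.fst h.left β.left) rfl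
  have hw : pullback.snd h.left β.left ≫ V'.hom = pullback.fst h.left β.left ≫ U.hom := by
    rw [← Over.w β, ← Over.w h, ← Category.assoc, ← Category.assoc, pullback.condition]
  let h' : U' ⟶ V' := Over.homMk (pullback.snd h.left β.left) hw
  have sqS : IsPullback α.left h'.left h.left β.left := IsPullback.of_hasPullback h.left β.left
  have sqO : IsPullback α h' h β :=
    IsPullback.of_map (Over.forget S) (by ext; exact pullback.condition) sqS
  have sqU' := sqO.map (yon S)
  have hcompat2 : ((yon S).map α ≫ c) ≫ pullback.snd f b = (yon S).map h' ≫ (yon S).map β := by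
    rw [Category.assoc, ← hh]; exact sqU'.w
  let ψ : (yon S).obj U' ⟶ pullback (pullback.snd f b) ((yon S).map β) := sqM.lift _ _ hcompat2
  have hψ1 : ψ ≫ m₁ = (yon S).map α ≫ c := sqM.lift_fst _ _ _
  have hψ2 : ψ ≫ m₂ = (yon S).map h' := sqM.lift_snd _ _ _
  have sqψ : IsPullback ψ ((yon S).map α) m₁ c := by
    have big : IsPullback ((yon S).map h') ((yon S).map α) ((yon S).map β) ((yon S).map h) :=
      sqU'.flip
    rw [← hψ2, hh] at big
    exact IsPullback.of_right big hψ1 sqM.flip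
  have hψe : RepWith @Etale ψ := MorphismProperty.of_isPullback sqψ.flip hce
  obtain ⟨p, hpm, hpu⟩ := exists_point_of_isPullback sqψ m (Points.ofScheme U u)
    (by rw [← Points.ofPt_eq_map_ofScheme, hcu])
  obtain ⟨u', rfl⟩ := (Points.schemeEquiv U').surjective p
  refine ⟨U, U', c ≫ pullback.fst f b, ψ ≫ μ, h, h', α, u',
    (RepWith (S := S) @Etale).comp_mem _ _ hce hn₁,
    (RepWith (S := S) @Etale).comp_mem _ _ hψe hμe, ?_, ?_, ?_, sqS, ?_⟩
  · rw [Category.assoc, sqN.w, ← Category.assoc, hh]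
  · rw [Category.assoc, hμ2, ← Category.assoc, hψ2]
  · rw [Category.assoc, hμ1, ← Category.assoc, hψ1, Category.assoc]
  · rw [Points.ofPt_eq_map_ofScheme, Points.map_comp]
    change Points.map μ (Points.map ψ (Points.schemeEquiv U' u')) = x'
    rw [hpm, hmx]

/-- For `f` locally of finite presentation, flatness at a point (all-charts form) is the same
as flatness near the point on some chart diagram. -/
theorem isFlatAtMor_iff_hasAtMor_nhd {X Y : Sp S} (hX : IsAlgSpace X) (hY : IsAlgSpace Y)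
    (f : X ⟶ Y) (hf : LocP @LocallyOfFinitePresentation f) (x : Points X) :
    IsFlatAtMor f x ↔
      HasAtMor (fun U _ h u => ∃ W : U.Opens, u ∈ W ∧ Flat (W.ι ≫ h)) f x := by
  rw [isEtLocal_flat.hasAtMor_nhd_iff_forall hX hY f x]
  constructor
  · intro H U V a b h u ha hb comm hu
    haveI : LocallyOfFinitePresentation h.left := hf a b h ha hb comm
    exact exists_flat_nhd_of_flat_stalkMap h.left u (H a b h u ha hb comm hu)
  · intro H U V a b h u ha hb comm hu
    obtain ⟨W, huW, hW⟩ := H a b h u ha hb comm hu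
    exact flat_stalkMap_of_nhd' h.left W hW u huW

/-- The flat locus of a morphism locally of finite presentation is open. -/
theorem isOpen_flatLocus {X Y : Sp S} (hX : IsAlgSpace X) (hY : IsAlgSpace Y)
    (f : X ⟶ Y) (hf : LocP @LocallyOfFinitePresentation f) :
    IsOpen {x : Points X | IsFlatAtMor f x} := by
  have e : {x : Points X | IsFlatAtMor f x} =
      {x : Points X | HasAtMor (fun U _ h u => ∃ W : U.Opens, u ∈ W ∧ Flat (W.ι ≫ h)) f x} :=
    Set.ext fun x => isFlatAtMor_iff_hasAtMor_nhd hX hY f hf x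
  rw [e]
  exact isOpen_setOf_hasAtMor_nhd @Flat f

/-- The flat locus of `X ⟶ Y` over `Z`, with `X` flat and locally of finite presentation over
`Z` and `Y` locally of finite type over `Z`, commutes with base change along `Z' ⟶ Z`. -/
theorem isFlatAtMor_baseChange_iff {X Y Z X' Y' Z' : Sp S} (hX : IsAlgSpace X)
    (hY : IsAlgSpace Y) (hZ : IsAlgSpace Z) (hY' : IsAlgSpace Y')
    (hZ' : IsAlgSpace Z') {f : X ⟶ Y} {h : Y ⟶ Z} {g : Z' ⟶ Z} {f' : X' ⟶ Y'} {h' : Y' ⟶ Z'}
    {pX : X' ⟶ X} {pY : Y' ⟶ Y} (sq1 : IsPullback pY h' h g) (sq2 : IsPullback pX f' f pY)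
    (hX' : IsAlgSpace X')
    (hfp : LocP @LocallyOfFinitePresentation (f ≫ h)) (hfl : LocP @Flat (f ≫ h))
    (hft : LocP @LocallyOfFiniteType h) (x' : Points X') :
    IsFlatAtMor f' x' ↔ IsFlatAtMor f (Points.map pX x') := by
  have hflfp : LocP @LocallyOfFinitePresentation f :=
    isEtLocal_lfp.locP_of_comp' (Q := @LocallyOfFiniteType)
      (fun _ _ _ _ _ h1 h2 => lfp_of_comp_of_lft h1 h2) hZ f h hfp hft
  have hf'lfp : LocP @LocallyOfFinitePresentation f' :=
    isEtLocal_lfp.locP_of_isPullback hX hY hY' sq2 hflfp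
  obtain ⟨V, W, V', W', b, c, b', c', q, q', β, γ, v', hbe, hce, hb'e, hc'e, cq, cq', cβ, cγ,
    sqS1, hv'⟩ := exists_baseChange_charts hY hZ hZ' sq1 (Points.map f' x')
  obtain ⟨U, U', a, a', k, k', α, u', hae, ha'e, ck, ck', cα, sqS2, hu'⟩ :=
    exists_baseChange_charts_over hX hY hY' sq2 x' b hbe b' hb'e β cβ v' hv'
  have commW : a ≫ f ≫ h = (yon S).map (k ≫ q) ≫ c := by
    rw [← Category.assoc, ck, Category.assoc, cq, Functor.map_comp, Category.assoc]
  haveI i1 : LocallyOfFinitePresentation (k.left ≫ q.left) := hfp a c (k ≫ q) hae hce commW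
  haveI i2 : Flat (k.left ≫ q.left) := hfl a c (k ≫ q) hae hce commW
  haveI i3 : LocallyOfFiniteType q.left := hft b c q hbe hce cq
  haveI i4 : LocallyOfFinitePresentation k.left := hflfp a b k hae hbe ck
  haveI i5 : LocallyOfFinitePresentation k'.left := hf'lfp a' b' k' ha'e hb'e ck'
  have key := flat_stalkMap_baseChange_iff sqS1 sqS2 u'
  have hpt : Points.ofPt a (α.left u') = Points.map pX x' := by
    rw [← ofPt_yon_map_comp, ← cα, ← Points.map_ofPt, hu']
  constructor
  · intro H
    have s1 : (k'.left.stalkMap u').hom.Flat := H a' b' k' u' ha'e hb'e ck' hu'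
    have s2 := key.1 s1
    rw [isFlatAtMor_iff_hasAtMor_nhd hX hY f hflfp]
    exact ⟨U, V, a, b, k, α.left u', hae, hbe, ck, hpt,
      exists_flat_nhd_of_flat_stalkMap k.left _ s2⟩
  · intro H
    have s2 : (k.left.stalkMap (α.left u')).hom.Flat := H a b k (α.left u') hae hbe ck hpt
    have s1 := key.2 s2
    rw [isFlatAtMor_iff_hasAtMor_nhd hX' hY' f' hf'lfp]
    exact ⟨U', V', a', b', k', u', ha'e, hb'e, ck', hu',
      exists_flat_nhd_of_flat_stalkMap k'.left _ s1⟩

end Groth.Agent.Lib.Helper78.FlatLocusSp
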