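import Groth.Agent.S4621
import Groth.Prelude.Def_MoreMor

/-! Section components of a morphism with a section and base change (helper78). -/

set_option autoImplicit false

universe u

namespace Groth.Agent.Lib.Helper78.SectionComp

open AlgebraicGeometry CategoryTheory Limits Topology

/-- The connected component of a point of a topological fibre is the image of the connected
component of the corresponding point in the scheme-theoretic fibre. -/
theorem connectedComponentIn_fibre_eq_image {X Y : Scheme.{u}} (f : X ⟶ Y) (y : Y)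
    (z : f.fiber y) :
    connectedComponentIn (f ⁻¹' {y}) (f.fiberι y z) = f.fiberι y '' connectedComponent z := by
  have hmem : f.fiberι y z ∈ f ⁻¹' {y} := by
    rw [← f.range_fiberι]; exact ⟨z, rfl⟩
  have hφz : f.fiberHomeo y z = ⟨f.fiberι y z, hmem⟩ := Subtype.ext rfl
  rw [connectedComponentIn_eq_image hmem, ← hφz]
  have h1 := (f.fiberHomeo y).image_connectedComponentIn (Set.mem_univ z)
  rw [Set.image_univ, Set.range_eq_univ.mpr (f.fiberHomeo y).surjective,
    connectedComponentIn_univ, connectedComponentIn_univ] at h1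
  rw [← h1, Set.image_image]
  rfl

/-- The identity of the spectrum of a field is geometrically connected. -/
theorem geometricallyConnected_id (k : Type u) [Field k] :
    GeometricallyConnected (𝟙 (Spec (CommRingCat.of k))) := by
  refine ⟨fun K _ y Z fst snd h => ?_⟩
  have : IsIso snd := h.isIso_snd_of_isIso
  exact (snd.homeomorph.connectedSpace_iff).mpr inferInstance

/-- The key step: the preimage of the section component of a fibre in the corresponding fibre of a
base change is contained in the section component upstairs. -/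
theorem mem_connectedComponentIn_of_baseChange {X Y X' Y' : Scheme.{u}} (f : X ⟶ Y) (s : Y ⟶ X)
    (hs : s ≫ f = 𝟙 Y) (f' : X' ⟶ Y') (g' : X' ⟶ X) (g : Y' ⟶ Y) (hc : IsPullback g' f' f g)
    (s' : Y' ⟶ X') (hs' : s' ≫ f' = 𝟙 Y') (hs'g : s' ≫ g' = g ≫ s) (y' : Y') (x' : X')
    (hx' : f' x' = y')
    (hx : g' x' ∈ connectedComponentIn (f ⁻¹' {g y'}) (s (g y'))) :
    x' ∈ connectedComponentIn (f' ⁻¹' {y'}) (s' y') := by
  letI : Algebra (IsLocalRing.ResidueField (Y.presheaf.stalk (g y'))) (Y'.residueField y') :=
    (g.residueFieldMap y').hom.toAlgebra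
  -- the rational point of the fibre given by the section
  let σ : Spec (Y.residueField (g y')) ⟶ f.fiber (g y') :=
    pullback.lift (Y.fromSpecResidueField (g y') ≫ s) (𝟙 _) (by
      rw [Category.assoc, hs, Category.comp_id, Category.id_comp])
  have hσι : σ ≫ f.fiberι (g y') = Y.fromSpecResidueField (g y') ≫ s := pullback.lift_fst _ _ _
  have hσp : σ ≫ f.fiberToSpecResidueField (g y') = 𝟙 _ := pullback.lift_snd _ _ _
  let pt : Spec (Y.residueField (g y')) := IsLocalRing.closedPoint (Y.residueField (g y'))
  set z₀ := σ pt with hz₀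
  have hz₀ι : f.fiberι (g y') z₀ = s (g y') := by
    have := congr($(hσι) pt)
    rw [Scheme.Hom.comp_apply, Scheme.Hom.comp_apply, Scheme.fromSpecResidueField_apply] at this
    exact this
  have hgc := geometricallyConnected_id (IsLocalRing.ResidueField (Y.presheaf.stalk (g y')))
  have hT := Groth.Agent.S4621.result (K := Y'.residueField y') (f.fiberToSpecResidueField (g y'))
    (𝟙 _) σ hσp pt
  -- the comparison of fibres
  obtain ⟨ψ, hψι, hpb⟩ : ∃ ψ : f'.fiber y' ⟶ f.fiber (g y'),
      ψ ≫ f.fiberι (g y') = f'.fiberι y' ≫ g' ∧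
      IsPullback ψ (f'.fiberToSpecResidueField y') (f.fiberToSpecResidueField (g y'))
        (Spec.map (g.residueFieldMap y')) :=
    ⟨_, pullback.lift_fst _ _ _, isPullback_fiberToSpecResidueField_of_isPullback hc y'⟩
  let e : f'.fiber y' ≅ FBase.bc (f.fiberToSpecResidueField (g y')) (Y'.residueField y') := hpb.isoPullback
  have he : e.hom ≫ FBase.bcπ (f.fiberToSpecResidueField (g y')) (Y'.residueField y') = ψ := hpb.isoPullback_hom_fst
  set T := (FBase.bcπ (f.fiberToSpecResidueField (g y')) (Y'.residueField y')) ⁻¹' connectedComponent z₀ with hTdef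
  -- points of `f'.fiber y'` mapping into the component lie in `e.hom ⁻¹' T`
  have hmemT : ∀ z' : f'.fiber y', ψ z' ∈ connectedComponent z₀ → e.hom z' ∈ T := by
    intro z' hz'
    change FBase.bcπ (f.fiberToSpecResidueField (g y')) (Y'.residueField y') (e.hom z') ∈ connectedComponent z₀
    rw [← Scheme.Hom.comp_apply, he]
    exact hz'
  have hψinj : ∀ z' : f'.fiber y', ∀ w : f.fiber (g y'), g' (f'.fiberι y' z') = f.fiberι (g y') w → ψ z' = w := by
    intro z' w hw
    apply (f.fiberι (g y')).isEmbedding.injective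
    rw [← Scheme.Hom.comp_apply, hψι, Scheme.Hom.comp_apply]
    exact hw
  set D := (e.inv ≫ f'.fiberι y') '' T with hD
  have hDconn : _root_.IsPreconnected D :=
    hT.isPreconnected.image (e.inv ≫ f'.fiberι y') (e.inv ≫ f'.fiberι y').continuous.continuousOn
  have hDsub : D ⊆ f' ⁻¹' {y'} := by
    rintro _ ⟨t, -, rfl⟩
    rw [← f'.range_fiberι, Scheme.Hom.comp_apply]
    exact ⟨_, rfl⟩
  have hDmem : ∀ p : X', f' p = y' → g' p ∈ f.fiberι (g y') '' connectedComponent z₀ → p ∈ D := by
    intro p hp hgp
    obtain ⟨z', hz'⟩ : p ∈ Set.range (f'.fiberι y') := by rw [f'.range_fiberι]; exact hp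
    obtain ⟨w, hw, hw'⟩ := hgp
    have h1 : ψ z' = w := hψinj z' w (by rw [hz', hw'])
    refine ⟨e.hom z', hmemT z' (h1 ▸ hw), ?_⟩
    rw [← Scheme.Hom.comp_apply, Iso.hom_inv_id_assoc]
    exact hz'
  have hs'D : s' y' ∈ D := by
    refine hDmem _ ?_ ⟨z₀, mem_connectedComponent, ?_⟩
    · have := congr($(hs') y')
      rwa [Scheme.Hom.comp_apply] at this
    · rw [hz₀ι]
      have := congr($(hs'g) y')
      rw [Scheme.Hom.comp_apply, Scheme.Hom.comp_apply] at this
      exact this.symm
  have hx'D : x' ∈ D := by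
    refine hDmem _ hx' ?_
    rw [← connectedComponentIn_fibre_eq_image, hz₀ι]
    exact hx
  exact hDconn.subset_connectedComponentIn hs'D hDsub hx'D

/-- Section components are compatible with base change. -/
theorem sectionComponents_baseChange {X Y X' Y' : Scheme.{u}} (f : X ⟶ Y) (s : Y ⟶ X)
    (hs : s ≫ f = 𝟙 Y) (f' : X' ⟶ Y') (g' : X' ⟶ X) (g : Y' ⟶ Y) (hc : IsPullback g' f' f g)
    (s' : Y' ⟶ X') (hs' : s' ≫ f' = 𝟙 Y') (hs'g : s' ≫ g' = g ≫ s) :
    MoreMor.sectionComponents f' s' = g' ⁻¹' MoreMor.sectionComponents f s := by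
  ext x'
  have hyy : g (f' x') = f (g' x') := by
    have := congr($(hc.w) x')
    rw [Scheme.Hom.comp_apply, Scheme.Hom.comp_apply] at this
    exact this.symm
  change x' ∈ connectedComponentIn (f' ⁻¹' {f' x'}) (s' (f' x')) ↔
    g' x' ∈ connectedComponentIn (f ⁻¹' {f (g' x')}) (s (f (g' x')))
  rw [← hyy]
  constructor
  · intro hx
    set A := connectedComponentIn (f' ⁻¹' {f' x'}) (s' (f' x')) with hA
    have h1 : _root_.IsPreconnected (g' '' A) :=
      isPreconnected_connectedComponentIn.image _ g'.continuous.continuousOn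
    have h2 : s (g (f' x')) ∈ g' '' A := by
      refine ⟨s' (f' x'), ?_, ?_⟩
      · refine mem_connectedComponentIn ?_
        have := congr($(hs') (f' x'))
        rwa [Scheme.Hom.comp_apply] at this
      · have := congr($(hs'g) (f' x'))
        rw [Scheme.Hom.comp_apply, Scheme.Hom.comp_apply] at this
        exact this
    have h3 : g' '' A ⊆ f ⁻¹' {g (f' x')} := by
      rintro _ ⟨a, ha, rfl⟩
      have h4 : a ∈ f' ⁻¹' {f' x'} := connectedComponentIn_subset _ _ ha
      have h4 : f' a = f' x' := h4
      have := congr($(hc.w) a)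
      rw [Scheme.Hom.comp_apply, Scheme.Hom.comp_apply] at this
      change f (g' a) = g (f' x')
      rw [this, h4]
    exact h1.subset_connectedComponentIn h2 h3 ⟨x', hx, rfl⟩
  · intro hx
    exact mem_connectedComponentIn_of_baseChange f s hs f' g' g hc s' hs' hs'g (f' x') x' rfl hx

end Groth.Agent.Lib.Helper78.SectionComp
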