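import Mathlib
import Groth.Prelude.Def_MoreMor
import Groth.Agent.Lib.Helper23.FibreStalkMap
import Groth.Agent.Lib.Helper23.FibreCritScheme
import Groth.Agent.Lib.Helper2.FlatLocusOpen
import Groth.Agent.S1386

/-!
# The flat locus of `X ⟶ Y` over `Z` (with `X` flat and lfp over `Z`, `Y` lft over `Z`)
commutes with base change `Z' ⟶ Z` (scheme level).
-/

set_option autoImplicit false
universe u

namespace Groth.Agent.Lib.Helper78.FlatLocusBC

open AlgebraicGeometry CategoryTheory Limits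

section Nhd

variable {U V : Scheme.{u}}

theorem opens_ι_apply (W : U.Opens) (u : U) (hu : u ∈ W) : W.ι ⟨u, hu⟩ = u := rfl

/-- Flat on an open neighbourhood implies flat at the point. -/
theorem flat_stalkMap_of_nhd (h : U ⟶ V) (W : U.Opens) [Flat (W.ι ≫ h)] (p : W) :
    (h.stalkMap (W.ι p)).hom.Flat := by
  have h1 : ((W.ι ≫ h).stalkMap p).hom.Flat := Flat.stalkMap _ _
  rw [Scheme.Hom.stalkMap_comp] at h1
  replace h1 : ((W.ι.stalkMap p).hom.comp (h.stalkMap (W.ι p)).hom).Flat := h1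
  have h2 : (inv (W.ι.stalkMap p)).hom.Flat :=
    RingHom.Flat.of_bijective (ConcreteCategory.bijective_of_isIso _)
  have h3 := h1.comp h2
  have e : (inv (W.ι.stalkMap p)).hom.comp
      ((W.ι.stalkMap p).hom.comp (h.stalkMap (W.ι p)).hom) = (h.stalkMap (W.ι p)).hom := by
    ext x
    have := congrArg (fun m => m.hom ((h.stalkMap (W.ι p)).hom x))
      (IsIso.hom_inv_id (W.ι.stalkMap p))
    exact this
  rw [e] at h3
  exact h3

theorem flat_stalkMap_of_nhd' (h : U ⟶ V) (W : U.Opens) (hW : Flat (W.ι ≫ h)) (u : U)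
    (hu : u ∈ W) : (h.stalkMap u).hom.Flat :=
  flat_stalkMap_of_nhd h W ⟨u, hu⟩

/-- For `h` locally of finite presentation, flat at a point implies flat on an open
neighbourhood. -/
theorem exists_flat_nhd_of_flat_stalkMap (h : U ⟶ V) [LocallyOfFinitePresentation h] (u : U)
    (hu : (h.stalkMap u).hom.Flat) : ∃ W : U.Opens, u ∈ W ∧ Flat (W.ι ≫ h) := by
  let W : U.Opens := ⟨{x | (h.stalkMap x).hom.Flat},
    Groth.Agent.Lib.Helper2.isOpen_flat_stalkMap_locus h⟩
  refine ⟨W, hu, Flat.of_stalkMap _ (fun p => ?_)⟩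
  rw [Scheme.Hom.stalkMap_comp]
  have h1 : (h.stalkMap (W.ι p)).hom.Flat := p.2
  have h2 : (W.ι.stalkMap p).hom.Flat := Flat.stalkMap W.ι p
  exact h1.comp h2

theorem flat_stalkMap_iff_exists_nhd (h : U ⟶ V) [LocallyOfFinitePresentation h] (u : U) :
    (h.stalkMap u).hom.Flat ↔ ∃ W : U.Opens, u ∈ W ∧ Flat (W.ι ≫ h) :=
  ⟨exists_flat_nhd_of_flat_stalkMap h u, fun ⟨W, hu, hW⟩ => flat_stalkMap_of_nhd' h W hW u hu⟩

end Nhd

section Descend

/-- Descent of flatness at a point along a commutative square with flat sides. -/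
theorem flat_stalkMap_descend {U U' V V' : Scheme.{u}} (F : U ⟶ V) (F' : U' ⟶ V') (a : U' ⟶ U)
    (b : V' ⟶ V) [Flat a] [Flat b] (comm : F' ≫ b = a ≫ F) (u' : U')
    (hF' : (F'.stalkMap u').hom.Flat) : (F.stalkMap (a u')).hom.Flat := by
  have h1 : ((F' ≫ b).stalkMap u').hom.Flat := by
    rw [Scheme.Hom.stalkMap_comp]
    exact (Flat.stalkMap b (F' u')).comp hF'
  rw [comm, Scheme.Hom.stalkMap_comp] at h1
  replace h1 : ((a.stalkMap u').hom.comp (F.stalkMap (a u')).hom).Flat := h1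
  have h2 : (a.stalkMap u').hom.Flat := Flat.stalkMap a u'
  letI algAB : Algebra (V.presheaf.stalk (F (a u'))) (U.presheaf.stalk (a u')) :=
    (F.stalkMap (a u')).hom.toAlgebra
  letI algBC : Algebra (U.presheaf.stalk (a u')) (U'.presheaf.stalk u') :=
    (a.stalkMap u').hom.toAlgebra
  letI algAC : Algebra (V.presheaf.stalk (F (a u'))) (U'.presheaf.stalk u') :=
    ((a.stalkMap u').hom.comp (F.stalkMap (a u')).hom).toAlgebra
  haveI : IsScalarTower (V.presheaf.stalk (F (a u'))) (U.presheaf.stalk (a u'))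
      (U'.presheaf.stalk u') := IsScalarTower.of_algebraMap_eq' rfl
  haveI : Module.Flat (U.presheaf.stalk (a u')) (U'.presheaf.stalk u') := h2
  haveI : Module.Flat (V.presheaf.stalk (F (a u'))) (U'.presheaf.stalk u') := h1
  haveI : IsLocalHom (algebraMap (U.presheaf.stalk (a u')) (U'.presheaf.stalk u')) :=
    inferInstanceAs (IsLocalHom (a.stalkMap u').hom)
  haveI : Module.FaithfullyFlat (U.presheaf.stalk (a u')) (U'.presheaf.stalk u') :=
    Module.FaithfullyFlat.of_flat_of_isLocalHom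
  exact Groth.Agent.H76.FibreFlat.flat_of_faithfullyFlat_module
    (R := V.presheaf.stalk (F (a u'))) (S := U.presheaf.stalk (a u'))
    (M := U'.presheaf.stalk u')

end Descend

section Fibre

open Groth.Agent.Lib.Helper23.FibreStalkMap

variable {U V W U' V' W' : Scheme.{u}} {h : U ⟶ V} {q : V ⟶ W} {γ : W' ⟶ W} {β : V' ⟶ V}
  {q' : V' ⟶ W'} {α : U' ⟶ U} {h' : U' ⟶ V'}

theorem fiberMap_toSpec {X Y S : Scheme.{u}} (f : X ⟶ Y) (g : Y ⟶ S) (s : S) :
    MoreMor.fiberMap f g s ≫ g.fiberToSpecResidueField s =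
      (f ≫ g).fiberToSpecResidueField s := by
  unfold MoreMor.fiberMap Scheme.Hom.fiberToSpecResidueField
  exact pullback.lift_snd _ _ _

/-- The fibre of a base change maps flatly to the fibre. -/
theorem exists_fiber_map (sq : IsPullback β q' q γ) (s' : W') :
    ∃ φ : q'.fiber s' ⟶ q.fiber (γ s'), Flat φ ∧ φ ≫ q.fiberι (γ s') = q'.fiberι s' ≫ β ∧
      φ ≫ q.fiberToSpecResidueField (γ s') =
        q'.fiberToSpecResidueField s' ≫ Spec.map (γ.residueFieldMap s') := by
  have p := isPullback_fiberToSpecResidueField_of_isPullback sq s'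
  have hfl : Flat (Spec.map (γ.residueFieldMap s')) := inferInstance
  refine ⟨_, MorphismProperty.of_isPullback p.flip hfl, ?_, p.w⟩
  unfold Scheme.Hom.fiberι
  exact pullback.lift_fst _ _ _

theorem fiberMap_flat_descend (sq1 : IsPullback β q' q γ) (sq2 : IsPullback α h' h β) (s' : W')
    (z' : (h' ≫ q').fiber s') (hz' : ((MoreMor.fiberMap h' q' s').stalkMap z').hom.Flat) :
    ∃ z : (h ≫ q).fiber (γ s'), (h ≫ q).fiberι (γ s') z = α ((h' ≫ q').fiberι s' z') ∧
      ((MoreMor.fiberMap h q (γ s')).stalkMap z).hom.Flat := by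
  have sq12 : IsPullback α (h' ≫ q') (h ≫ q) γ := sq2.paste_vert sq1
  obtain ⟨φV, fV, hV1, hV2⟩ := exists_fiber_map sq1 s'
  obtain ⟨φU, fU, hU1, hU2⟩ := exists_fiber_map sq12 s'
  have comm : MoreMor.fiberMap h' q' s' ≫ φV = φU ≫ MoreMor.fiberMap h q (γ s') := by
    refine pullback.hom_ext (f := q) (g := W.fromSpecResidueField (γ s')) ?_ ?_
    · change (MoreMor.fiberMap h' q' s' ≫ φV) ≫ q.fiberι (γ s') =
        (φU ≫ MoreMor.fiberMap h q (γ s')) ≫ q.fiberι (γ s')
      calc (MoreMor.fiberMap h' q' s' ≫ φV) ≫ q.fiberι (γ s')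
          = MoreMor.fiberMap h' q' s' ≫ q'.fiberι s' ≫ β := by rw [Category.assoc, hV1]
        _ = ((h' ≫ q').fiberι s' ≫ h') ≫ β := by rw [← Category.assoc, fiberMap_fiberι]
        _ = (h' ≫ q').fiberι s' ≫ α ≫ h := by rw [Category.assoc, sq2.w]
        _ = (φU ≫ (h ≫ q).fiberι (γ s')) ≫ h := by rw [hU1, Category.assoc]
        _ = φU ≫ MoreMor.fiberMap h q (γ s') ≫ q.fiberι (γ s') := by
            rw [Category.assoc, fiberMap_fiberι]
        _ = (φU ≫ MoreMor.fiberMap h q (γ s')) ≫ q.fiberι (γ s') := by rw [Category.assoc]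
    · change (MoreMor.fiberMap h' q' s' ≫ φV) ≫ q.fiberToSpecResidueField (γ s') =
        (φU ≫ MoreMor.fiberMap h q (γ s')) ≫ q.fiberToSpecResidueField (γ s')
      rw [Category.assoc, hV2, ← Category.assoc, fiberMap_toSpec, Category.assoc, fiberMap_toSpec,
        hU2]
  refine ⟨φU z', ?_, flat_stalkMap_descend (MoreMor.fiberMap h q (γ s'))
    (MoreMor.fiberMap h' q' s') φU φV comm z' hz'⟩
  have := congrArg (fun m : (h' ≫ q').fiber s' ⟶ U => m z') hU1
  simpa only [Scheme.Hom.comp_apply] using this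

/-- **Flat locus commutes with base change.** -/
theorem flat_stalkMap_baseChange_iff [LocallyOfFinitePresentation (h ≫ q)] [Flat (h ≫ q)]
    [LocallyOfFiniteType q] (sq1 : IsPullback β q' q γ) (sq2 : IsPullback α h' h β) (u' : U') :
    (h'.stalkMap u').hom.Flat ↔ (h.stalkMap (α u')).hom.Flat := by
  haveI : LocallyOfFinitePresentation h :=
    Groth.Agent.Lib.Helper23.FibreCritScheme.locallyOfFinitePresentation_of_comp (g := q)
      inferInstance inferInstance
  constructor
  · intro hflat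
    have hfib' := (fiberMap_stalkMap_asFiber_flat_iff h' q' u').2
      (Groth.Agent.Lib.Helper23.FibreCritScheme.flat_quotientMap_of_flat _ hflat _)
    obtain ⟨z, hz, hzflat⟩ :=
      fiberMap_flat_descend sq1 sq2 (q' (h' u')) ((h' ≫ q').asFiber u') hfib'
    have hz2 : (h ≫ q).fiberι (γ (q' (h' u'))) z = α u' :=
      hz.trans (congrArg (fun t => α t) ((h' ≫ q').fiberι_asFiber u'))
    have hring := (fiberMap_stalkMap_flat_iff_of_eq h q _ z (α u') hz2).1 hzflat
    have hfib := (fiberMap_stalkMap_asFiber_flat_iff h q (α u')).2 hring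
    exact (((Groth.Agent.S1386.result h q).1 (α u')).1 ⟨Flat.stalkMap _ _, hfib⟩).2
  · intro hflat
    obtain ⟨W₀, hu, hW₀⟩ := exists_flat_nhd_of_flat_stalkMap h (α u') hflat
    have sqr := (isPullback_morphismRestrict α W₀).paste_vert sq2
    have hfl : Flat ((α ⁻¹ᵁ W₀).ι ≫ h') := MorphismProperty.of_isPullback sqr hW₀
    exact flat_stalkMap_of_nhd' h' (α ⁻¹ᵁ W₀) hfl u' hu

end Fibre

end Groth.Agent.Lib.Helper78.FlatLocusBC
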