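import Mathlib

/-!
# Birational morphisms to normal schemes (helper78)

* `valuationRing_of_isIntegrallyClosed_of_dim_le_one`: a Noetherian local normal domain of
  dimension `≤ 1` is a valuation ring.
* `bijective_of_valuationRing_of_dominates`: a valuation ring is maximal for domination.
-/

set_option autoImplicit false
universe u
open CategoryTheory CategoryTheory.Limits AlgebraicGeometry

namespace Groth.Agent.Lib.Helper78

/-- A Noetherian local integrally closed domain of Krull dimension `≤ 1` is a valuation ring. -/
theorem valuationRing_of_isIntegrallyClosed_of_dim_le_one (R : Type*) [CommRing R] [IsDomain R]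
    [IsLocalRing R] [IsNoetherianRing R] [IsIntegrallyClosed R] (h : ringKrullDim R ≤ 1) :
    ValuationRing R := by
  by_cases hF : IsField R
  · let := hF.toField
    infer_instance
  · have h1 : Ring.KrullDimLE 1 R := Ring.krullDimLE_iff.mpr (by exact_mod_cast h)
    have h2 := Ring.krullDimLE_one_iff_of_noZeroDivisors.mp h1
    have hm : IsLocalRing.maximalIdeal R ≠ ⊥ := IsLocalRing.isField_iff_maximalIdeal_eq.not.mp hF
    have hT := (IsDiscreteValuationRing.TFAE R hF).out 3 1
    refine hT.mp ⟨inferInstance, ?_⟩
    refine ⟨IsLocalRing.maximalIdeal R, ⟨hm, inferInstance⟩, fun P hP ↦ ?_⟩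
    have := h2 P hP.1 hP.2
    exact IsLocalRing.eq_maximalIdeal this

/-- Let `A → B` be a local homomorphism of local rings, `A → K`, `B → L` injective maps into
fields with `K` the fraction field of `A`, and `ψ : K → L` a bijective ring homomorphism compatible
with `φ`. If `A` is a valuation ring then `φ` is bijective. -/
theorem bijective_of_valuationRing_of_dominates {A B K L : Type*} [CommRing A] [IsDomain A]
    [ValuationRing A] [CommRing B] [IsLocalRing B] [Field K] [Field L] [Algebra A K]
    [IsFractionRing A K] (φ : A →+* B) [IsLocalHom φ] (β : B →+* L) (hβ : Function.Injective β)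
    (ψ : K →+* L) (hψ : Function.Bijective ψ)
    (hcomm : β.comp φ = ψ.comp (algebraMap A K)) : Function.Bijective φ := by
  have hcomm' : ∀ a, β (φ a) = ψ (algebraMap A K a) := fun a ↦ congr($hcomm a)
  constructor
  · intro a a' h
    apply IsFractionRing.injective A K
    apply hψ.1
    rw [← hcomm', ← hcomm', h]
  · intro b
    obtain ⟨k, hk⟩ := hψ.2 (β b)
    rcases ValuationRing.isInteger_or_isInteger A k with ⟨a, ha⟩ | ⟨a, ha⟩
    · refine ⟨a, hβ ?_⟩
      rw [hcomm', ha, hk]
    · by_cases hk0 : k = 0
      · refine ⟨0, hβ ?_⟩
        rw [map_zero, ← hk, hk0, map_zero, map_zero]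
      by_cases hu : IsUnit a
      · obtain ⟨u, rfl⟩ := hu
        refine ⟨(u⁻¹ : Aˣ), hβ ?_⟩
        rw [hcomm', ← hk]
        congr 1
        have h1 : algebraMap A K (u : A) * k = 1 := by rw [ha]; exact inv_mul_cancel₀ hk0
        have h2 : algebraMap A K (u : A) * algebraMap A K ((u⁻¹ : Aˣ) : A) = 1 := by
          rw [← map_mul]; simp
        have h3 : algebraMap A K (u : A) ≠ 0 := by
          intro h0; rw [h0, zero_mul] at h1; exact zero_ne_one h1
        exact mul_left_cancel₀ h3 (h2.trans h1.symm)
      · exfalso
        have h1 : β (φ a * b) = 1 := by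
          rw [map_mul, hcomm', ha, ← hk, ← map_mul, inv_mul_cancel₀ hk0, map_one]
        have h2 : φ a * b = 1 := hβ (h1.trans (map_one β).symm)
        have h3 : IsUnit (φ a) := IsUnit.of_mul_eq_one _ h2
        exact hu (isUnit_of_map_unit φ a h3)

/-- Birational morphism of integral schemes: if the local ring of `Y` at `f x` is a valuation
ring, the stalk map at `x` is bijective. -/
theorem stalkMap_bijective_of_valuationRing {X Y : Scheme.{u}} [IsIntegral X] [IsIntegral Y]
    (f : X ⟶ Y) (e : f (genericPoint X) = genericPoint Y)
    (hbir : Function.Bijective (Y.presheaf.stalkSpecializes (specializes_of_eq e) ≫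
      f.stalkMap (genericPoint X)).hom)
    (x : X) [ValuationRing (Y.presheaf.stalk (f x))] :
    Function.Bijective (f.stalkMap x).hom := by
  have hx : genericPoint X ⤳ x := (genericPoint_spec X).specializes trivial
  have : IsLocalHom (f.stalkMap x).hom := inferInstance
  refine bijective_of_valuationRing_of_dominates (K := Y.functionField) (L := X.functionField)
    (f.stalkMap x).hom (algebraMap (X.presheaf.stalk x) X.functionField)
    (IsFractionRing.injective _ _) _ hbir ?_
  have h1 := Scheme.Hom.stalkSpecializes_stalkMap f _ _ hx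
  simp only [RingHom.algebraMap_toAlgebra]
  rw [← CommRingCat.hom_comp, ← CommRingCat.hom_comp, ← h1, ← Category.assoc,
    TopCat.Presheaf.stalkSpecializes_comp]

/-- The dimension of a local ring of a scheme is at most the dimension of the scheme. -/
theorem ringKrullDim_stalk_le_topologicalKrullDim (Y : Scheme.{u}) (y : Y) :
    ringKrullDim (Y.presheaf.stalk y) ≤ topologicalKrullDim Y := by
  rw [ringKrullDim_stalk_eq_coheight,
    ← Order.coheight_orderIso (irreducibleSetEquivPoints (α := Y)).symm y]
  exact Order.coheight_le_krullDim _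

/-- A normal local ring of dimension `≤ 1` of an integral locally Noetherian scheme is a valuation
ring. -/
theorem valuationRing_stalk {Y : Scheme.{u}} [IsIntegral Y] [IsLocallyNoetherian Y] (y : Y)
    (hN : IsIntegrallyClosed (Y.presheaf.stalk y)) (hd : ringKrullDim (Y.presheaf.stalk y) ≤ 1) :
    ValuationRing (Y.presheaf.stalk y) :=
  valuationRing_of_isIntegrallyClosed_of_dim_le_one _ hd

/-- A morphism locally of finite type all of whose stalk maps are bijective is locally
quasi-finite. -/
theorem locallyQuasiFinite_of_stalkMap_bijective {X Y : Scheme.{u}} (f : X ⟶ Y)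
    [LocallyOfFiniteType f] (h : ∀ x, Function.Bijective (f.stalkMap x).hom) :
    LocallyQuasiFinite f := by
  rw [← Scheme.Hom.quasiFiniteLocus_eq_top_iff]
  refine top_le_iff.mp fun x _ ↦ ?_
  change (f.stalkMap x).hom.QuasiFinite
  exact RingHom.QuasiFinite.of_finite (RingHom.Finite.of_surjective _ (h x).2)

end Groth.Agent.Lib.Helper78
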