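import Groth.Agent.Lib.Helper78.FibreIrredMain
import Groth.Agent.Lib.Helper55.ClosedSubschemeDim
import Groth.Agent.S2285
import Mathlib.AlgebraicGeometry.Group.Abelian

/-! Fibres of a morphism from an abelian variety to a separated scheme are equidimensional of one
common dimension (helper78). -/

set_option autoImplicit false

universe u

namespace Groth.Agent.Lib.Helper78.AbVarFibre

open AlgebraicGeometry CategoryTheory Topology TopologicalSpace Groth.Agent.Lib.Helper55
  Groth.Agent.Lib.Helper78.FibreIrred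

/-- Every irreducible closed subset of a scheme is the range of a closed immersion from an
integral scheme. -/
theorem exists_integral_closedImmersion {X : Scheme.{u}} (Z : Set X) (hZ : IsClosed Z)
    (hirr : IsIrreducible Z) :
    ∃ (Z' : Scheme.{u}) (ι : Z' ⟶ X), IsClosedImmersion ι ∧ IsIntegral Z' ∧ Set.range ι = Z := by
  have hred : IsReduced (Scheme.IdealSheafData.vanishingIdeal ⟨Z, hZ⟩).subscheme :=
    Groth.Agent.S2285.isReduced_subscheme_vanishingIdeal ⟨Z, hZ⟩
  have hrange : Set.range (Scheme.IdealSheafData.vanishingIdeal ⟨Z, hZ⟩).subschemeι = Z := by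
    rw [Scheme.IdealSheafData.range_subschemeι, Scheme.IdealSheafData.coe_support_vanishingIdeal]
    rfl
  refine ⟨_, (Scheme.IdealSheafData.vanishingIdeal ⟨Z, hZ⟩).subschemeι, inferInstance, ?_, hrange⟩
  set ι := (Scheme.IdealSheafData.vanishingIdeal ⟨Z, hZ⟩).subschemeι with hι
  have hemb : IsClosedEmbedding ι := ι.isClosedEmbedding
  have h1 : IsIrreducible (Set.range ι) := hrange.symm ▸ hirr
  have h2 : IrreducibleSpace ↥(Set.range ι) := Subtype.irreducibleSpace h1
  have hirr' : IrreducibleSpace ↥(Scheme.IdealSheafData.vanishingIdeal ⟨Z, hZ⟩).subscheme :=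
    irreducibleSpace_of_homeomorph hemb.isEmbedding.toHomeomorph
  exact isIntegral_of_irreducibleSpace_of_isReduced _

/-- A morphism from an integral scheme universally closed over a field into an affine open of a
scheme is constant on points. -/
theorem apply_eq_of_range_subset_affine (K : Type u) [Field K] {T Y : Scheme.{u}}
    (p : T ⟶ Spec (CommRingCat.of K)) [IsIntegral T] [UniversallyClosed p] (h : T ⟶ Y)
    (U : Y.Opens) (hU : IsAffineOpen U) (hr : Set.range h ⊆ (U : Set Y)) (t₁ t₂ : T) :
    h t₁ = h t₂ := by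
  have hfield := isField_of_universallyClosed K p
  let h₀ : T ⟶ (U : Scheme.{u}) := IsOpenImmersion.lift U.ι h (by
    rw [Scheme.Opens.range_ι]; exact hr)
  have hh₀ : h₀ ≫ U.ι = h := IsOpenImmersion.lift_fac _ _ _
  have : IsAffine (U : Scheme.{u}) := hU
  have hnat := Scheme.toSpecΓ_naturality h₀
  have hsub : Subsingleton ↥(Spec Γ(T, ⊤)) := by
    have hs : IsSimpleOrder (Ideal Γ(T, ⊤)) := Ring.isField_iff_isSimpleOrder_ideal.mp hfield
    refine ⟨fun p q => PrimeSpectrum.ext ?_⟩
    rcases eq_bot_or_eq_top p.asIdeal with hp | hp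
    · rcases eq_bot_or_eq_top q.asIdeal with hq | hq
      · rw [hp, hq]
      · exact absurd hq q.2.ne_top
    · exact absurd hp p.2.ne_top
  have h1 : (T.toSpecΓ ≫ Spec.map h₀.appTop) t₁ = (T.toSpecΓ ≫ Spec.map h₀.appTop) t₂ := by
    rw [Scheme.Hom.comp_apply, Scheme.Hom.comp_apply, hsub.elim (T.toSpecΓ t₁) (T.toSpecΓ t₂)]
  rw [← hnat, Scheme.Hom.comp_apply, Scheme.Hom.comp_apply] at h1
  have hinj : Function.Injective (U : Scheme.{u}).toSpecΓ :=
    (ConcreteCategory.bijective_of_isIso ((U : Scheme.{u}).toSpecΓ.base)).1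
  have h2 : h₀ t₁ = h₀ t₂ := hinj h1
  rw [← hh₀, Scheme.Hom.comp_apply, Scheme.Hom.comp_apply, h2]

/-- The local fibre dimension of a morphism that is constant on points is the local dimension of
the source. -/
theorem fibreDimAt_eq_localDim_of_const {T Y : Scheme.{u}} (g : T ⟶ Y)
    (hconst : ∀ t₁ t₂ : T, g t₁ = g t₂) (w : T) :
    FlatMor.fibreDimAt g w = FlatMor.localDim T w := by
  unfold FlatMor.fibreDimAt
  have hopen : IsOpenEmbedding (g.fiberι (g w)) := by
    refine ⟨(g.fiberι (g w)).isEmbedding, ?_⟩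
    rw [g.range_fiberι]
    have : g ⁻¹' {g w} = Set.univ := by
      ext t
      simp [hconst t w]
    rw [this]
    exact isOpen_univ
  have := localDim_eq_of_isOpenEmbedding (g.fiberι (g w)) hopen (g.asFiber w)
  rw [g.fiberι_asFiber] at this
  exact this

section translation

open MonoidalCategory CartesianMonoidalCategory MonObj

variable {C : Type*} [Category C] [CartesianMonoidalCategory C] (G : C) [GrpObj G]

/-- Left translation by a point of a group object. -/
def leftTr (b : 𝟙_ C ⟶ G) : G ⟶ G := (toUnit G ≫ b) * 𝟙 G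

theorem leftTr_comp (b c : 𝟙_ C ⟶ G) : leftTr G b ≫ leftTr G c = leftTr G (c * b) := by
  unfold leftTr
  rw [comp_mul, Category.comp_id, ← Category.assoc, toUnit_unique (_ ≫ toUnit G) (toUnit G),
    ← _root_.mul_assoc, ← comp_mul]

theorem leftTr_one : leftTr G (1 : 𝟙_ C ⟶ G) = 𝟙 G := by
  unfold leftTr
  rw [comp_one, _root_.one_mul]

theorem point_comp_leftTr (u b : 𝟙_ C ⟶ G) : u ≫ leftTr G b = b * u := by
  unfold leftTr
  rw [comp_mul, Category.comp_id, ← Category.assoc, toUnit_unique (u ≫ toUnit G) (𝟙 _),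
    Category.id_comp]

instance (b : 𝟙_ C ⟶ G) : IsIso (leftTr G b) :=
  ⟨⟨leftTr G b⁻¹, by rw [leftTr_comp, inv_mul_cancel, leftTr_one],
    by rw [leftTr_comp, mul_inv_cancel, leftTr_one]⟩⟩

/-- Right translation by a point of a group object. -/
def rightTr (b : 𝟙_ C ⟶ G) : G ⟶ G := 𝟙 G * (toUnit G ≫ b)

theorem point_comp_rightTr (u b : 𝟙_ C ⟶ G) : u ≫ rightTr G b = u * b := by
  unfold rightTr
  rw [comp_mul, Category.comp_id, ← Category.assoc, toUnit_unique (u ≫ toUnit G) (𝟙 _),
    Category.id_comp]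

end translation

/-- Through a point `x₁` lying over a closed point there is an integral closed subscheme contained
in the fibre and of dimension the local fibre dimension at `x₁`. -/
theorem exists_component_closedImmersion {X Y : Scheme.{u}} (f : X ⟶ Y) [LocallyOfFiniteType f]
    (x₁ : X) (hy : IsClosed ({f x₁} : Set Y)) :
    ∃ (T' : Scheme.{u}) (ι : T' ⟶ X) (x₁' : T'), IsClosedImmersion ι ∧ IsIntegral T' ∧
      ι x₁' = x₁ ∧ (∀ u : T', f (ι u) = f x₁) ∧
      topologicalKrullDim T' = FlatMor.fibreDimAt f x₁ := by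
  have hlft : LocallyOfFiniteType (f.fiberToSpecResidueField (f x₁)) :=
    MorphismProperty.pullback_snd (P := @LocallyOfFiniteType) _ _ inferInstance
  obtain ⟨ξ, hξcomp, hξz, hξdim⟩ := exists_mem_irreducibleComponents_dim_eq_localDim
    (k := ↑(Y.residueField (f x₁))) (f.fiberToSpecResidueField (f x₁)) (f.asFiber x₁)
  obtain ⟨T', j, hj, hT', hrange⟩ := exists_integral_closedImmersion
    (closure ({ξ} : Set ↥(f.fiber (f x₁)))) isClosed_closure isIrreducible_singleton.closure
  have hcl : IsClosedImmersion (Y.fromSpecResidueField (f x₁)) :=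
    isClosed_singleton_iff_isClosedImmersion.mp hy
  have hcl' : IsClosedImmersion (f.fiberι (f x₁)) :=
    MorphismProperty.pullback_fst (P := @IsClosedImmersion) _ _ hcl
  have hz : f.asFiber x₁ ∈ Set.range j := by
    rw [hrange]
    exact specializes_iff_mem_closure.mp hξz
  obtain ⟨x₁', hx₁'⟩ := hz
  refine ⟨T', j ≫ f.fiberι (f x₁), x₁', inferInstance, hT', ?_, ?_, ?_⟩
  · rw [Scheme.Hom.comp_apply, hx₁', f.fiberι_asFiber]
  · intro u
    have h1 : (j ≫ f.fiberι (f x₁)) u ∈ Set.range (f.fiberι (f x₁)) := ⟨j u, rfl⟩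
    rw [f.range_fiberι] at h1
    exact h1
  · have h1 : topologicalKrullDim T' = topologicalKrullDim ↥(Set.range j) :=
      IsHomeomorph.topologicalKrullDim_eq _ j.isClosedEmbedding.isEmbedding.toHomeomorph.isHomeomorph
    rw [h1, hrange, hξdim]
    rfl

section points

open MonoidalCategory CartesianMonoidalCategory MonObj Limits

variable {K : Type u} [Field K]

/-- The point of `X` underlying a `K`-point. -/
noncomputable abbrev ptOf (X : Over (Spec (CommRingCat.of K)))
    (b : 𝟙_ (Over (Spec (CommRingCat.of K))) ⟶ X) : X.left :=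
  b.left (IsLocalRing.closedPoint K)

theorem left_apply_eq_ptOf (X : Over (Spec (CommRingCat.of K)))
    (b : 𝟙_ (Over (Spec (CommRingCat.of K))) ⟶ X)
    (s : (𝟙_ (Over (Spec (CommRingCat.of K)))).left) : b.left s = ptOf X b := by
  have hss : Subsingleton (PrimeSpectrum K) := inferInstance
  have : s = IsLocalRing.closedPoint K := hss.elim _ _
  rw [this]

theorem range_left_point (X : Over (Spec (CommRingCat.of K)))
    (b : 𝟙_ (Over (Spec (CommRingCat.of K))) ⟶ X) : Set.range b.left = {ptOf X b} := by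
  ext x
  constructor
  · rintro ⟨s, rfl⟩
    exact left_apply_eq_ptOf X b s
  · rintro rfl
    exact ⟨_, rfl⟩

theorem range_lift_point (X T : Over (Spec (CommRingCat.of K)))
    (b : 𝟙_ (Over (Spec (CommRingCat.of K))) ⟶ X) :
    Set.range (lift (toUnit T ≫ b) (𝟙 T)).left = (fst X T).left ⁻¹' {ptOf X b} := by
  have h : lift (toUnit T ≫ b) (𝟙 T) = (λ_ T).inv ≫ (b ⊗ₘ 𝟙 T) := by
    ext <;> simp
  have hsurj : Function.Surjective (λ_ T).inv.left := by
    have : IsIso (λ_ T).inv.left := inferInstance
    exact (ConcreteCategory.bijective_of_isIso ((λ_ T).inv.left.base)).2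
  rw [h, Over.comp_left, Scheme.Hom.comp_base, TopCat.coe_comp, Set.range_comp,
    Set.range_eq_univ.mpr hsurj, Set.image_univ, Over.tensorHom_left, Scheme.Pullback.range_map]
  rw [range_left_point]
  have h2 : Set.range ⇑(Over.Hom.left (𝟙 T)) = Set.univ := by
    rw [Over.id_left]
    simp
  rw [h2, Set.preimage_univ, Set.inter_univ]
  rfl

end points

section claimA

open MonoidalCategory CartesianMonoidalCategory MonObj Limits

variable {K : Type u} [Field K] [IsAlgClosed K] (X : Over (Spec (CommRingCat.of K))) [GrpObj X]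
  [IsProper X.hom] {Y : Scheme.{u}} (q : Y ⟶ Spec (CommRingCat.of K)) [IsSeparated q]
  (f : X.left ⟶ Y) (hf : f ≫ q = X.hom)

/-- The `K`-point attached to a closed point. -/
noncomputable def kPoint (x : X.left) (hx : IsClosed ({x} : Set X.left)) :
    𝟙_ (Over (Spec (CommRingCat.of K))) ⟶ X :=
  Over.homMk (pointOfClosedPoint X.hom x hx) (by simp)

omit [GrpObj X] in
theorem ptOf_kPoint (x : X.left) (hx : IsClosed ({x} : Set X.left)) :
    ptOf X (kPoint X x hx) = x :=
  pointOfClosedPoint_apply X.hom x hx _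

omit [IsAlgClosed K] [GrpObj X] [IsProper X.hom] in
theorem left_ptOf (X' : Over (Spec (CommRingCat.of K)))
    (b : 𝟙_ (Over (Spec (CommRingCat.of K))) ⟶ X) (g : X ⟶ X') :
    g.left (ptOf X b) = ptOf X' (b ≫ g) := by
  unfold ptOf
  rw [Over.comp_left, Scheme.Hom.comp_apply]

include hf in
theorem exists_nhd_le_fibreDimAt (x₁ : X.left) (hx₁ : IsClosed ({x₁} : Set X.left)) :
    ∃ N : X.left.Opens, x₁ ∈ N ∧ ∀ a ∈ N, IsClosed ({a} : Set X.left) →
      FlatMor.fibreDimAt f x₁ ≤ FlatMor.fibreDimAt f a := by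
  have hfprop : IsProper f := by
    have : IsProper (f ≫ q) := by rw [hf]; infer_instance
    exact IsProper.of_comp f q
  have hy₀ : IsClosed ({f x₁} : Set Y) := by
    have := f.isClosedMap _ hx₁
    rwa [Set.image_singleton] at this
  obtain ⟨T', jT, x₁', hjT, hT', hjx, hjf, hdim⟩ := exists_component_closedImmersion f x₁ hy₀
  obtain ⟨U₀, hU₀, hyU₀, -⟩ := exists_isAffineOpen_mem_and_subset (x := f x₁) (U := ⊤) trivial
  let T'' : Over (Spec (CommRingCat.of K)) := Over.mk (jT ≫ X.hom)
  let jo : T'' ⟶ X := Over.homMk jT rfl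
  have hT''prop : IsProper T''.hom := inferInstanceAs (IsProper (jT ≫ X.hom))
  let Φ : (X ⊗ T'').left ⟶ Y := ((X ◁ jo) ≫ μ).left ≫ f
  have hprprop : IsProper (fst X T'').left := by dsimp; infer_instance
  have hpr : IsClosedMap (fst X T'').left := (fst X T'').left.isClosedMap
  let C : Set (X ⊗ T'').left := Φ ⁻¹' (U₀ : Set Y)ᶜ
  have hC : IsClosed C := (U₀.2.isClosed_compl).preimage Φ.continuous
  let V : X.left.Opens := ⟨((fst X T'').left '' C)ᶜ, (hpr C hC).isOpen_compl⟩
  have hkey : ∀ (b : 𝟙_ (Over (Spec (CommRingCat.of K))) ⟶ X) (u : T'),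
      Φ ((lift (toUnit T'' ≫ b) (𝟙 T'')).left u) = f ((leftTr X b).left (jT u)) := by
    intro b u
    have h1 : lift (toUnit T'' ≫ b) (𝟙 T'') ≫ (X ◁ jo) ≫ μ = jo ≫ leftTr X b := by
      unfold leftTr
      rw [comp_mul, Category.comp_id, ← Category.assoc jo,
        toUnit_unique (jo ≫ toUnit X) (toUnit T''), Hom.mul_def, ← Category.assoc]
      congr 1
      ext <;> simp
    have h2 : (lift (toUnit T'' ≫ b) (𝟙 T'')).left ≫ Φ = (jT ≫ (leftTr X b).left) ≫ f := by
      change (lift (toUnit T'' ≫ b) (𝟙 T'')).left ≫ ((X ◁ jo) ≫ μ).left ≫ f = _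
      rw [← Category.assoc, ← Over.comp_left, h1, Over.comp_left]
      rfl
    have h3 := congr(($h2) u)
    exact h3
  have hV_of : ∀ b : 𝟙_ (Over (Spec (CommRingCat.of K))) ⟶ X, ptOf X b ∈ V →
      ∀ u : T', f ((leftTr X b).left (jT u)) ∈ U₀ := by
    intro b hb u
    by_contra hnot
    apply hb
    refine ⟨(lift (toUnit T'' ≫ b) (𝟙 T'')).left u, ?_, ?_⟩
    · change Φ _ ∉ U₀
      rw [hkey]
      exact hnot
    · rw [← Scheme.Hom.comp_apply, ← Over.comp_left, lift_fst, Over.comp_left,
        Scheme.Hom.comp_apply]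
      exact left_apply_eq_ptOf X b _
  have heV : ptOf X (1 : 𝟙_ (Over (Spec (CommRingCat.of K))) ⟶ X) ∈ V := by
    rintro ⟨p, hpC, hp⟩
    have hp' : p ∈ Set.range (lift (toUnit T'' ≫ (1 : 𝟙_ _ ⟶ X)) (𝟙 T'')).left := by
      rw [range_lift_point]
      exact hp
    obtain ⟨u, rfl⟩ := hp'
    apply hpC
    change Φ _ ∈ U₀
    rw [hkey, leftTr_one, Over.id_left]
    change f (jT u) ∈ U₀
    rw [hjf u]
    exact hyU₀
  set x₁k := kPoint X x₁ hx₁ with hx₁k
  let R : X ⟶ X := rightTr X x₁k⁻¹
  refine ⟨R.left ⁻¹ᵁ V, ?_, ?_⟩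
  · change R.left x₁ ∈ V
    rw [← ptOf_kPoint X x₁ hx₁, left_ptOf, point_comp_rightTr, mul_inv_cancel]
    exact heV
  · intro a haN ha
    set ak := kPoint X a ha with hak
    set b := ak * x₁k⁻¹ with hb
    have hbV : ptOf X b ∈ V := by
      have h1 : R.left a ∈ V := haN
      rw [← ptOf_kPoint X a ha, left_ptOf, point_comp_rightTr] at h1
      exact h1
    have hLx₁ : (leftTr X b).left x₁ = a := by
      rw [← ptOf_kPoint X x₁ hx₁, left_ptOf, point_comp_leftTr, hb, inv_mul_cancel_right,
        ptOf_kPoint]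
    have hisoL : IsIso (leftTr X b).left :=
      inferInstanceAs (IsIso ((Over.forget _).map (leftTr X b)))
    let i : T' ⟶ X.left := jT ≫ (leftTr X b).left
    have hi : IsClosedImmersion i := inferInstance
    have hconst : ∀ t₁ t₂ : T', (i ≫ f) t₁ = (i ≫ f) t₂ := by
      have huc : UniversallyClosed T''.hom := inferInstance
      refine apply_eq_of_range_subset_affine K (T := T') T''.hom (i ≫ f) U₀ hU₀ ?_
      rintro _ ⟨u, rfl⟩
      exact hV_of b hbV u
    have hlftT : LocallyOfFiniteType T''.hom := inferInstance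
    have h1 := fibreDimAt_eq_localDim_of_const (i ≫ f) hconst x₁'
    have h2 := localDim_eq_topologicalKrullDim_of_irreducibleSpace (X := T') T''.hom x₁'
    have h3 := fibreDimAt_preimmersion_comp_le f i x₁'
    have h4 : i x₁' = a := by
      change (leftTr X b).left (jT x₁') = a
      rw [hjx, hLx₁]
    rw [h4, h1, h2] at h3
    rw [← hdim]
    exact h3

include hf in
/-- Over an algebraically closed field, the local fibre dimension of a morphism from an abelian
variety to a separated scheme is constant. -/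
theorem fibreDimAt_const_of_algClosed [IsIntegral X.left] :
    ∃ d : ℕ, ∀ x : X.left, FlatMor.fibreDimAt f x = d := by
  have hfprop : IsProper f := by
    have : IsProper (f ≫ q) := by rw [hf]; infer_instance
    exact IsProper.of_comp f q
  have hJ : JacobsonSpace X.left := LocallyOfFiniteType.jacobsonSpace X.hom
  have hnat : ∀ x : X.left, ∃ n : ℕ, FlatMor.fibreDimAt f x = n := by
    intro x
    have hlft : LocallyOfFiniteType (f.fiberToSpecResidueField (f x)) :=
      MorphismProperty.pullback_snd (P := @LocallyOfFiniteType) _ _ inferInstance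
    exact exists_localDim_eq_natCast (k := ↑(Y.residueField (f x)))
      (f.fiberToSpecResidueField (f x)) (f.asFiber x)
  set ξ := genericPoint X.left with hξ
  obtain ⟨d, hd⟩ := hnat ξ
  have hξmem : ∀ O : Set X.left, IsOpen O → O.Nonempty → ξ ∈ O := by
    intro O hO hne
    exact ((genericPoint_spec X.left).mem_open_set_iff hO).mpr (by simpa using hne)
  have hge : ∀ x : X.left, (d : WithBot ℕ∞) ≤ FlatMor.fibreDimAt f x := by
    intro x
    obtain ⟨n, hn⟩ := hnat x
    have h1 := hξmem _ (isOpen_setOf_fibreDimAt_le f n) ⟨x, hn.le⟩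
    have h2 : FlatMor.fibreDimAt f ξ ≤ n := h1
    rw [hn, ← hd]
    exact h2
  refine ⟨d, fibreDimAt_eq_of_closedPoints f d fun x₁ hx₁ => le_antisymm ?_ (hge x₁)⟩
  obtain ⟨N, hx₁N, hN⟩ := exists_nhd_le_fibreDimAt X q f hf x₁ hx₁
  have hOopen : IsOpen ((N : Set X.left) ∩ {x | FlatMor.fibreDimAt f x ≤ d}) :=
    N.2.inter (isOpen_setOf_fibreDimAt_le f d)
  have hOne : ((N : Set X.left) ∩ {x | FlatMor.fibreDimAt f x ≤ d}).Nonempty :=
    ⟨ξ, hξmem _ N.2 ⟨x₁, hx₁N⟩, hd.le⟩
  obtain ⟨a, ⟨haN, had⟩, hacl⟩ := nonempty_inter_closedPoints hOne hOopen.isLocallyClosed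
  exact (hN a haN hacl).trans had

end claimA

section descent

open MonoidalCategory CartesianMonoidalCategory MonObj Limits

variable {k : Type u} [Field k] (X : Over (Spec (CommRingCat.of k))) [GrpObj X]
  [IsProper X.hom] [GeometricallyIntegral X.hom] {Y : Scheme.{u}}
  (q : Y ⟶ Spec (CommRingCat.of k)) [IsSeparated q] (f : X.left ⟶ Y) (hf : f ≫ q = X.hom)

include hf in
/-- The local fibre dimension of a morphism from an abelian variety to a separated scheme is
constant. -/
theorem fibreDimAt_const : ∃ d : ℕ, ∀ x : X.left, FlatMor.fibreDimAt f x = d := by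
  have hfprop : IsProper f := by
    have : IsProper (f ≫ q) := by rw [hf]; infer_instance
    exact IsProper.of_comp f q
  let s : Spec (CommRingCat.of (AlgebraicClosure k)) ⟶ Spec (CommRingCat.of k) :=
    Spec.map (CommRingCat.ofHom (algebraMap k (AlgebraicClosure k)))
  let X' := (Over.pullback s).obj X
  have hX'prop : IsProper X'.hom := by dsimp [X']; infer_instance
  have hX'int : IsIntegral X'.left := by dsimp [X']; infer_instance
  let _ : GrpObj X' := Functor.grpObjObj
  let f' : X'.left ⟶ pullback q s :=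
    pullback.lift (pullback.fst X.hom s ≫ f) (pullback.snd X.hom s)
      (by rw [Category.assoc, hf, pullback.condition])
  have hf' : f' ≫ pullback.snd q s = X'.hom := pullback.lift_snd _ _ _
  have hq' : IsSeparated (pullback.snd q s) := inferInstance
  obtain ⟨d, hd⟩ := fibreDimAt_const_of_algClosed X' (pullback.snd q s) f' hf'
  have hf'fst : f' ≫ pullback.fst q s = pullback.fst X.hom s ≫ f := pullback.lift_fst _ _ _
  have hbig : IsPullback (f' ≫ pullback.snd q s) (pullback.fst X.hom s) s (f ≫ q) := by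
    have h1 : f' ≫ pullback.snd q s = pullback.snd X.hom s := pullback.lift_snd _ _ _
    rw [h1, hf]
    exact (IsPullback.of_hasPullback X.hom s).flip
  have hsq : IsPullback (pullback.fst X.hom s) f' f (pullback.fst q s) :=
    (IsPullback.of_right hbig hf'fst (IsPullback.of_hasPullback q s).flip).flip
  have hsurj : Surjective s :=
    ⟨fun x => ⟨IsLocalRing.closedPoint (AlgebraicClosure k), Subsingleton.elim _ _⟩⟩
  have hsurj' : Surjective (pullback.fst X.hom s) := inferInstance
  refine ⟨d, fun x => ?_⟩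
  obtain ⟨x', rfl⟩ := (pullback.fst X.hom s).surjective x
  rw [← fibreDimAt_eq_of_isPullback f (pullback.fst q s) (pullback.fst X.hom s) f' hsq x']
  exact hd x'

include hf in
/-- All irreducible components of all fibres of a morphism from an abelian variety to a separated
scheme have the same dimension. -/
theorem exists_dim_fibre_components :
    ∃ d : ℕ, ∀ (y : Y) (Z : Set ↥(f.fiber y)), Z ∈ irreducibleComponents ↥(f.fiber y) →
      topologicalKrullDim ↥Z = d := by
  have hfprop : IsProper f := by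
    have : IsProper (f ≫ q) := by rw [hf]; infer_instance
    exact IsProper.of_comp f q
  obtain ⟨d, hd⟩ := fibreDimAt_const X q f hf
  refine ⟨d, fun y => ?_⟩
  have hlft : LocallyOfFiniteType (f.fiberToSpecResidueField y) :=
    MorphismProperty.pullback_snd (P := @LocallyOfFiniteType) _ _ inferInstance
  refine (forall_irreducibleComponents_dim_eq_iff (k := ↑(Y.residueField y))
    (f.fiberToSpecResidueField y) (d : WithBot ℕ∞)).mpr fun z => ?_
  rw [localDim_fiber_eq_fibreDimAt f y z]
  exact hd _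

end descent

end Groth.Agent.Lib.Helper78.AbVarFibre
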