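import Mathlib
import Groth.Agent.Lib.Helper24.SmoothNormalStalk
set_option autoImplicit false
universe u
open CategoryTheory CategoryTheory.Limits AlgebraicGeometry

namespace Groth.Agent.Lib.Helper78

/-- The local rings of `Spec k`, `k` a field, are integrally closed domains. -/
theorem isIntegrallyClosed_stalk_Spec_field (k : Type u) [Field k] (s : Spec (CommRingCat.of k)) :
    IsDomain ((Spec (CommRingCat.of k)).presheaf.stalk s) ∧
      IsIntegrallyClosed ((Spec (CommRingCat.of k)).presheaf.stalk s) := by
  have : s.asIdeal.IsPrime := s.isPrime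
  let _ : Algebra k ((Spec (CommRingCat.of k)).presheaf.stalk s) :=
    StructureSheaf.stalkAlgebra (CommRingCat.of k) s
  have : IsLocalization.AtPrime ((Spec (CommRingCat.of k)).presheaf.stalk s) s.asIdeal :=
    StructureSheaf.IsLocalization.to_stalk (CommRingCat.of k) s
  have hM : s.asIdeal.primeCompl ≤ IsUnit.submonoid k := by
    intro a ha
    have h0 : a ≠ 0 := by
      rintro rfl
      exact ha (zero_mem _)
    exact (isUnit_iff_ne_zero.mpr h0)
  have e : k ≃ₐ[k] (Spec (CommRingCat.of k)).presheaf.stalk s :=
    IsLocalization.atUnits k s.asIdeal.primeCompl (fun a ha ↦ hM ha)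
  exact Groth.Agent.Lib.Helper24.isDomain_and_isIntegrallyClosed_of_ringEquiv e.toRingEquiv
    ⟨inferInstance, inferInstance⟩

/-- A scheme smooth over a field has integrally closed local rings. -/
theorem isIntegrallyClosed_stalk_of_smooth_field (k : Type u) [Field k] {Y : Scheme.{u}}
    (p : Y ⟶ Spec (CommRingCat.of k)) [Smooth p] (y : Y) :
    IsDomain (Y.presheaf.stalk y) ∧ IsIntegrallyClosed (Y.presheaf.stalk y) := by
  have hy : y ∈ p.smoothLocus := by
    rw [(Scheme.Hom.smoothLocus_eq_top_iff).mpr inferInstance]; trivial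
  exact Groth.Agent.Lib.Helper24.isIntegrallyClosed_stalk_of_formallySmooth_stalkMap p y hy
    (isIntegrallyClosed_stalk_Spec_field k _)

end Groth.Agent.Lib.Helper78
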