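import Mathlib
import Groth.Prelude.Def_Pi1

/-!
# Normal proper completions of curves: formal part

`HasCompletion g` for `g : W ⟶ S`: there is a dense open immersion `j : W ⟶ C` over `S` into a
normal scheme `C`, proper over `S`, all of whose closed points have local rings of dimension one.
We show this is stable under isomorphisms and finite disjoint unions.
-/

set_option autoImplicit false
universe u
open CategoryTheory CategoryTheory.Limits AlgebraicGeometry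

namespace Groth.Agent.Lib.Helper78.Completion

/-- A dense open immersion over `S` into a normal "curve" proper over `S`. -/
def HasCompletion {W S : Scheme.{u}} (g : W ⟶ S) : Prop :=
  ∃ (C : Scheme.{u}) (sc : C ⟶ S) (j : W ⟶ C), IsOpenImmersion j ∧ Dense (Set.range j.base) ∧
    j ≫ sc = g ∧ IsProper sc ∧ Pi1.IsNormalScheme C ∧
    ∀ x : C, IsClosed ({x} : Set C) → ringKrullDim (C.presheaf.stalk x) = 1

/-- The stalk equivalence induced by an open immersion. -/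
noncomputable def stalkEquiv {X Y : Scheme.{u}} (f : X ⟶ Y) [IsOpenImmersion f] (x : X) :
    Y.presheaf.stalk (f.base x) ≃+* X.presheaf.stalk x :=
  (asIso (f.stalkMap x)).commRingCatIsoToRingEquiv

theorem isDomain_isIntegrallyClosed_of_ringEquiv {A B : Type*} [CommRing A] [CommRing B]
    (e : A ≃+* B) (h : IsDomain A ∧ IsIntegrallyClosed A) : IsDomain B ∧ IsIntegrallyClosed B := by
  obtain ⟨h1, h2⟩ := h
  have : IsDomain B := e.symm.toMulEquiv.isDomain
  exact ⟨inferInstance, IsIntegrallyClosed.of_equiv e⟩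

theorem hasCompletion_of_isEmpty {W S : Scheme.{u}} [IsEmpty W] (g : W ⟶ S) : HasCompletion g := by
  refine ⟨W, g, 𝟙 W, inferInstance, ?_, by simp, inferInstance, ?_, ?_⟩
  · intro x; exact (IsEmpty.false x).elim
  · intro x; exact (IsEmpty.false x).elim
  · intro x; exact (IsEmpty.false x).elim

theorem hasCompletion_of_iso {W W' S : Scheme.{u}} (e : W' ≅ W) (g : W ⟶ S)
    (h : HasCompletion g) : HasCompletion (e.hom ≫ g) := by
  obtain ⟨C, sc, j, h1, h2, h3, h4, h5, h6⟩ := h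
  refine ⟨C, sc, e.hom ≫ j, inferInstance, ?_, by rw [Category.assoc, h3], h4, h5, h6⟩
  have : Set.range (e.hom ≫ j).base = Set.range j.base := by
    ext c
    constructor
    · rintro ⟨x, rfl⟩
      exact ⟨e.hom.base x, by simp⟩
    · rintro ⟨x, rfl⟩
      refine ⟨e.inv.base x, ?_⟩
      simp only [Scheme.Hom.comp_base, TopCat.hom_comp, ContinuousMap.comp_apply]
      congr 1
      exact congrFun (congrArg (fun f => (f.base : W → W)) e.inv_hom_id) x
  rw [this]; exact h2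

/-- In a binary coproduct of schemes every point comes from one of the two summands. -/
theorem coprod_cases (C₁ C₂ : Scheme.{u}) (c : (C₁ ⨿ C₂ : Scheme.{u})) :
    (∃ y : C₁, (coprod.inl : C₁ ⟶ C₁ ⨿ C₂).base y = c) ∨
      ∃ y : C₂, (coprod.inr : C₂ ⟶ C₁ ⨿ C₂).base y = c := by
  have h := (isCompl_range_inl_inr C₁ C₂).sup_eq_top
  have hc : c ∈ (Set.range (coprod.inl : C₁ ⟶ C₁ ⨿ C₂).base ⊔
      Set.range (coprod.inr : C₂ ⟶ C₁ ⨿ C₂).base : Set _) := by
    rw [h]; trivial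
  rcases hc with ⟨y, hy⟩ | ⟨y, hy⟩
  · exact Or.inl ⟨y, hy⟩
  · exact Or.inr ⟨y, hy⟩

theorem isProper_coprodDesc {C₁ C₂ S : Scheme.{u}} (s₁ : C₁ ⟶ S) (s₂ : C₂ ⟶ S) [IsProper s₁]
    [IsProper s₂] : IsProper (coprod.desc s₁ s₂) := by
  have h1 : coprod.desc s₁ s₂ = coprod.map s₁ s₂ ≫ coprod.desc (𝟙 S) (𝟙 S) := by
    apply coprod.hom_ext <;> simp
  have h2 : IsProper (coprod.map s₁ s₂) :=
    IsZariskiLocalAtTarget.coprodMap (P := @IsProper) s₁ s₂ ‹_› ‹_›
  rw [h1]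
  infer_instance

/-- Normality and the curve condition transfer along a jointly surjective pair of open
immersions. -/
theorem normal_curve_of_cover {C C₁ C₂ : Scheme.{u}} (a : C₁ ⟶ C) (b : C₂ ⟶ C)
    [IsOpenImmersion a] [IsOpenImmersion b]
    (hcov : ∀ c : C, (∃ y : C₁, a.base y = c) ∨ ∃ y : C₂, b.base y = c)
    (hn₁ : Pi1.IsNormalScheme C₁) (hn₂ : Pi1.IsNormalScheme C₂)
    (hc₁ : ∀ x : C₁, IsClosed ({x} : Set C₁) → ringKrullDim (C₁.presheaf.stalk x) = 1)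
    (hc₂ : ∀ x : C₂, IsClosed ({x} : Set C₂) → ringKrullDim (C₂.presheaf.stalk x) = 1) :
    Pi1.IsNormalScheme C ∧
      ∀ x : C, IsClosed ({x} : Set C) → ringKrullDim (C.presheaf.stalk x) = 1 := by
  have key : ∀ {D : Scheme.{u}} (d : D ⟶ C) [IsOpenImmersion d] (hn : Pi1.IsNormalScheme D)
      (hc : ∀ x : D, IsClosed ({x} : Set D) → ringKrullDim (D.presheaf.stalk x) = 1) (y : D),
      (IsDomain (C.presheaf.stalk (d.base y)) ∧ IsIntegrallyClosed (C.presheaf.stalk (d.base y))) ∧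
      (IsClosed ({d.base y} : Set C) → ringKrullDim (C.presheaf.stalk (d.base y)) = 1) := by
    intro D d _ hn hc y
    refine ⟨isDomain_isIntegrallyClosed_of_ringEquiv (stalkEquiv d y).symm (hn y), fun hcl => ?_⟩
    have h1 : IsClosed ({y} : Set D) := by
      have h2 : ({y} : Set D) = d.base ⁻¹' {d.base y} := by
        ext z
        simp only [Set.mem_singleton_iff, Set.mem_preimage]
        exact ⟨fun h => h ▸ rfl, fun h => d.isOpenEmbedding.injective h⟩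
      rw [h2]
      exact hcl.preimage d.continuous
    rw [ringKrullDim_eq_of_ringEquiv (stalkEquiv d y)]
    exact hc y h1
  constructor
  · intro c
    rcases hcov c with ⟨y, rfl⟩ | ⟨y, rfl⟩
    · exact (key a hn₁ hc₁ y).1
    · exact (key b hn₂ hc₂ y).1
  · intro c hcl
    rcases hcov c with ⟨y, rfl⟩ | ⟨y, rfl⟩
    · exact (key a hn₁ hc₁ y).2 hcl
    · exact (key b hn₂ hc₂ y).2 hcl

theorem hasCompletion_of_isCompl {X₁ X₂ W S : Scheme.{u}} (i₁ : X₁ ⟶ W) (i₂ : X₂ ⟶ W)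
    [IsOpenImmersion i₁] [IsOpenImmersion i₂] (hc : IsCompl i₁.opensRange i₂.opensRange)
    (g : W ⟶ S) (h₁ : HasCompletion (i₁ ≫ g)) (h₂ : HasCompletion (i₂ ≫ g)) :
    HasCompletion g := by
  obtain ⟨H⟩ := nonempty_isColimit_binaryCofanMk_of_isCompl i₁ i₂ hc
  let e : X₁ ⨿ X₂ ≅ W := (colimit.isColimit (pair X₁ X₂)).coconePointUniqueUpToIso H
  have he : e.hom = coprod.desc i₁ i₂ := by
    apply coprod.hom_ext
    · rw [coprod.inl_desc]
      exact (colimit.isColimit (pair X₁ X₂)).comp_coconePointUniqueUpToIso_hom H ⟨WalkingPair.left⟩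
    · rw [coprod.inr_desc]
      exact (colimit.isColimit (pair X₁ X₂)).comp_coconePointUniqueUpToIso_hom H ⟨WalkingPair.right⟩
  obtain ⟨C₁, s₁, j₁, hj₁, hd₁, hs₁, hp₁, hn₁, hcv₁⟩ := h₁
  obtain ⟨C₂, s₂, j₂, hj₂, hd₂, hs₂, hp₂, hn₂, hcv₂⟩ := h₂
  have hJ : HasCompletion (coprod.desc (i₁ ≫ g) (i₂ ≫ g)) := by
    obtain ⟨hN, hC⟩ := normal_curve_of_cover (coprod.inl : C₁ ⟶ C₁ ⨿ C₂) (coprod.inr : C₂ ⟶ C₁ ⨿ C₂)
      (coprod_cases C₁ C₂) hn₁ hn₂ hcv₁ hcv₂
    refine ⟨C₁ ⨿ C₂, coprod.desc s₁ s₂, coprod.map j₁ j₂, inferInstance, ?_, ?_,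
      isProper_coprodDesc s₁ s₂, hN, hC⟩
    · intro c
      have key : ∀ {D D' : Scheme.{u}} (d : D ⟶ C₁ ⨿ C₂) (d' : D' ⟶ X₁ ⨿ X₂) (jd : D' ⟶ D)
          (hjd : Dense (Set.range jd.base)) (hcomm : jd ≫ d = d' ≫ coprod.map j₁ j₂) (y : D),
          d.base y ∈ closure (Set.range (coprod.map j₁ j₂).base) := by
        intro D D' d d' jd hjd hcomm y
        have h1 : d.base y ∈ d.base '' closure (Set.range jd.base) :=
          ⟨y, hjd y, rfl⟩
        have h2 := image_closure_subset_closure_image d.continuous h1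
        refine closure_mono ?_ h2
        rintro _ ⟨_, ⟨z, rfl⟩, rfl⟩
        refine ⟨d'.base z, ?_⟩
        have := congrArg (fun f => f.base z) hcomm
        simpa using this.symm
      rcases coprod_cases C₁ C₂ c with ⟨y, rfl⟩ | ⟨y, rfl⟩
      · exact key coprod.inl coprod.inl j₁ hd₁ (by simp) y
      · exact key coprod.inr coprod.inr j₂ hd₂ (by simp) y
    · apply coprod.hom_ext <;> simp [hs₁, hs₂]
  have h3 : g = e.inv ≫ coprod.desc (i₁ ≫ g) (i₂ ≫ g) := by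
    rw [Iso.eq_inv_comp, he]
    apply coprod.hom_ext <;> simp
  rw [h3]
  exact hasCompletion_of_iso e.symm _ hJ

/-- Disjoint unions of opens with completions have completions. -/
theorem hasCompletion_sup {X S : Scheme.{u}} (f : X ⟶ S) (U₁ U₂ : X.Opens) (hd : Disjoint U₁ U₂)
    (h₁ : HasCompletion (U₁.ι ≫ f)) (h₂ : HasCompletion (U₂.ι ≫ f)) :
    HasCompletion ((U₁ ⊔ U₂).ι ≫ f) := by
  let i₁ : U₁.toScheme ⟶ (U₁ ⊔ U₂).toScheme := X.homOfLE le_sup_left
  let i₂ : U₂.toScheme ⟶ (U₁ ⊔ U₂).toScheme := X.homOfLE le_sup_right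
  have hi₁ : i₁ ≫ (U₁ ⊔ U₂).ι = U₁.ι := X.homOfLE_ι _
  have hi₂ : i₂ ≫ (U₁ ⊔ U₂).ι = U₂.ι := X.homOfLE_ι _
  have h₁' : HasCompletion (i₁ ≫ (U₁ ⊔ U₂).ι ≫ f) := by rw [reassoc_of% hi₁]; exact h₁
  have h₂' : HasCompletion (i₂ ≫ (U₁ ⊔ U₂).ι ≫ f) := by rw [reassoc_of% hi₂]; exact h₂
  refine hasCompletion_of_isCompl i₁ i₂ ?_ _ h₁' h₂'
  have hr₁ : i₁.opensRange = (U₁ ⊔ U₂).ι ⁻¹ᵁ U₁ := X.opensRange_homOfLE _
  have hr₂ : i₂.opensRange = (U₁ ⊔ U₂).ι ⁻¹ᵁ U₂ := X.opensRange_homOfLE _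
  rw [hr₁, hr₂]
  constructor
  · rw [disjoint_iff, ← Scheme.Hom.preimage_inf, disjoint_iff.mp hd]
    rfl
  · rw [codisjoint_iff, ← Scheme.Hom.preimage_sup]
    simp

end Groth.Agent.Lib.Helper78.Completion
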