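import Mathlib

/-!
# The standard affine chart of the projective line, algebraically

For a field `k`, `S = k[T₀, T₁]` graded by degree and `A₀ = (S_{T₀})₀`, and an element `t` of a
`k`-algebra `K`, we construct the ring map `A₀ → K`, `T₁/T₀ ↦ t`, and show that it is injective when
`t` is transcendental.
-/

set_option autoImplicit false

universe u

open MvPolynomial HomogeneousLocalization

namespace Groth.Agent.Lib.Helper78.P1Alg

variable (k : Type u) [Field k]

/-- The grading of `k[T₀, T₁]` by total degree. -/
noncomputable abbrev gr : ℕ → Submodule k (MvPolynomial (Fin 2) k) :=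
  MvPolynomial.homogeneousSubmodule (Fin 2) k

noncomputable instance : GradedAlgebra (gr k) := MvPolynomial.gradedAlgebra

/-- `T₀`. -/
noncomputable abbrev T0 : MvPolynomial (Fin 2) k := MvPolynomial.X 0

theorem T0_mem : T0 k ∈ gr k 1 :=
  (MvPolynomial.mem_homogeneousSubmodule 1 _).mpr (MvPolynomial.isHomogeneous_X k 0)

variable {k}

/-- A homogeneous polynomial in two variables vanishing at `(1, T)` is zero. -/
theorem eq_zero_of_aeval_one_X {n : ℕ} {x : MvPolynomial (Fin 2) k} (hx : x.IsHomogeneous n)
    (h : MvPolynomial.aeval (![1, Polynomial.X] : Fin 2 → Polynomial k) x = 0) : x = 0 := by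
  ext m
  simp only [MvPolynomial.coeff_zero]
  by_contra hm
  have hdeg : ∀ d ∈ x.support, d 0 + d 1 = n := by
    intro d hd
    have h1 := hx (MvPolynomial.mem_support_iff.mp hd)
    rw [Finsupp.weight_apply, Finsupp.sum_fintype _ _ (by simp), Fin.sum_univ_two] at h1
    simpa using h1
  have hm' : m ∈ x.support := MvPolynomial.mem_support_iff.mpr hm
  have h2 := congrArg (fun p => Polynomial.coeff p (m 1)) h
  simp only [Polynomial.coeff_zero] at h2
  rw [MvPolynomial.aeval_def, MvPolynomial.eval₂_eq'] at h2
  simp only [Fin.prod_univ_two, Matrix.cons_val_zero, Matrix.cons_val_one, one_pow, one_mul,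
    Polynomial.algebraMap_eq, Polynomial.finsetSum_coeff, Polynomial.coeff_C_mul,
    Polynomial.coeff_X_pow] at h2
  rw [Finset.sum_eq_single m] at h2
  · simp at h2
    exact hm h2
  · intro d hd hdm
    have : ¬ (m 1 = d 1) := by
      intro h3
      apply hdm
      have h4 := hdeg d hd
      have h5 := hdeg m hm'
      ext i
      fin_cases i
      · simp only [Fin.zero_eta]; omega
      · simpa using h3.symm
    simp [this]
  · intro h3
    exact absurd hm' h3

variable (k)
variable (K : Type u) [Field K] [Algebra k K] (t : K)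

/-- The ring map `k[T₀, T₁] → K`, `T₀ ↦ 1`, `T₁ ↦ t`. -/
noncomputable def ev : MvPolynomial (Fin 2) k →+* K :=
  (MvPolynomial.aeval (![1, t] : Fin 2 → K)).toRingHom

theorem ev_T0 : ev k K t (T0 k) = 1 := by
  simp [ev, T0]

/-- The ring map `(k[T₀,T₁]_{T₀})₀ → K` sending `T₁/T₀` to `t`. -/
noncomputable def chart : Away (gr k) (T0 k) →+* K :=
  (IsLocalization.Away.lift (S := Localization.Away (T0 k)) (T0 k) (g := ev k K t)
      (by rw [ev_T0]; exact isUnit_one)).comp
    (algebraMap (Away (gr k) (T0 k)) (Localization.Away (T0 k)))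

theorem chart_mk (n : ℕ) (x : MvPolynomial (Fin 2) k) (hx : x ∈ gr k (n • 1)) :
    chart k K t (Away.mk (gr k) (T0_mem k) n x hx) = ev k K t x := by
  unfold chart
  rw [RingHom.comp_apply]
  have hmem : T0 k ^ n ∈ Submonoid.powers (T0 k) := ⟨n, rfl⟩
  have h1 : algebraMap (Away (gr k) (T0 k)) (Localization.Away (T0 k))
      (Away.mk (gr k) (T0_mem k) n x hx) =
        Localization.mk x (⟨T0 k ^ n, hmem⟩ : Submonoid.powers (T0 k)) := rfl
  rw [h1]
  have h2 : Localization.mk x (⟨T0 k ^ n, hmem⟩ : Submonoid.powers (T0 k)) *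
      algebraMap (MvPolynomial (Fin 2) k) (Localization.Away (T0 k)) (T0 k ^ n) =
      algebraMap (MvPolynomial (Fin 2) k) (Localization.Away (T0 k)) x := by
    rw [Localization.mk_eq_mk'_apply]
    exact IsLocalization.mk'_spec _ _ _
  have h3 := congrArg (IsLocalization.Away.lift (S := Localization.Away (T0 k)) (T0 k)
    (g := ev k K t) (by rw [ev_T0]; exact isUnit_one)) h2
  rw [map_mul, IsLocalization.Away.lift_eq, IsLocalization.Away.lift_eq, map_pow] at h3
  have h4 : (ev k K t) (T0 k) ^ n = 1 := by rw [ev_T0, one_pow]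
  rw [h4, mul_one] at h3
  exact h3

theorem chart_fromZero (c : k) :
    chart k K t (fromZeroRingHom (gr k) (Submonoid.powers (T0 k)) (algebraMap k (gr k 0) c)) =
      algebraMap k K c := by
  unfold chart
  rw [RingHom.comp_apply]
  have h1 : algebraMap (Away (gr k) (T0 k)) (Localization.Away (T0 k))
      (fromZeroRingHom (gr k) (Submonoid.powers (T0 k)) (algebraMap k (gr k 0) c)) =
      algebraMap (MvPolynomial (Fin 2) k) (Localization.Away (T0 k)) (MvPolynomial.C c) := by
    change Localization.mk _ _ = _
    rw [Localization.mk_eq_mk'_apply]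
    simp
    exact IsLocalization.mk'_one _ _
  rw [h1, IsLocalization.Away.lift_eq]
  simp [ev]

/-- The element `T₁/T₀` of the chart ring. -/
noncomputable def tt : Away (gr k) (T0 k) :=
  Away.mk (gr k) (T0_mem k) 1 (MvPolynomial.X 1)
    ((MvPolynomial.mem_homogeneousSubmodule _ _).mpr (by simpa using MvPolynomial.isHomogeneous_X k (1 : Fin 2)))

theorem chart_tt : chart k K t (tt k) = t := by
  unfold tt
  rw [chart_mk]
  simp [ev]

variable {K t}

theorem chart_injective (ht : Transcendental k t) : Function.Injective (chart k K t) := by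
  rw [injective_iff_map_eq_zero]
  intro a ha
  obtain ⟨n, x, hx, rfl⟩ := Away.mk_surjective (gr k) (T0_mem k) a
  rw [chart_mk] at ha
  have hx' : x.IsHomogeneous n := by
    have := (MvPolynomial.mem_homogeneousSubmodule _ _).mp hx
    simpa using this
  have h1 : ev k K t x = Polynomial.aeval t
      (MvPolynomial.aeval (![1, Polynomial.X] : Fin 2 → Polynomial k) x) := by
    unfold ev
    rw [AlgHom.toRingHom_eq_coe, RingHom.coe_coe, ← AlgHom.comp_apply]
    congr 1
    apply MvPolynomial.algHom_ext
    intro i
    fin_cases i <;> simp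
  rw [h1] at ha
  have h2 := (transcendental_iff_injective.mp ht) (ha.trans (map_zero _).symm)
  have h3 := eq_zero_of_aeval_one_X hx' h2
  subst h3
  ext
  simp [Away.val_mk, Localization.mk_zero]

end Groth.Agent.Lib.Helper78.P1Alg
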