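import Mathlib
import Groth.Agent.Lib.Helper78.P1Alg
import Groth.Agent.Lib.Helper42.ProjIntegral
import Groth.Prelude.Def_Curv2

/-!
# The projective line over a field as a proper integral scheme, and its `K`-points
-/

set_option autoImplicit false

universe u

open CategoryTheory CategoryTheory.Limits AlgebraicGeometry HomogeneousLocalization
open scoped HomogeneousIdeal

namespace Groth.Agent.Lib.Helper78.P1Curve

open P1Alg

variable (k : Type u) [Field k]

/-- The projective line over `k`. -/
noncomputable abbrev P : Scheme.{u} := Proj (gr k)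

/-- The structure morphism. -/
noncomputable def toSpec : P k ⟶ Spec (CommRingCat.of k) :=
  Proj.toSpecZero (gr k) ≫ Spec.map (CommRingCat.ofHom (algebraMap k (gr k 0)))

theorem irrelevant_ne_bot : ((gr k)₊).toIdeal ≠ ⊥ := by
  intro h
  have h1 : T0 k ∈ ((gr k)₊).toIdeal :=
    HomogeneousIdeal.mem_irrelevant_of_mem (gr k) one_pos (T0_mem k)
  rw [h] at h1
  exact MvPolynomial.X_ne_zero (0 : Fin 2) ((Submodule.mem_bot _).mp h1)

instance : IsIntegral (P k) := Groth.Agent.Lib.Helper42.proj_isIntegral (gr k) (irrelevant_ne_bot k)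

theorem algebraMap_zero_surjective : Function.Surjective (algebraMap k (gr k 0)) := by
  rintro ⟨p, hp⟩
  have hp' : p.IsHomogeneous 0 := (MvPolynomial.mem_homogeneousSubmodule _ _).mp hp
  have h1 : p.totalDegree = 0 := by
    by_cases h0 : p = 0
    · simp [h0]
    · exact hp'.totalDegree h0
  obtain h2 := MvPolynomial.totalDegree_eq_zero_iff_eq_C.mp h1
  refine ⟨MvPolynomial.coeff 0 p, ?_⟩
  apply Subtype.ext
  exact h2.symm

instance : Algebra.FiniteType (gr k 0) (MvPolynomial (Fin 2) k) := by
  have : Algebra.FiniteType k (MvPolynomial (Fin 2) k) := inferInstance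
  have : IsScalarTower k (gr k 0) (MvPolynomial (Fin 2) k) :=
    IsScalarTower.of_algebraMap_eq (R := k) (S := gr k 0) (A := MvPolynomial (Fin 2) k)
      (fun c => rfl)
  exact Algebra.FiniteType.of_restrictScalars_finiteType k (gr k 0) (MvPolynomial (Fin 2) k)

instance : IsProper (toSpec k) := by
  unfold toSpec
  have : IsClosedImmersion (Spec.map (CommRingCat.ofHom (algebraMap k (gr k 0)))) :=
    IsClosedImmersion.spec_of_surjective _ (algebraMap_zero_surjective k)
  infer_instance

/-- The standard chart `T₀ ≠ 0`. -/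
noncomputable def j : Spec (CommRingCat.of (Away (gr k) (T0 k))) ⟶ P k :=
  Proj.awayι (gr k) (T0 k) (T0_mem k) one_pos

instance : IsOpenImmersion (j k) := by unfold j; infer_instance

theorem j_toSpec : j k ≫ toSpec k = Spec.map (CommRingCat.ofHom
    ((fromZeroRingHom (gr k) (Submonoid.powers (T0 k))).comp (algebraMap k (gr k 0)))) := by
  unfold j toSpec
  rw [Proj.awayι_toSpecZero_assoc, ← Spec.map_comp]
  rfl

instance : IsDomain (Away (gr k) (T0 k)) :=
  Groth.Agent.Lib.Helper42.away_isDomain (gr k) (MvPolynomial.X_ne_zero (0 : Fin 2))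

variable (K : Type u) [Field K] [Algebra k K] (t : K)

/-- The `K`-point `[1 : t]` of the projective line. -/
noncomputable def pt : Spec (CommRingCat.of K) ⟶ P k :=
  Spec.map (CommRingCat.ofHom (chart k K t)) ≫ j k

theorem pt_toSpec : pt k K t ≫ toSpec k = Spec.map (CommRingCat.ofHom (algebraMap k K)) := by
  unfold pt
  rw [Category.assoc, j_toSpec, ← Spec.map_comp]
  congr 1
  ext c
  exact chart_fromZero k K t c

variable {K t}

theorem pt_closedPoint (ht : Transcendental k t) :
    pt k K t (IsLocalRing.closedPoint K) = genericPoint (P k) := by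
  unfold pt
  change (j k) ((Spec.map (CommRingCat.ofHom (chart k K t))) (IsLocalRing.closedPoint K)) = _
  have h1 : Spec.map (CommRingCat.ofHom (chart k K t)) (IsLocalRing.closedPoint K) =
      genericPoint (Spec (CommRingCat.of (Away (gr k) (T0 k)))) := by
    rw [genericPoint_eq_bot_of_affine]
    apply PrimeSpectrum.ext
    change Ideal.comap (chart k K t) (IsLocalRing.maximalIdeal K) = ⊥
    rw [IsLocalRing.maximalIdeal_eq_bot, Ideal.comap_bot_of_injective _ (chart_injective k ht)]
  rw [h1]
  exact genericPoint_eq_of_isOpenImmersion (j k)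

section general

variable {k} {K : Type u} [Field K] [Algebra k K]

theorem stalkClosedPointTo_comp_aux (X : Scheme.{u}) [X.Over (Spec (CommRingCat.of k))]
    (f : Spec (CommRingCat.of K) ⟶ X)
    (hf : f ≫ (X ↘ Spec (CommRingCat.of k)) = Spec.map (CommRingCat.ofHom (algebraMap k K))) :
    (Scheme.ΓSpecIso (CommRingCat.of k)).inv ≫ (X ↘ Spec (CommRingCat.of k)).appTop ≫
      X.presheaf.germ ⊤ (f (IsLocalRing.closedPoint K)) trivial ≫ Scheme.stalkClosedPointTo f =
      CommRingCat.ofHom (algebraMap k K) := by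
  rw [Scheme.germ_stalkClosedPointTo f ⊤ trivial]
  have h2 : (X ↘ Spec (CommRingCat.of k)).appTop ≫ f.appTop =
      (Spec.map (CommRingCat.ofHom (algebraMap k K))).appTop := by
    rw [← hf, Scheme.Hom.comp_appTop]
  have h3 := Scheme.ΓSpecIso_naturality (CommRingCat.ofHom (algebraMap k K))
  have h4 : f.app ⊤ ≫ ((Spec (CommRingCat.of K)).presheaf.mapIso (eqToIso
      (Scheme.preimage_eq_top_of_closedPoint_mem f (U := ⊤) trivial).symm).op ≪≫
        Scheme.ΓSpecIso (CommRingCat.of K)).hom =
      f.appTop ≫ (Scheme.ΓSpecIso (CommRingCat.of K)).hom := by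
    simp only [Scheme.Hom.appTop, Iso.trans_hom, Functor.mapIso_hom, Iso.op_hom, eqToIso.hom]
    congr 1
  rw [h4, reassoc_of% h2, h3, Iso.inv_hom_id_assoc]

/-- `stalkClosedPointTo` of a `K`-point over `k` is compatible with the maps from `k`. -/
theorem stalkClosedPointTo_stalkMap (X : Scheme.{u}) [X.Over (Spec (CommRingCat.of k))]
    (f : Spec (CommRingCat.of K) ⟶ X)
    (hf : f ≫ (X ↘ Spec (CommRingCat.of k)) = Spec.map (CommRingCat.ofHom (algebraMap k K)))
    (c : k) :
    (Scheme.stalkClosedPointTo f).hom (Curv2.stalkMap k X (f (IsLocalRing.closedPoint K)) c) =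
      algebraMap k K c :=
  congr($(stalkClosedPointTo_comp_aux X f hf) c)

/-- Transporting `stalkClosedPointTo` to a point known to be the image of the closed point. -/
theorem exists_ringHom_of_closedPoint_eq (X : Scheme.{u}) [X.Over (Spec (CommRingCat.of k))]
    (f : Spec (CommRingCat.of K) ⟶ X)
    (hf : f ≫ (X ↘ Spec (CommRingCat.of k)) = Spec.map (CommRingCat.ofHom (algebraMap k K)))
    (y : X) (hy : f (IsLocalRing.closedPoint K) = y) :
    ∃ φ : X.presheaf.stalk y →+* K,
      Spec.map (CommRingCat.ofHom φ) ≫ X.fromSpecStalk y = f ∧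
      (∀ c : k, φ (Curv2.stalkMap k X y c) = algebraMap k K c) ∧
      Set.range φ = Set.range (Scheme.stalkClosedPointTo f).hom := by
  subst hy
  exact ⟨(Scheme.stalkClosedPointTo f).hom, Scheme.Spec_stalkClosedPointTo_fromSpecStalk f,
    stalkClosedPointTo_stalkMap X f hf, rfl⟩

end general

section ptRange

variable (K : Type u) [Field K] [Algebra k K] (t : K)

theorem mem_range_stalkClosedPointTo_pt :
    t ∈ Set.range (Scheme.stalkClosedPointTo (pt k K t)).hom := by
  have h1 : Scheme.stalkClosedPointTo (pt k K t) = (j k).stalkMap _ ≫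
      Scheme.stalkClosedPointTo (Spec.map (CommRingCat.ofHom (chart k K t))) :=
    Scheme.stalkClosedPointTo_comp _ (j k)
  have h2 := Scheme.germ_stalkClosedPointTo_Spec (CommRingCat.ofHom (chart k K t))
  have h3 := congr($h2 ((Scheme.ΓSpecIso (CommRingCat.of (Away (gr k) (T0 k)))).inv (tt k)))
  have h4 : (Scheme.ΓSpecIso (CommRingCat.of (Away (gr k) (T0 k)))).hom
      ((Scheme.ΓSpecIso (CommRingCat.of (Away (gr k) (T0 k)))).inv (tt k)) = tt k := by
    rw [← CommRingCat.comp_apply, Iso.inv_hom_id]; rfl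
  rw [CommRingCat.comp_apply, CommRingCat.comp_apply, h4] at h3
  have h5 : (CommRingCat.ofHom (chart k K t)) (tt k) = t := chart_tt k K t
  rw [h5] at h3
  obtain ⟨w, hw⟩ := (ConcreteCategory.bijective_of_isIso ((j k).stalkMap
    ((Spec.map (CommRingCat.ofHom (chart k K t))) (IsLocalRing.closedPoint K)))).2
      (((Spec (CommRingCat.of (Away (gr k) (T0 k)))).presheaf.germ ⊤ _ trivial)
        ((Scheme.ΓSpecIso (CommRingCat.of (Away (gr k) (T0 k)))).inv (tt k)))
  refine ⟨w, ?_⟩
  rw [h1]
  exact (congrArg (Scheme.stalkClosedPointTo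
    (Spec.map (CommRingCat.ofHom (chart k K t)))).hom hw).trans h3

end ptRange

end Groth.Agent.Lib.Helper78.P1Curve
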