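import Mathlib

/-!
# Field-theoretic lemmas for function fields of curves
-/

set_option autoImplicit false

universe u

namespace Groth.Agent.Lib.Helper78.P1Field

open Cardinal

variable {k : Type u} {F : Type u} {K : Type u} [Field k] [Field F] [Field K]
  [Algebra k F] [Algebra F K] [Algebra k K] [IsScalarTower k F K]

/-- An intermediate extension containing a transcendental element of a finitely generated
extension of transcendence degree one has finite index. -/
theorem finite_of_tower (hfg : (⊤ : IntermediateField k K).FG) (htr : Algebra.trdeg k K = 1)
    {t : K} (ht : Transcendental k t) (hz : t ∈ Set.range (algebraMap F K)) :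
    Module.Finite F K := by
  have hind : AlgebraicIndependent k (fun _ : PUnit.{u + 1} => t) :=
    algebraicIndependent_unique_type_iff.mpr ht
  have hv : IsTranscendenceBasis k (fun _ : PUnit.{u + 1} => t) :=
    hind.isTranscendenceBasis_of_trdeg_le_of_finite (by rw [htr]; simp)
  have halg : Algebra.IsAlgebraic F K := by
    rw [hv.isAlgebraic_iff (S := F)]
    intro _
    obtain ⟨z, rfl⟩ := hz
    exact isAlgebraic_algebraMap z
  have hess : Algebra.EssFiniteType k K := IntermediateField.fg_top_iff.mp hfg
  have : Algebra.EssFiniteType F K := Algebra.EssFiniteType.of_comp k F K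
  exact Algebra.finite_of_essFiniteType_of_isAlgebraic

omit [Algebra F K] [IsScalarTower k F K] in
/-- A field mapping injectively over `k` into a field of transcendence degree one and hitting a
transcendental element has transcendence degree one. -/
theorem trdeg_eq_one (htr : Algebra.trdeg k K = 1) (θ : F →ₐ[k] K)
    {t : K} (ht : Transcendental k t) (hz : t ∈ Set.range θ) : Algebra.trdeg k F = 1 := by
  apply le_antisymm
  · rw [← htr]
    exact trdeg_le_of_injective θ θ.injective
  · rw [Cardinal.one_le_iff_ne_zero, trdeg_ne_zero_iff]
    obtain ⟨z, rfl⟩ := hz
    refine ⟨⟨z, ?_⟩⟩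
    intro hz'
    exact ht (hz'.algHom θ)

end Groth.Agent.Lib.Helper78.P1Field
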