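import Mathlib
import Groth.Agent.S2345
import Groth.Agent.S4445
import Groth.Agent.S2415
import Groth.Agent.S4443
import Groth.Agent.S4442
import Groth.Agent.Lib.Helper78.Completion

/-!
# Normal proper completion of an integral normal curve
-/

set_option autoImplicit false
universe u
open CategoryTheory CategoryTheory.Limits AlgebraicGeometry

namespace Groth.Agent.Lib.Helper78.Completion

section FunctionField

variable (k : Type u) [Field k] (W : Scheme.{u}) [W.Over (Spec (CommRingCat.of k))]
  [LocallyOfFiniteType (W ↘ Spec (CommRingCat.of k))] [IsIntegral W]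

/-- The function field of an integral scheme locally of finite type over a field is essentially of
finite type. -/
theorem essFiniteType_stalkMap_genericPoint :
    (Curv2.stalkMap k W (genericPoint W)).EssFiniteType := by
  set g := W ↘ Spec (CommRingCat.of k) with hg
  obtain ⟨U, hU, hηU, -⟩ := exists_isAffineOpen_mem_and_subset (x := genericPoint W)
    (U := (⊤ : W.Opens)) trivial
  have : Nonempty U := ⟨⟨genericPoint W, hηU⟩⟩
  have e : U ≤ g ⁻¹ᵁ ⊤ := le_top
  have h1 : (g.appLE ⊤ U e).hom.FiniteType := g.finiteType_appLE (isAffineOpen_top _) hU e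
  have h2 : (Scheme.ΓSpecIso (CommRingCat.of k)).inv.hom.FiniteType := by
    apply RingHom.FiniteType.of_surjective
    exact (ConcreteCategory.bijective_of_isIso (Scheme.ΓSpecIso (CommRingCat.of k)).inv).2
  have h3 : (W.presheaf.germ U (genericPoint W) hηU).hom.EssFiniteType := by
    have := functionField_isFractionRing_of_isAffineOpen W U hU
    rw [RingHom.EssFiniteType]
    exact Algebra.EssFiniteType.of_isLocalization (R := Γ(W, U)) W.functionField
      (nonZeroDivisors Γ(W, U))
  have h4 : Curv2.stalkMap k W (genericPoint W) =
      (W.presheaf.germ U (genericPoint W) hηU).hom.comp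
        ((g.appLE ⊤ U e).hom.comp (Scheme.ΓSpecIso (CommRingCat.of k)).inv.hom) := by
    rw [Curv2.stalkMap, Coh.toGlobal]
    have : W.presheaf.germ ⊤ (genericPoint W) trivial =
        W.presheaf.map (homOfLE (le_top : U ≤ ⊤)).op ≫ W.presheaf.germ U (genericPoint W) hηU :=
      (W.presheaf.germ_res (homOfLE le_top) _ hηU).symm
    rw [this, Scheme.Hom.appLE]
    rfl
  rw [h4]
  exact (h2.essFiniteType.comp h1.essFiniteType).comp h3

attribute [local instance] Curv2.stalkAlgebra

theorem fg_top_functionField : (⊤ : IntermediateField k W.functionField).FG :=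
  IntermediateField.fg_top_iff.mpr (essFiniteType_stalkMap_genericPoint k W)

theorem trdeg_functionField_eq_one [QuasiCompact (W ↘ Spec (CommRingCat.of k))]
    (hcurve : ∀ x : W, IsClosed ({x} : Set W) → ringKrullDim (W.presheaf.stalk x) = 1) :
    Algebra.trdeg k W.functionField = 1 := by
  have h1 := (Groth.Agent.S4442.result k W).mpr hcurve (genericPoint W) (by
    rw [irreducibleComponents_eq_singleton, Set.mem_singleton_iff]
    exact genericPoint_spec W)
  letI : Algebra k (W.residueField (genericPoint W)) := Curv2.resAlgebra k W (genericPoint W)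
  have hbij : Function.Bijective (W.residue (genericPoint W)).hom :=
    ⟨RingHom.injective _, Scheme.residue_surjective W (genericPoint W)⟩
  let eres : W.functionField ≃ₐ[k] W.residueField (genericPoint W) :=
    AlgEquiv.ofBijective
      { toRingHom := (W.residue (genericPoint W)).hom
        commutes' := fun c => rfl } hbij
  rw [eres.trdeg_eq]
  exact h1

end FunctionField

attribute [local instance] Curv2.stalkAlgebra

/-- An integral normal curve, separated and of finite type over a field, has a normal proper
completion. -/
theorem hasCompletion_integral (k : Type u) [Field k] (W : Scheme.{u})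
    (g : W ⟶ Spec (CommRingCat.of k)) [LocallyOfFiniteType g] [QuasiCompact g] [IsSeparated g]
    [IsIntegral W]
    (hcurve : ∀ x : W, IsClosed ({x} : Set W) → ringKrullDim (W.presheaf.stalk x) = 1)
    (hnorm : Pi1.IsNormalScheme W) : HasCompletion g := by
  letI overW : W.Over (Spec (CommRingCat.of k)) := ⟨g⟩
  haveI : LocallyOfFiniteType (W ↘ Spec (CommRingCat.of k)) := ‹LocallyOfFiniteType g›
  haveI : QuasiCompact (W ↘ Spec (CommRingCat.of k)) := ‹QuasiCompact g›
  haveI : IsSeparated (W ↘ Spec (CommRingCat.of k)) := ‹IsSeparated g›
  have hfg := fg_top_functionField k W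
  have htr := trdeg_functionField_eq_one k W hcurve
  obtain ⟨C, overC, intC, hproper, hnormC, hcurveC, e, he⟩ :=
    Groth.Agent.S2345.result k W.functionField hfg htr
  let φ : C.functionField →ₐ[k] W.functionField :=
    { toRingHom := e.toRingHom
      commutes' := he }
  obtain ⟨u, ⟨hu1, hu, hu2⟩, -⟩ := Groth.Agent.S4445.result k W C hcurve hnorm hcurveC φ
  change u ≫ (C ↘ Spec (CommRingCat.of k)) = g at hu1
  haveI : IsLocallyNoetherian C :=
    LocallyOfFiniteType.isLocallyNoetherian (C ↘ Spec (CommRingCat.of k))
  haveI : JacobsonSpace C := LocallyOfFiniteType.jacobsonSpace (C ↘ Spec (CommRingCat.of k))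
  haveI : IsSeparated (u ≫ (C ↘ Spec (CommRingCat.of k))) := by rw [hu1]; infer_instance
  haveI : LocallyOfFiniteType (u ≫ (C ↘ Spec (CommRingCat.of k))) := by rw [hu1]; infer_instance
  haveI : QuasiCompact (u ≫ (C ↘ Spec (CommRingCat.of k))) := by rw [hu1]; infer_instance
  haveI : IsSeparated u := IsSeparated.of_comp u (C ↘ Spec (CommRingCat.of k))
  haveI : LocallyOfFiniteType u := locallyOfFiniteType_of_comp u (C ↘ Spec (CommRingCat.of k))
  haveI : QuasiCompact u := QuasiCompact.of_comp u (C ↘ Spec (CommRingCat.of k))
  -- birationality
  have hbir : IsIso (u.stalkMap (genericPoint W)) := by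
    have h1 : IsIso (C.presheaf.stalkSpecializes (specializes_of_eq hu) ≫
        u.stalkMap (genericPoint W)) := by
      rw [ConcreteCategory.isIso_iff_bijective]
      change Function.Bijective
        (C.presheaf.stalkSpecializes (specializes_of_eq hu) ≫ u.stalkMap (genericPoint W)).hom
      rw [hu2]
      exact e.bijective
    have h2 : IsIso (C.presheaf.stalkSpecializes (specializes_of_eq hu)) :=
      ⟨C.presheaf.stalkSpecializes (specializes_of_eq hu.symm), by simp, by simp⟩
    exact IsIso.of_isIso_comp_left (C.presheaf.stalkSpecializes (specializes_of_eq hu)) _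
  obtain ⟨hW1, hW2⟩ := Groth.Agent.S4443.result k W hcurve
  -- finite fibres
  have hfin : ∀ y : C, (u.base ⁻¹' {y}).Finite := by
    intro y
    by_cases hy : y = genericPoint C
    · subst hy
      refine Set.Finite.subset (Set.finite_singleton (genericPoint W)) ?_
      intro x hx
      by_contra hne
      have hxcl : IsClosed ({x} : Set W) := by
        by_contra hcl
        exact hne (hW1 x hcl)
      have h1 : u.base x ∈ closedPoints C :=
        Scheme.Hom.closePoints_subset_preimage_closedPoints u hxcl
      rw [Set.mem_preimage, Set.mem_singleton_iff] at hx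
      rw [hx] at h1
      have h2 := hcurveC _ h1
      have h3 : ringKrullDim (C.presheaf.stalk (genericPoint C)) = 0 :=
        ringKrullDim_eq_zero_of_field C.functionField
      rw [h3] at h2
      exact zero_ne_one h2
    · let F : Set W := u.base ⁻¹' closure {y}
      have hFc : IsClosed F := isClosed_closure.preimage u.continuous
      have hFne : F ≠ Set.univ := by
        intro hF
        have h1 : genericPoint W ∈ F := hF ▸ Set.mem_univ _
        change u.base (genericPoint W) ∈ closure {y} at h1
        rw [hu] at h1
        have h2 : y ⤳ genericPoint C := specializes_iff_mem_closure.mpr h1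
        have h3 : genericPoint C ⤳ y := genericPoint_specializes y
        exact hy (h2.antisymm h3).eq
      refine Set.Finite.subset ((hW2 F hFc).mp hFne).1 ?_
      intro x hx
      rw [Set.mem_preimage, Set.mem_singleton_iff] at hx
      change u.base x ∈ closure {y}
      rw [hx]
      exact subset_closure rfl
  obtain ⟨hopen, -⟩ := Groth.Agent.S2415.result hnormC u hu hbir hfin
  refine ⟨C, C ↘ Spec (CommRingCat.of k), u, hopen, ?_, hu1, hproper, hnormC, hcurveC⟩
  exact (u.isOpenEmbedding.isOpen_range).dense (Set.range_nonempty _)

end Groth.Agent.Lib.Helper78.Completion
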