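import Mathlib

/-!
# A local homomorphism into a regular local ring which is injective on cotangent spaces (helper78)

Let `A → B` be a local homomorphism of Noetherian local rings, surjective on residue fields, with
`A` a domain and `B` regular, such that `m_A/m_A² → m_B/m_B²` is injective. Then `A → B` is
injective.
-/

set_option autoImplicit false
universe u

namespace Groth.Agent.Lib.Helper78

open IsLocalRing

/-- A finitely generated ideal with `spanFinrank = d` is generated by a family indexed by
`Fin d`. -/
theorem exists_fin_span_range_eq' {R : Type u} [CommRing R] (J : Ideal R) (hJ : J.FG) :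
    ∃ x : Fin J.spanFinrank → R, Ideal.span (Set.range x) = J := by
  classical
  obtain ⟨s, hscard, hs⟩ := Submodule.FG.exists_span_finset_card_eq_spanFinrank hJ
  let e : s ≃ Fin J.spanFinrank := s.equivFinOfCardEq hscard
  refine ⟨fun i => ((e.symm i : s) : R), ?_⟩
  have : Set.range (fun i => ((e.symm i : s) : R)) = (s : Set R) := by
    have h1 : (fun i => ((e.symm i : s) : R)) = Subtype.val ∘ e.symm := rfl
    rw [h1, EquivLike.range_comp]
    simp
  rw [this]
  exact hs

/-- Ring-level dimension inequality (copied from `Groth.Agent.S3447`): for a local homomorphism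
`φ : A → B` of Noetherian local rings, `dim B ≤ dim A + dim B / 𝔪_A B`. -/
theorem ringKrullDim_le_add_quotient' {A B : Type u} [CommRing A] [CommRing B] [IsLocalRing A]
    [IsLocalRing B] [IsNoetherianRing A] [IsNoetherianRing B] (φ : A →+* B) [IsLocalHom φ] :
    ringKrullDim B ≤ ringKrullDim A +
      ringKrullDim (B ⧸ Ideal.map φ (IsLocalRing.maximalIdeal A)) := by
  algebraize [φ]
  have hover : (IsLocalRing.maximalIdeal B).LiesOver (IsLocalRing.maximalIdeal A) := by
    constructor
    exact (IsLocalRing.maximalIdeal_comap φ).symm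
  have h := Ideal.height_le_height_add_of_liesOver (IsLocalRing.maximalIdeal A)
    (IsLocalRing.maximalIdeal B)
  have hI : Ideal.map φ (IsLocalRing.maximalIdeal A) ≠ ⊤ :=
    (IsLocalRing.map_maximalIdeal_lt_top φ).ne
  have hnt : Nontrivial (B ⧸ Ideal.map φ (IsLocalRing.maximalIdeal A)) :=
    Ideal.Quotient.nontrivial_iff.mpr hI
  have hloc : IsLocalRing (B ⧸ Ideal.map φ (IsLocalRing.maximalIdeal A)) :=
    IsLocalRing.of_surjective' (Ideal.Quotient.mk _) Ideal.Quotient.mk_surjective
  have hmax : ((IsLocalRing.maximalIdeal B).map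
      (Ideal.Quotient.mk (Ideal.map φ (IsLocalRing.maximalIdeal A)))).IsMaximal := by
    refine Ideal.IsMaximal.map_of_surjective_of_ker_le Ideal.Quotient.mk_surjective ?_
    rw [Ideal.mk_ker]
    exact IsLocalRing.le_maximalIdeal hI
  have heq : (IsLocalRing.maximalIdeal B).map
      (Ideal.Quotient.mk (Ideal.map φ (IsLocalRing.maximalIdeal A))) =
      IsLocalRing.maximalIdeal (B ⧸ Ideal.map φ (IsLocalRing.maximalIdeal A)) :=
    IsLocalRing.eq_maximalIdeal hmax
  change (IsLocalRing.maximalIdeal B).height ≤ (IsLocalRing.maximalIdeal A).height +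
    ((IsLocalRing.maximalIdeal B).map
      (Ideal.Quotient.mk (Ideal.map φ (IsLocalRing.maximalIdeal A)))).height at h
  rw [heq] at h
  rw [← IsLocalRing.maximalIdeal_height_eq_ringKrullDim (R := B),
    ← IsLocalRing.maximalIdeal_height_eq_ringKrullDim (R := A),
    ← IsLocalRing.maximalIdeal_height_eq_ringKrullDim
      (R := B ⧸ Ideal.map φ (IsLocalRing.maximalIdeal A)), ← WithBot.coe_add]
  exact WithBot.coe_le_coe.mpr h

/-- The Krull dimension of a Noetherian local ring is a natural number. -/
theorem exists_nat_ringKrullDim (R : Type u) [CommRing R] [IsLocalRing R] [IsNoetherianRing R] :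
    ∃ n : ℕ, ringKrullDim R = n := by
  have h1 := ringKrullDim_le_spanFinrank_maximalIdeal R
  have h0 : ringKrullDim R ≠ ⊥ := ringKrullDim_ne_bot
  obtain ⟨m, hm⟩ := WithBot.ne_bot_iff_exists.mp h0
  have hm' : m ≤ ((maximalIdeal R).spanFinrank : ℕ∞) := by
    rw [← hm] at h1
    exact_mod_cast h1
  obtain ⟨n, rfl⟩ := ENat.ne_top_iff_exists.mp (ne_top_of_le_ne_top (ENat.natCast_ne_top _) hm')
  exact ⟨n, hm.symm⟩

section key

variable {A B : Type u} [CommRing A] [CommRing B] [IsLocalRing A] [IsNoetherianRing A]
  [IsLocalRing B] [IsNoetherianRing B] [Algebra A B] [IsLocalHom (algebraMap A B)]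

omit [IsNoetherianRing A] [IsNoetherianRing B] in
lemma algebraMap_mem_maximalIdeal {a : A} (ha : a ∈ maximalIdeal A) :
    algebraMap A B a ∈ maximalIdeal B := by
  rw [mem_maximalIdeal, mem_nonunits_iff] at ha ⊢
  exact fun h => ha (isUnit_of_map_unit (algebraMap A B) a h)

/-- Images of minimal generators of `m_A` are linearly independent in the cotangent space of `B`. -/
theorem linearIndependent_cotangent
    (hres : ∀ s : B, ∃ r : A, s - algebraMap A B r ∈ maximalIdeal B)
    (hcot : ∀ a ∈ maximalIdeal A, algebraMap A B a ∈ maximalIdeal B ^ 2 → a ∈ maximalIdeal A ^ 2)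
    (x : Fin (maximalIdeal A).spanFinrank → A) (hx : Ideal.span (Set.range x) = maximalIdeal A)
    (hxm : ∀ i, x i ∈ maximalIdeal A) :
    LinearIndependent (ResidueField B) (fun i =>
      (maximalIdeal B).toCotangent ⟨algebraMap A B (x i), algebraMap_mem_maximalIdeal (hxm i)⟩) := by
  classical
  -- linear independence of the generators in the cotangent space of `A`
  have hA : LinearIndependent (ResidueField A) (fun i =>
      (maximalIdeal A).toCotangent ⟨x i, hxm i⟩) := by
    apply linearIndependent_of_top_le_span_of_card_eq_finrank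
    · rw [top_le_iff]
      have : Set.range (fun i => (maximalIdeal A).toCotangent ⟨x i, hxm i⟩) =
          (maximalIdeal A).toCotangent '' (Set.range fun i => (⟨x i, hxm i⟩ : maximalIdeal A)) := by
        rw [← Set.range_comp]; rfl
      rw [this, CotangentSpace.span_image_eq_top_iff]
      apply Submodule.map_injective_of_injective (Submodule.injective_subtype (maximalIdeal A))
      rw [Submodule.map_span, Submodule.map_top, Submodule.range_subtype, ← Set.range_comp]
      exact hx
    · rw [Fintype.card_fin]
      exact (spanFinrank_maximalIdeal_eq_finrank_cotangentSpace (R := A))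
  rw [Fintype.linearIndependent_iff]
  intro g hg i
  -- lift the coefficients
  choose s hs using fun i => IsLocalRing.residue_surjective (g i)
  choose r hr using fun i => hres (s i)
  have hgr : ∀ i, g i = residue B (algebraMap A B (r i)) := by
    intro i
    rw [← hs i, ← sub_eq_zero, ← map_sub]
    exact (residue_eq_zero_iff _).mpr (hr i)
  have hsum : ∑ i, g i • (maximalIdeal B).toCotangent
      ⟨algebraMap A B (x i), algebraMap_mem_maximalIdeal (hxm i)⟩ =
      (maximalIdeal B).toCotangent ⟨algebraMap A B (∑ i, r i * x i),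
        algebraMap_mem_maximalIdeal (Ideal.sum_mem _ fun i _ => Ideal.mul_mem_left _ _ (hxm i))⟩ := by
    have : (⟨algebraMap A B (∑ i, r i * x i),
        algebraMap_mem_maximalIdeal (Ideal.sum_mem _ fun i _ => Ideal.mul_mem_left _ _ (hxm i))⟩ :
        maximalIdeal B) = ∑ i, (algebraMap A B (r i)) •
          (⟨algebraMap A B (x i), algebraMap_mem_maximalIdeal (hxm i)⟩ : maximalIdeal B) := by
      ext
      simp [map_sum, map_mul, Algebra.smul_def]
    rw [this, map_sum]
    refine Finset.sum_congr rfl fun i _ => ?_
    rw [map_smul, hgr i]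
    rfl
  rw [hsum, Ideal.toCotangent_eq_zero] at hg
  have hmem : ∑ i, r i * x i ∈ maximalIdeal A ^ 2 :=
    hcot _ (Ideal.sum_mem _ fun i _ => Ideal.mul_mem_left _ _ (hxm i)) hg
  -- so the `r i` lie in the maximal ideal
  have hsumA : ∑ i, residue A (r i) • (maximalIdeal A).toCotangent ⟨x i, hxm i⟩ = 0 := by
    have : (⟨∑ i, r i * x i, Ideal.sum_mem _ fun i _ => Ideal.mul_mem_left _ _ (hxm i)⟩ :
        maximalIdeal A) = ∑ i, (r i) • (⟨x i, hxm i⟩ : maximalIdeal A) := by
      ext
      simp
    have h2 : (maximalIdeal A).toCotangent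
        ⟨∑ i, r i * x i, Ideal.sum_mem _ fun i _ => Ideal.mul_mem_left _ _ (hxm i)⟩ = 0 := by
      rw [Ideal.toCotangent_eq_zero]; exact hmem
    rw [this, map_sum] at h2
    rw [← h2]
    refine Finset.sum_congr rfl fun i _ => ?_
    rw [map_smul]
    rfl
  have hri := (Fintype.linearIndependent_iff.mp hA) _ hsumA i
  rw [hgr i]
  rw [residue_eq_zero_iff] at hri ⊢
  exact algebraMap_mem_maximalIdeal hri

/-- Under the cotangent injectivity hypothesis, the maximal ideal of `B` is generated by `m_A B`
together with `dim_κ(m_B/m_B²) - dim_κ(m_A/m_A²)` further elements. -/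
theorem exists_generators_sup
    (hres : ∀ s : B, ∃ r : A, s - algebraMap A B r ∈ maximalIdeal B)
    (hcot : ∀ a ∈ maximalIdeal A, algebraMap A B a ∈ maximalIdeal B ^ 2 → a ∈ maximalIdeal A ^ 2) :
    ∃ (n : ℕ) (c : Fin n → B), n + (maximalIdeal A).spanFinrank = (maximalIdeal B).spanFinrank ∧
      maximalIdeal B = (maximalIdeal A).map (algebraMap A B) ⊔ Ideal.span (Set.range c) := by
  classical
  obtain ⟨x, hx⟩ := exists_fin_span_range_eq' (maximalIdeal A) (maximalIdeal A).fg_of_isNoetherianRing
  have hxm : ∀ i, x i ∈ maximalIdeal A := fun i => hx ▸ Ideal.subset_span ⟨i, rfl⟩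
  set v : Fin (maximalIdeal A).spanFinrank → CotangentSpace B := fun i =>
    (maximalIdeal B).toCotangent ⟨algebraMap A B (x i), algebraMap_mem_maximalIdeal (hxm i)⟩ with hvdef
  have hv : LinearIndependent (ResidueField B) v := linearIndependent_cotangent hres hcot x hx hxm
  set W : Submodule (ResidueField B) (CotangentSpace B) := Submodule.span _ (Set.range v) with hW
  have hWrank : Module.finrank (ResidueField B) W = (maximalIdeal A).spanFinrank := by
    rw [hW, finrank_span_eq_card hv, Fintype.card_fin]
  set n := Module.finrank (ResidueField B) (CotangentSpace B ⧸ W) with hn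
  have hcount : n + (maximalIdeal A).spanFinrank = (maximalIdeal B).spanFinrank := by
    rw [spanFinrank_maximalIdeal_eq_finrank_cotangentSpace (R := B), ← hWrank, hn]
    exact Submodule.finrank_quotient_add_finrank W
  let b := Module.finBasis (ResidueField B) (CotangentSpace B ⧸ W)
  choose w hw using fun j => W.mkQ_surjective (b j)
  choose c' hc' using fun j => (maximalIdeal B).toCotangent_surjective (w j)
  refine ⟨n, fun j => (c' j : B), hcount, ?_⟩
  set S : Set (maximalIdeal B) :=
    Set.range (fun i => (⟨algebraMap A B (x i), algebraMap_mem_maximalIdeal (hxm i)⟩ :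
      maximalIdeal B)) ∪ Set.range c' with hS
  have hTtop : Submodule.span (ResidueField B) ((maximalIdeal B).toCotangent '' S) = ⊤ := by
    set T := Submodule.span (ResidueField B) ((maximalIdeal B).toCotangent '' S) with hT
    have hWT : W ≤ T := by
      rw [hW]
      apply Submodule.span_mono
      rintro _ ⟨i, rfl⟩
      exact ⟨_, Or.inl ⟨i, rfl⟩, rfl⟩
    have hmap : T.map W.mkQ = ⊤ := by
      rw [eq_top_iff, ← b.span_eq, Submodule.span_le]
      rintro _ ⟨j, rfl⟩
      refine ⟨w j, ?_, hw j⟩
      rw [← hc' j]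
      exact Submodule.subset_span ⟨_, Or.inr ⟨j, rfl⟩, rfl⟩
    rw [Submodule.map_mkQ_eq_top] at hmap
    rwa [sup_eq_right.mpr hWT] at hmap
  rw [CotangentSpace.span_image_eq_top_iff] at hTtop
  have h1 := congrArg (Submodule.map (Submodule.subtype (maximalIdeal B))) hTtop
  rw [Submodule.map_span, Submodule.map_top, Submodule.range_subtype, hS, Set.image_union,
    Submodule.span_union, ← Set.range_comp, ← Set.range_comp] at h1
  rw [← hx, Ideal.map_span, ← Set.range_comp]
  exact h1.symm

/-- Let `A → B` be a local homomorphism of Noetherian local rings, surjective on residue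
fields, with `A` a domain and `B` regular, such that `m_A/m_A² → m_B/m_B²` is injective. Then
`A → B` is injective. -/
theorem injective_of_cotangent_injective {A B : Type u} [CommRing A] [CommRing B] [IsLocalRing A]
    [IsNoetherianRing A] [IsDomain A] [IsRegularLocalRing B] [IsDomain B] [Algebra A B]
    [IsLocalHom (algebraMap A B)]
    (hres : ∀ s : B, ∃ r : A, s - algebraMap A B r ∈ maximalIdeal B)
    (hcot : ∀ a ∈ maximalIdeal A, algebraMap A B a ∈ maximalIdeal B ^ 2 → a ∈ maximalIdeal A ^ 2) :
    Function.Injective (algebraMap A B) := by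
  classical
  rw [injective_iff_map_eq_zero]
  intro a ha
  by_contra hane
  obtain ⟨n, c, hcount, hmB⟩ := exists_generators_sup hres hcot
  set J := (maximalIdeal A).map (algebraMap A B) with hJ
  have hJtop : J ≠ ⊤ := (IsLocalRing.map_maximalIdeal_lt_top (algebraMap A B)).ne
  have hnt : Nontrivial (B ⧸ J) := Ideal.Quotient.nontrivial_iff.mpr hJtop
  have hloc : IsLocalRing (B ⧸ J) :=
    IsLocalRing.of_surjective' (Ideal.Quotient.mk _) Ideal.Quotient.mk_surjective
  -- the closed fibre has dimension at most `n`
  have hB₀ : ringKrullDim (B ⧸ J) ≤ n := by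
    have hmax : maximalIdeal (B ⧸ J) = Ideal.span (Set.range (fun j => Ideal.Quotient.mk J (c j))) := by
      rw [← map_maximalIdeal_of_surjective (Ideal.Quotient.mk J) Ideal.Quotient.mk_surjective, hmB,
        Ideal.map_sup, Ideal.map_quotient_self, bot_sup_eq, Ideal.map_span, ← Set.range_comp]
      rfl
    refine (ringKrullDim_le_spanFinrank_maximalIdeal (B ⧸ J)).trans ?_
    rw [hmax]
    have h1 : (Ideal.span (Set.range fun j => Ideal.Quotient.mk J (c j))).spanFinrank ≤
        (Set.range fun j => Ideal.Quotient.mk J (c j)).ncard :=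
      Submodule.spanFinrank_span_le_ncard_of_finite (Set.finite_range _)
    have h2 : (Set.range fun j => Ideal.Quotient.mk J (c j)).ncard ≤ n := by
      rw [← Set.image_univ]
      refine (Set.ncard_image_le Set.finite_univ).trans ?_
      simp
    exact_mod_cast h1.trans h2
  -- the quotient by the kernel
  set p := RingHom.ker (algebraMap A B) with hp
  have hpprime : p.IsPrime := RingHom.ker_isPrime _
  have hnt' : Nontrivial (A ⧸ p) := Ideal.Quotient.nontrivial_iff.mpr hpprime.ne_top
  have hloc' : IsLocalRing (A ⧸ p) :=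
    IsLocalRing.of_surjective' (Ideal.Quotient.mk _) Ideal.Quotient.mk_surjective
  let φ' : A ⧸ p →+* B := RingHom.kerLift (algebraMap A B)
  have hφ' : φ'.comp (Ideal.Quotient.mk p) = algebraMap A B := by
    ext y; rfl
  have hlocal : IsLocalHom φ' := by
    constructor
    intro y hy
    obtain ⟨y, rfl⟩ := Ideal.Quotient.mk_surjective y
    have : IsUnit (algebraMap A B y) := hy
    exact (isUnit_of_map_unit (algebraMap A B) y this).map _
  have hdimle := ringKrullDim_le_add_quotient' φ'
  have hmapeq : Ideal.map φ' (maximalIdeal (A ⧸ p)) = J := by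
    rw [← map_maximalIdeal_of_surjective (Ideal.Quotient.mk p) Ideal.Quotient.mk_surjective,
      Ideal.map_map, hφ']
  rw [hmapeq] at hdimle
  -- dimension of the quotient drops
  have hdrop : ringKrullDim (A ⧸ p) + 1 ≤ ringKrullDim A := by
    have h1 : ringKrullDim (A ⧸ Ideal.span {a}) + 1 ≤ ringKrullDim A :=
      ringKrullDim_quotient_succ_le_of_nonZeroDivisor (mem_nonZeroDivisors_of_ne_zero hane)
    have h2 : ringKrullDim (A ⧸ p) ≤ ringKrullDim (A ⧸ Ideal.span {a}) := by
      apply ringKrullDim_le_of_surjective (Ideal.Quotient.factor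
        (show Ideal.span {a} ≤ p from (Ideal.span_singleton_le_iff_mem _).mpr ha))
      exact Ideal.Quotient.factor_surjective _
    exact (add_le_add_left h2 1).trans h1
  -- put everything together
  obtain ⟨a', ha'⟩ := exists_nat_ringKrullDim (A ⧸ p)
  obtain ⟨b₀, hb₀⟩ := exists_nat_ringKrullDim (B ⧸ J)
  obtain ⟨dA, hdA⟩ := exists_nat_ringKrullDim A
  have hdB : ringKrullDim B = ((maximalIdeal B).spanFinrank : ℕ) :=
    (IsRegularLocalRing.spanFinrank_maximalIdeal (R := B)).symm
  have hAe := ringKrullDim_le_spanFinrank_maximalIdeal A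
  rw [ha', hb₀, hdB] at hdimle
  rw [hb₀] at hB₀
  rw [ha', hdA] at hdrop
  rw [hdA] at hAe
  have e1 : (maximalIdeal B).spanFinrank ≤ a' + b₀ := by exact_mod_cast hdimle
  have e2 : b₀ ≤ n := by exact_mod_cast hB₀
  have e3 : a' + 1 ≤ dA := by exact_mod_cast hdrop
  have e4 : dA ≤ (maximalIdeal A).spanFinrank := by exact_mod_cast hAe
  omega

end key

end Groth.Agent.Lib.Helper78
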