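import Mathlib

/-!
# Cotangent injectivity for formally smooth local homomorphisms with trivial residue extension
(helper78)

If `A → B` is a formally smooth local homomorphism of local rings inducing a surjection on residue
fields, then `m_A / m_A² → m_B / m_B²` is injective.  The proof is the infinitesimal lifting
trick applied to the square-zero extension `A / m_A² → A / m_A`.
-/

set_option autoImplicit false
universe u

namespace Groth.Agent.Lib.Helper78

open IsLocalRing

/-- If `A → B` is a formally smooth local homomorphism of local rings which is surjective on residue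
fields, an element of `A` whose image lies in `m_B²` lies in `m_A²`. -/
theorem mem_sq_of_formallySmooth {A B : Type u} [CommRing A] [CommRing B] [IsLocalRing A]
    [IsLocalRing B] [Algebra A B] [IsLocalHom (algebraMap A B)] [Algebra.FormallySmooth A B]
    (hres : ∀ s : B, ∃ r : A, s - algebraMap A B r ∈ maximalIdeal B)
    (a : A) (hab : algebraMap A B a ∈ maximalIdeal B ^ 2) : a ∈ maximalIdeal A ^ 2 := by
  classical
  -- the residue field map is bijective
  have hbij : Function.Bijective (ResidueField.map (algebraMap A B)) := by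
    refine ⟨(ResidueField.map (algebraMap A B)).injective, ?_⟩
    intro y
    obtain ⟨s, rfl⟩ := IsLocalRing.residue_surjective y
    obtain ⟨r, hr⟩ := hres s
    refine ⟨residue A r, ?_⟩
    rw [ResidueField.map_residue]
    symm
    rw [← sub_eq_zero, ← map_sub]
    exact (residue_eq_zero_iff _).mpr hr
  let e : ResidueField A ≃+* ResidueField B := RingEquiv.ofBijective _ hbij
  -- the square-zero extension
  let C := A ⧸ (maximalIdeal A ^ 2)
  let I : Ideal C := (maximalIdeal A).map (Ideal.Quotient.mk (maximalIdeal A ^ 2))
  have hI : I ^ 2 = ⊥ := by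
    rw [← Ideal.map_pow, Ideal.map_quotient_self]
  -- the map `κ(A) → C ⧸ I`
  let θ : ResidueField A →+* C ⧸ I :=
    Ideal.Quotient.lift (maximalIdeal A)
      ((Ideal.Quotient.mk I).comp (Ideal.Quotient.mk (maximalIdeal A ^ 2))) (by
        intro x hx
        rw [RingHom.comp_apply, Ideal.Quotient.eq_zero_iff_mem]
        exact Ideal.mem_map_of_mem _ hx)
  let g₀ : B →+* C ⧸ I := θ.comp ((e.symm : ResidueField B →+* ResidueField A).comp (residue B))
  have hg₀ : ∀ x : A, g₀ (algebraMap A B x) = algebraMap A (C ⧸ I) x := by
    intro x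
    have h1 : e.symm (residue B (algebraMap A B x)) = residue A x := by
      rw [RingEquiv.symm_apply_eq]
      exact (ResidueField.map_residue _ _).symm
    change θ (e.symm (residue B (algebraMap A B x))) = _
    rw [h1]
    rfl
  let g : B →ₐ[A] C ⧸ I := { g₀ with commutes' := hg₀ }
  let ψ : B →ₐ[A] C := Algebra.FormallySmooth.lift I ⟨2, hI⟩ g
  have hψ : ∀ s : B, Ideal.Quotient.mk I (ψ s) = g s :=
    fun s => Algebra.FormallySmooth.mk_lift I ⟨2, hI⟩ g s
  -- ψ maps the maximal ideal into I
  have hmI : ∀ s ∈ maximalIdeal B, ψ s ∈ I := by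
    intro s hs
    rw [← Ideal.Quotient.eq_zero_iff_mem, hψ]
    change θ (e.symm (residue B s)) = 0
    rw [(residue_eq_zero_iff s).mpr hs, map_zero, map_zero]
  have hle : (maximalIdeal B).map ψ.toRingHom ≤ I := by
    rw [Ideal.map_le_iff_le_comap]
    intro s hs
    exact hmI s hs
  have hsq : (maximalIdeal B ^ 2).map ψ.toRingHom ≤ ⊥ := by
    rw [Ideal.map_pow, ← hI]
    exact Ideal.pow_right_mono hle 2
  have h0 : ψ (algebraMap A B a) = 0 := by
    have := hsq (Ideal.mem_map_of_mem ψ.toRingHom hab)
    simpa using this
  rw [ψ.commutes] at h0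
  exact Ideal.Quotient.eq_zero_iff_mem.mp h0

end Groth.Agent.Lib.Helper78
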