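import Mathlib
import Groth.Agent.Lib.Helper70.DVRRedB
import Groth.Agent.Lib.Helper12.GeomRedGeneralize
import Groth.Agent.S9840

/-!
helper78: scheme-level lemmas for S10669 (flat over a DVR with reduced special fibre).
-/

set_option autoImplicit false

namespace Groth.Agent.Lib.Helper78.DVRRedSp

universe u

open AlgebraicGeometry CategoryTheory Limits Opposite TopologicalSpace
open Groth.Agent.Lib.Helper70.DVRConnC Groth.Agent.Lib.Helper70.DVRConnA
open Groth.Agent.Lib.Helper70.DVRConnD Groth.Agent.Lib.Helper70.DVRRedB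

section
variable {R : Type u} [CommRing R] [IsDomain R] [IsDiscreteValuationRing R]
  {X : Scheme.{u}} (f : X ⟶ Spec (CommRingCat.of R))

/-- Variant of helper70's `isReduced_stalk`: the local ring at a point specializing to a point
of the special fibre is reduced. -/
theorem isReduced_stalk_of_specializes [IsLocallyNoetherian X] [Flat f]
    (hred : IsReduced (f.fiber (IsLocalRing.closedPoint R))) (x x' : X) (hxx' : x ⤳ x')
    (hfx' : f.base x' = IsLocalRing.closedPoint R) :
    _root_.IsReduced (X.presheaf.stalk x) := by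
  obtain ⟨ϖ, hϖ⟩ := IsDiscreteValuationRing.exists_irreducible R
  obtain ⟨_, ⟨V, hV : IsAffineOpen V, rfl⟩, hx'V, -⟩ :=
    X.isBasis_affineOpens.exists_subset_of_mem_open (Set.mem_univ x') isOpen_univ
  have hxV : x ∈ V := hxx'.mem_open V.2 hx'V
  have hgood : Good (res (pb f ⊤ ϖ) V) := by
    have : res (pb f ⊤ ϖ) V = pb f V ϖ := pb_res f le_top ϖ
    rw [this]
    exact good_pb f hred hV hϖ
  have hx : x ∈ Set.range (φ hV) := by rw [range_φ]; exact hxV
  have hx' : x' ∈ Set.range (φ hV) := by rw [range_φ]; exact hx'V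
  obtain ⟨y, rfl⟩ := hx
  obtain ⟨y', rfl⟩ := hx'
  have hyy' : y.asIdeal ≤ y'.asIdeal := by
    have h1 : y ⤳ y' := hV.fromSpec.isOpenEmbedding.isInducing.specializes_iff.mp hxx'
    exact (PrimeSpectrum.le_iff_specializes y y').mpr h1
  have hϖy' : res (pb f ⊤ ϖ) V ∈ y'.asIdeal := by
    by_contra hc
    have h1 : φ hV y' ∈ X.basicOpen (pb f ⊤ ϖ) := (φ_mem_basicOpen_iff _ hV y').mpr hc
    rw [mem_basicOpen_pb_iff, hfx'] at h1
    apply h1.2
    show ϖ ∈ IsLocalRing.maximalIdeal R
    rw [hϖ.maximalIdeal_eq]
    exact Ideal.mem_span_singleton_self _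
  have hN : IsNoetherianRing Γ(X, V) := IsLocallyNoetherian.component_noetherian ⟨V, hV⟩
  let _ : Algebra Γ(X, V) (X.presheaf.stalk (hV.fromSpec y)) :=
    TopCat.Presheaf.algebra_section_stalk X.presheaf ⟨hV.fromSpec y, hxV⟩
  have hloc : IsLocalization.AtPrime (X.presheaf.stalk (hV.fromSpec y)) y.asIdeal :=
    hV.isLocalization_stalk' y hxV
  exact Groth.Agent.Lib.Helper70.DVRRedA.isReduced_localization hgood y.asIdeal y'.asIdeal hyy'
    hϖy' (X.presheaf.stalk (hV.fromSpec y))

end

theorem flat_surjective_spec_field {K L : Type u} [Field K] [Field L]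
    (φ : Spec (CommRingCat.of K) ⟶ Spec (CommRingCat.of L)) :
    Flat φ ∧ Surjective φ := by
  haveI : Subsingleton ↥(Spec (CommRingCat.of L)) :=
    inferInstanceAs (Subsingleton (PrimeSpectrum L))
  exact ⟨inferInstance, ⟨fun y => ⟨IsLocalRing.closedPoint K, Subsingleton.elim _ _⟩⟩⟩

/-- If the base change of `f` along a field-valued point `m` is reduced, so is the fibre of `f`
over the image point of `m`. -/
theorem isReduced_fiber_of_isReduced_pullback {X Y : Scheme.{u}} (f : X ⟶ Y) {K : Type u} [Field K]
    (m : Spec (CommRingCat.of K) ⟶ Y) (hred : IsReduced (pullback f m)) :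
    IsReduced (f.fiber (m.base (IsLocalRing.closedPoint K))) := by
  let d : Spec (CommRingCat.of K) ⟶
      Spec (CommRingCat.of ↥(Y.residueField (m.base (IsLocalRing.closedPoint K)))) :=
    Spec.map (Y.descResidueField (K := K) (Scheme.stalkClosedPointTo m))
  have key : d ≫ Y.fromSpecResidueField (m.base (IsLocalRing.closedPoint K)) = m :=
    Scheme.descResidueField_stalkClosedPointTo_fromSpecResidueField K Y m
  have HR : IsPullback (f.fiberι (m.base (IsLocalRing.closedPoint K)))
      (f.fiberToSpecResidueField (m.base (IsLocalRing.closedPoint K))) f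
      (Y.fromSpecResidueField (m.base (IsLocalRing.closedPoint K))) := IsPullback.of_hasPullback _ _
  have hcond : pullback.fst f m ≫ f =
      (pullback.snd f m ≫ d) ≫ Y.fromSpecResidueField (m.base (IsLocalRing.closedPoint K)) := by
    rw [Category.assoc, key, pullback.condition]
  let l : pullback f m ⟶ f.fiber (m.base (IsLocalRing.closedPoint K)) :=
    HR.lift (pullback.fst f m) (pullback.snd f m ≫ d) hcond
  have hl1 : l ≫ f.fiberι (m.base (IsLocalRing.closedPoint K)) = pullback.fst f m :=
    HR.lift_fst _ _ _
  have hl2 : l ≫ f.fiberToSpecResidueField (m.base (IsLocalRing.closedPoint K)) =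
      pullback.snd f m ≫ d := HR.lift_snd _ _ _
  have Hbig : IsPullback (l ≫ f.fiberι (m.base (IsLocalRing.closedPoint K))) (pullback.snd f m) f
      (d ≫ Y.fromSpecResidueField (m.base (IsLocalRing.closedPoint K))) := by
    rw [hl1, key]
    exact IsPullback.of_hasPullback f m
  have sqL : IsPullback l (pullback.snd f m)
      (f.fiberToSpecResidueField (m.base (IsLocalRing.closedPoint K))) d :=
    IsPullback.of_right Hbig hl2 HR
  obtain ⟨hdf, hds⟩ := flat_surjective_spec_field d
  haveI : Flat l := MorphismProperty.of_isPullback (P := @Flat) sqL.flip hdf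
  haveI : Surjective l := MorphismProperty.of_isPullback (P := @Surjective) sqL.flip hds
  haveI := hred
  exact Groth.Agent.S9840.result l

/-- The base change of a reduced scheme along the spectrum of a localization is reduced. -/
theorem isReduced_pullback_of_isLocalization {U : Scheme.{u}} [IsReduced U] {R K : Type u}
    [CommRing R] [CommRing K] [Algebra R K] (M : Submonoid R) [IsLocalization M K]
    (h : U ⟶ Spec (CommRingCat.of R)) :
    IsReduced (pullback h (Spec.map (CommRingCat.ofHom (algebraMap R K)))) := by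
  haveI : IsPreimmersion (Spec.map (CommRingCat.ofHom (algebraMap R K))) :=
    IsPreimmersion.of_isLocalization M
  haveI : Flat (Spec.map (CommRingCat.ofHom (algebraMap R K))) := by
    rw [Flat.SpecMap_iff]
    exact RingHom.flat_algebraMap_iff.2 (IsLocalization.flat K M)
  haveI : ∀ z : ↥(pullback h (Spec.map (CommRingCat.ofHom (algebraMap R K)))),
      _root_.IsReduced
        ((pullback h (Spec.map (CommRingCat.ofHom (algebraMap R K)))).presheaf.stalk z) :=
    fun z =>
      Groth.Agent.Lib.Helper12.GeomRedGeneralize.isReduced_stalk_of_flat_of_isPreimmersion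
        (pullback.fst h (Spec.map (CommRingCat.ofHom (algebraMap R K)))) z inferInstance
  exact isReduced_of_isReduced_stalk _

end Groth.Agent.Lib.Helper78.DVRRedSp
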