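import Mathlib
import Groth.Agent.Lib.Helper78.DVRScheme
import Groth.Agent.Lib.Helper78.QCSpecialize

/-!
# Separatedness from uniqueness of lifts for discrete valuation rings through a dense family
(helper78)
-/

set_option autoImplicit false
universe u

namespace Groth.Agent.Lib.Helper78

open AlgebraicGeometry CategoryTheory Limits IsLocalRing

theorem isSeparated_of_dvr_through {X S U : Scheme.{u}} [IsLocallyNoetherian S] (f : X ⟶ S)
    [LocallyOfFiniteType f] (h : U ⟶ X) [LocallyOfFiniteType h] (G : Set U)
    (hG : ∀ x : X, ∃ u ∈ G, h u ⤳ x)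
    (H : ∀ u ∈ G, ∀ (A : ValuationSubring (U.residueField u)), IsDiscreteValuationRing A →
      ∀ l₁ l₂ : Spec (CommRingCat.of A) ⟶ X, l₁ ≫ f = l₂ ≫ f →
        Spec.map (CommRingCat.ofHom A.subtype) ≫ l₁ = U.fromSpecResidueField u ≫ h →
        Spec.map (CommRingCat.ofHom A.subtype) ≫ l₂ = U.fromSpecResidueField u ≫ h → l₁ = l₂) :
    IsSeparated f := by
  have hXN : IsLocallyNoetherian X := LocallyOfFiniteType.isLocallyNoetherian f
  have hPN : IsLocallyNoetherian (pullback f f) :=
    LocallyOfFiniteType.isLocallyNoetherian (pullback.fst f f)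
  have hΔft : LocallyOfFiniteType (pullback.diagonal f) := by
    have : LocallyOfFiniteType (pullback.diagonal f ≫ pullback.fst f f) := by
      rw [pullback.diagonal_fst]; infer_instance
    exact locallyOfFiniteType_of_comp (pullback.diagonal f) (pullback.fst f f)
  have hΔqc : QuasiCompact (pullback.diagonal f) := QuasiSeparated.quasiCompact_diagonal
  refine ⟨.of_isPreimmersion _ ?_⟩
  rw [← closure_subset_iff_isClosed]
  intro z hz
  obtain ⟨x, hx⟩ := exists_specializes_of_mem_closure_range (pullback.diagonal f) z hz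
  obtain ⟨u, huG, hux⟩ := hG x
  have hsp : (h ≫ pullback.diagonal f) u ⤳ z := by
    rw [Scheme.Hom.comp_apply]
    exact (hux.map (pullback.diagonal f).continuous).trans hx
  by_cases hzu : z = (h ≫ pullback.diagonal f) u
  · rw [hzu, Scheme.Hom.comp_apply]; exact ⟨_, rfl⟩
  obtain ⟨A, t, hA, htcl, htgen⟩ := exists_dvr_specialization (h ≫ pullback.diagonal f) u z hsp hzu
  have h1 : (t ≫ pullback.fst f f) ≫ f = (t ≫ pullback.snd f f) ≫ f := by
    rw [Category.assoc, Category.assoc, pullback.condition]
  have h2 : Spec.map (CommRingCat.ofHom A.subtype) ≫ t ≫ pullback.fst f f =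
      U.fromSpecResidueField u ≫ h := by
    rw [← Category.assoc, htgen, Category.assoc, Category.assoc, pullback.diagonal_fst,
      Category.comp_id]
  have h3 : Spec.map (CommRingCat.ofHom A.subtype) ≫ t ≫ pullback.snd f f =
      U.fromSpecResidueField u ≫ h := by
    rw [← Category.assoc, htgen, Category.assoc, Category.assoc, pullback.diagonal_snd,
      Category.comp_id]
  have h4 := H u huG A hA _ _ h1 h2 h3
  have h5 : t = (t ≫ pullback.fst f f) ≫ pullback.diagonal f := by
    apply pullback.hom_ext
    · rw [Category.assoc, pullback.diagonal_fst, Category.comp_id]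
    · rw [Category.assoc, pullback.diagonal_snd, Category.comp_id, h4]
  let c : ↥(Spec (CommRingCat.of A)) := closedPoint A
  refine ⟨(t ≫ pullback.fst f f) c, ?_⟩
  rw [← Scheme.Hom.comp_apply, ← h5]
  exact htcl

end Groth.Agent.Lib.Helper78
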