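/-
Helper library (helper78): scheme charts for the deformation situation `X' ⟶ Y' ⟶ B'` over an
arbitrary thickening `B ⟶ B'` of algebraic spaces (variant of `Groth.Agent.H52.exists_deform_charts`,
which treats finite order thickenings).
-/
import Groth.Agent.H52.ThickFlat

set_option autoImplicit false
universe u
open CategoryTheory CategoryTheory.Limits AlgebraicGeometry Opposite

namespace Groth.Agent.Lib.Helper78.DeformChartsThick

open AlgSp

variable {S : Scheme.{u}}

/-- Scheme charts of the deformation situation: a thickening `iB`, cartesian squares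
from `iX`, `iY` to it. -/
theorem exists_deform_charts_thick {X X' Y Y' B B' : Sp S} (hX' : IsAlgSpace X') (hY' : IsAlgSpace Y')
    (hB' : IsAlgSpace B') (iX : X ⟶ X') (iY : Y ⟶ Y') (iB : B ⟶ B') (f : X ⟶ Y) (f' : X' ⟶ Y')
    (g : Y ⟶ B) (g' : Y' ⟶ B') (hcX : IsPullback iX (f ≫ g) (f' ≫ g') iB)
    (hcY : IsPullback iY g g' iB) (w : iX ≫ f' = f ≫ iY) (hthick : IsThickMor iB) :
    ∃ (U U' V V' W W' : Over S) (a : (yon S).obj U ⟶ X) (a' : (yon S).obj U' ⟶ X')
      (b : (yon S).obj V ⟶ Y) (b' : (yon S).obj V' ⟶ Y') (c' : (yon S).obj W' ⟶ B')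
      (iU : U ⟶ U') (iV : V ⟶ V') (iW : W ⟶ W') (fU : U ⟶ V) (fU' : U' ⟶ V') (gV : V ⟶ W)
      (gV' : V' ⟶ W'),
      RepWith @Etale a ∧ RepWith @Surjective a ∧ RepWith @Etale a' ∧ RepWith @Surjective a' ∧
      RepWith @Etale b ∧ RepWith @Surjective b ∧ RepWith @Etale b' ∧ RepWith @Surjective b' ∧
      RepWith @Etale c' ∧ RepWith @Surjective c' ∧
      a ≫ f = (yon S).map fU ≫ b ∧ a' ≫ f' = (yon S).map fU' ≫ b' ∧
      b' ≫ g' = (yon S).map gV' ≫ c' ∧
      a' ≫ f' ≫ g' = (yon S).map (fU' ≫ gV') ≫ c' ∧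
      a ≫ iX = (yon S).map iU ≫ a' ∧ b ≫ iY = (yon S).map iV ≫ b' ∧
      MoreMor.IsThickening iW.left ∧
      MoreMor.IsThickening iV.left ∧
      MoreMor.IsThickening iU.left ∧
      IsPullback iU.left (fU.left ≫ gV.left) (fU'.left ≫ gV'.left) iW.left ∧
      IsPullback iV.left gV.left gV'.left iW.left ∧
      IsPullback iU.left fU.left fU'.left iV.left := by
  have hiY : IsThickMor iY :=
    MorphismProperty.of_isPullback (P := RepWith (S := S) thick) hcY.flip hthick
  have hiX : IsThickMor iX :=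
    MorphismProperty.of_isPullback (P := RepWith (S := S) thick) hcX.flip hthick
  obtain ⟨W', cW', hcW'e, hcW's⟩ := hB'.atlas
  obtain ⟨V', b', gV', hb'e, hb's, commV'⟩ :=
    Groth.Agent.H52.exists_surjective_chart_over hY' g' cW' hcW'e hcW's
  obtain ⟨U', a', fU', ha'e, ha's, commU'⟩ :=
    Groth.Agent.H52.exists_surjective_chart_over hX' f' b' hb'e hb's
  have sqW := hthick.rep.isPullback cW'
  have sqV := hiY.rep.isPullback b'
  have sqU := hiX.rep.isPullback a'
  have hae : RepWith @Etale (hiX.rep.fst a') := MorphismProperty.of_isPullback sqU.flip ha'e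
  have has : RepWith @Surjective (hiX.rep.fst a') := MorphismProperty.of_isPullback sqU.flip ha's
  have hbe : RepWith @Etale (hiY.rep.fst b') := MorphismProperty.of_isPullback sqV.flip hb'e
  have hbs : RepWith @Surjective (hiY.rep.fst b') := MorphismProperty.of_isPullback sqV.flip hb's
  obtain ⟨gV, hgV1, hgV2, hgVc⟩ :=
    Groth.Agent.H52.exists_chart_map_of_isPullback hcY.w sqV sqW commV'
  obtain ⟨fU, hfU1, hfU2, -⟩ := Groth.Agent.H52.exists_chart_map_of_isPullback w sqU sqV commU'
  have commUW' : a' ≫ f' ≫ g' = (yon S).map (fU' ≫ gV') ≫ cW' := by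
    rw [← Category.assoc, commU', Category.assoc, commV', Functor.map_comp, Category.assoc]
  obtain ⟨k, hk1, hk2, hkc⟩ :=
    Groth.Agent.H52.exists_chart_map_of_isPullback hcX.w sqU sqW commUW'
  have hk : k = fU ≫ gV := by
    apply (yon S).map_injective
    apply sqW.hom_ext
    · rw [← hk1, Functor.map_comp, Category.assoc, ← hgV1]
      rw [← Category.assoc, hfU1, Category.assoc]
    · have e2 := hfU2 =≫ gV'
      simp only [Category.assoc] at e2
      rw [← Functor.map_comp, ← hk2, ← Functor.map_comp, Category.assoc, ← hgV2, e2]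
  subst hk
  have hthW : thick (hthick.rep.snd cW').left := hthick.property_snd cW'
  have hthV : thick (hiY.rep.snd b').left := hiY.property_snd b'
  have hthU : thick (hiX.rep.snd a').left := hiX.property_snd a'
  have wU : (hiX.rep.snd a').left ≫ fU'.left = fU.left ≫ (hiY.rep.snd b').left :=
    congrArg (fun t => t.left) hfU2
  have pX : IsPullback (hiX.rep.snd a').left (fU.left ≫ gV.left) (fU'.left ≫ gV'.left)
      (hthick.rep.snd cW').left := hkc hcX
  have pY := hgVc hcY
  exact ⟨_, U', _, V', _, W', hiX.rep.fst a', a', hiY.rep.fst b', b', cW', hiX.rep.snd a',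
    hiY.rep.snd b', hthick.rep.snd cW', fU, fU', gV, gV', hae, has, ha'e, ha's, hbe, hbs, hb'e,
    hb's, hcW'e, hcW's, hfU1, commU', commV', commUW', sqU.w, sqV.w, hthW, hthV, hthU,
    pX, pY, IsPullback.of_bot pX wU pY⟩

end Groth.Agent.Lib.Helper78.DeformChartsThick
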