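/-
Helper library (helper78): for a cartesian morphism of thickenings of algebraic spaces
`(f, f') : (X ⊂ X') ⟶ (Y ⊂ Y')` with `f`, `f'` locally of finite type, transfer of "finite",
"closed immersion", "immersion", "proper" between `f` and `f'`.
-/
import Groth.Agent.Lib.Helper78.DeformIso
import Groth.Agent.H52.LocPCalc4
import Groth.Agent.H52.LocPInst
import Groth.Agent.H53.ZarGlueInt
import Groth.Agent.S10260
import Groth.Agent.S10613
import Groth.Agent.S1313
import Groth.Agent.S1316

set_option autoImplicit false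
universe u
open CategoryTheory CategoryTheory.Limits AlgebraicGeometry Opposite

namespace Groth.Agent.Lib.Helper78.DeformImm

open AlgSp

variable {S : Scheme.{u}}

/-- Transfer along a cartesian morphism of thickenings, locally of finite type case. -/
theorem deform_lft {X X' Y Y' : AlgSp.Space S} (i : X ⟶ X') (j : Y ⟶ Y')
    (f : X ⟶ Y) (f' : X' ⟶ Y') (hi : IsThickMor i.hom) (hj : IsThickMor j.hom)
    (w : i ≫ f' = f ≫ j) (hcart : IsPullback i.hom f.hom f'.hom j.hom)
    (hft : LocP @LocallyOfFiniteType f.hom) (hft' : LocP @LocallyOfFiniteType f'.hom)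
    (hlqf : LocP (@LocallyQuasiFinite ⊓ @LocallyOfFiniteType) f.hom ↔
      LocP (@LocallyQuasiFinite ⊓ @LocallyOfFiniteType) f'.hom) :
    (IsFiniteMor f.hom ↔ IsFiniteMor f'.hom) ∧
    (RepWith @IsClosedImmersion f.hom ↔ RepWith @IsClosedImmersion f'.hom) ∧
    (RepWith @IsImmersion f.hom ↔ RepWith @IsImmersion f'.hom) ∧
    (IsProperMor f.hom ↔ IsProperMor f'.hom) := by
  have hX' : IsAlgSpace X'.obj := X'.property
  have hY' : IsAlgSpace Y'.obj := Y'.property
  have hX : IsAlgSpace X.obj := X.property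
  have hY : IsAlgSpace Y.obj := Y.property
  have w' : i.hom ≫ f'.hom = f.hom ≫ j.hom := congrArg (fun k => k.hom) w
  obtain ⟨hsurj, hqc, huc, hui, huo⟩ := Groth.Agent.S10587.result i j f f' hi hj w
  obtain ⟨hsep, hqsep⟩ := Groth.Agent.S10589.result i j f f' hi hj w
  have hfin : IsFiniteMor f.hom ↔ IsFiniteMor f'.hom := by
    constructor
    · intro hfin
      obtain ⟨-, h1, -, h3⟩ := (Groth.Agent.H53.isFiniteMor_iff hX hY f.hom).1 hfin
      have hq := Groth.Agent.Lib.Helper54.locP_lqf_of_isFiniteMor f.hom hfin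
      exact Groth.Agent.Lib.Helper54.isFiniteMor_of_univClosed_sep_lqf hX' hY' f'.hom
        (huc.1 h3) (hsep.1 h1) (hlqf.1 hq)
    · intro hfin
      exact Groth.Agent.Lib.Helper66.AlgStAffFacts.isFiniteMor_of_isPullback hcart hfin
  refine ⟨hfin, ⟨?_, ?_⟩, ⟨?_, ?_⟩, ⟨?_, ?_⟩⟩
  · intro hci
    have hF : IsFiniteMor f.hom :=
      (Groth.Agent.H53.ZarGlue.isFiniteMor_iff_repWith f.hom).2
        (Groth.Agent.H53.repWith_of_le (fun A B φ hφ => by
          have : IsClosedImmersion φ := hφ
          change IsFinite φ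
          infer_instance) hci)
    have hF' : RepWith @IsFinite f'.hom :=
      (Groth.Agent.H53.ZarGlue.isFiniteMor_iff_repWith f'.hom).1 (hfin.1 hF)
    refine ⟨hF'.rep, fun U V g fst snd sq => ?_⟩
    haveI hsnd : IsFinite snd.left := hF'.property g fst snd sq
    have sqU := hi.rep.isPullback fst
    have sqV := hj.rep.isPullback g
    obtain ⟨h, sqh, pS⟩ :=
      Groth.Agent.Lib.Helper78.DeformIso.exists_chart_map_yon w' sqU sqV sq.w hcart sq
    haveI hh : IsClosedImmersion h.left := hci.property _ _ h sqh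
    have hthV : MoreMor.IsThickening (hj.rep.snd g).left := hj.property_snd g
    exact (Groth.Agent.S1313.result (hi.rep.snd fst).left (hj.rep.snd g).left h.left snd.left hthV
      pS).1 hh
  · intro hci
    exact MorphismProperty.of_isPullback (P := RepWith (S := S) @IsClosedImmersion) hcart hci
  · intro him
    haveI : Mono f.hom := Groth.Agent.S9928.result f him
    obtain ⟨-, hs, hq⟩ := (Groth.Agent.S10613.result f).2.2.2 ⟨hft, inferInstance⟩
    have hrep' : Representable f'.hom := Groth.Agent.S10260.result f' (hlqf.1 hq) (hsep.1 hs)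
    have hL' : RepWith @LocallyOfFiniteType f'.hom :=
      Groth.Agent.H52.isEtLocal_lft.repWith_of_locP hY' f'.hom hrep' hft'
    refine ⟨hrep', fun U V g fst snd sq => ?_⟩
    haveI hsnd : LocallyOfFiniteType snd.left := hL'.property g fst snd sq
    have sqU := hi.rep.isPullback fst
    have sqV := hj.rep.isPullback g
    obtain ⟨h, sqh, pS⟩ :=
      Groth.Agent.Lib.Helper78.DeformIso.exists_chart_map_yon w' sqU sqV sq.w hcart sq
    have hh : IsImmersion h.left := him.property _ _ h sqh
    haveI : LocallyOfFiniteType h.left := MorphismProperty.of_isPullback pS hsnd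
    have hthV : MoreMor.IsThickening (hj.rep.snd g).left := hj.property_snd g
    exact (Groth.Agent.S1316.result (hi.rep.snd fst).left (hj.rep.snd g).left h.left snd.left hthV
      pS).1 hh
  · intro him
    exact MorphismProperty.of_isPullback (P := RepWith (S := S) @IsImmersion) hcart him
  · rintro ⟨h1, ⟨-, h2⟩, h3⟩
    exact ⟨hsep.1 h1, ⟨hft', hqc.1 h2⟩, huc.1 h3⟩
  · rintro ⟨h1, ⟨-, h2⟩, h3⟩
    exact ⟨hsep.2 h1, ⟨hft, hqc.2 h2⟩, huc.2 h3⟩

end Groth.Agent.Lib.Helper78.DeformImm
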