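import Groth.Agent.Lib.Helper71.DeformFlat
import Groth.Agent.S0422

/-! Deformation of flatness across an arbitrary thickening (helper78), following helper71's
`DeformFlat` but using the locally nilpotent fibrewise criterion `S0422`. -/

set_option autoImplicit false

universe u

namespace Groth.Agent.Lib.Helper78.DeformNil

open CategoryTheory CategoryTheory.Limits AlgebraicGeometry TensorProduct
open Groth.Agent.Lib.Helper71.DeformFlat

/-- Sections in the kernel of a surjective closed immersion are nilpotent. -/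
theorem isNilpotent_of_mem_ker_ideal {S S' : Scheme.{u}} (iS : S ⟶ S') [IsClosedImmersion iS]
    [Surjective iS] (W : S'.affineOpens) (a : Γ(S', W.1)) (ha : a ∈ iS.ker.ideal W) :
    IsNilpotent a := by
  rw [Scheme.isNilpotent_iff_basicOpen_eq_bot_of_isCompact W.2.isCompact]
  have h0 : (iS.app W.1).hom a = 0 := by
    rw [Scheme.Hom.ker_apply] at ha
    exact ha
  have h1 : iS ⁻¹ᵁ S'.basicOpen a = ⊥ := by
    rw [Scheme.preimage_basicOpen]
    have : (iS.app W.1) a = 0 := h0
    rw [this]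
    exact Scheme.basicOpen_zero _ _
  rw [eq_bot_iff]
  intro s' hs'
  obtain ⟨s, rfl⟩ := iS.surjective s'
  have h2 : s ∈ iS ⁻¹ᵁ S'.basicOpen a := hs'
  rw [h1] at h2
  exact h2

section ring
variable {A' B' C' B C : Type u} [CommRing A'] [CommRing B'] [CommRing C'] [CommRing B] [CommRing C]

/-- Ring-level key: flatness lifts across a locally nilpotent ideal of the base, under finiteness
hypotheses (Stacks 0523 via `S0422`). -/
theorem flat_of_surjections_nil (a : A' →+* B') (b : B' →+* C') (I : Ideal A')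
    (β : B' →+* B) (γ : C' →+* C) (φ : B →+* C) (hI : ∀ x ∈ I, IsNilpotent x)
    (hflat : (b.comp a).Flat) (hft : a.FiniteType) (hfp : (b.comp a).FinitePresentation)
    (hβ : Function.Surjective β) (hγ : Function.Surjective γ)
    (hkβ : RingHom.ker β = I.map a) (hkγ : RingHom.ker γ = I.map (b.comp a))
    (hcomm : φ.comp β = γ.comp b) (hφ : φ.Flat) : b.Flat := by
  let _ := a.toAlgebra
  let _ := b.toAlgebra
  let _ : Algebra A' C' := (b.comp a).toAlgebra
  have : IsScalarTower A' B' C' := IsScalarTower.of_algebraMap_eq (fun _ => rfl)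
  have : Module.Flat A' C' := hflat
  have : Algebra.FiniteType A' B' := hft
  have : Algebra.FinitePresentation A' C' := hfp
  have hkγ' : RingHom.ker γ = (I.map (algebraMap A' B')).map (algebraMap B' C') := by
    rw [hkγ, ← Ideal.map_map]; rfl
  have hq : Module.Flat (B' ⧸ I.map (algebraMap A' B'))
      (C' ⧸ (I.map (algebraMap A' B')).map (algebraMap B' C')) := by
    rw [← RingHom.flat_algebraMap_iff]
    exact (quotient_map_iff _ φ hβ hγ hkβ hkγ' hcomm RingHom.Flat.respectsIso).mpr hφ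
  have h : Module.Flat (B' ⧸ I.map (algebraMap A' B'))
      ((B' ⧸ I.map (algebraMap A' B')) ⊗[B'] C') :=
    Module.Flat.of_linearEquiv
      (Algebra.TensorProduct.quotIdealMapEquivQuotTensor C'
        (I.map (algebraMap A' B'))).symm.toLinearEquiv
  have hfin : Module.Flat B' C' :=
    Groth.Agent.S0422.result (R := A') (S := B') (S' := C') (M := C') I hI h
  exact hfin

end ring

section scheme

variable {X X' Y Y' S S' : Scheme.{u}}

/-- Deformation principle across an arbitrary thickening, for a ring-hom property that lifts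
across locally nilpotent ideals under finiteness hypotheses. -/
theorem deform_of_ringHom_nil {P : MorphismProperty Scheme.{u}}
    {Q : ∀ {R S : Type u} [CommRing R] [CommRing S], (R →+* S) → Prop}
    [HasRingHomProperty P Q]
    (hQ : RingHom.StableUnderCompositionWithLocalizationAwaySource Q)
    (key : ∀ {A' B' C' B C : Type u} [CommRing A'] [CommRing B'] [CommRing C'] [CommRing B]
      [CommRing C] (a : A' →+* B') (b : B' →+* C') (I : Ideal A') (β : B' →+* B) (γ : C' →+* C)
      (φ : B →+* C), (∀ x ∈ I, IsNilpotent x) → (b.comp a).Flat → a.FiniteType →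
      (b.comp a).FinitePresentation → Function.Surjective β →
      Function.Surjective γ → RingHom.ker β = I.map a → RingHom.ker γ = I.map (b.comp a) →
      φ.comp β = γ.comp b → Q φ → Q b)
    (iX : X ⟶ X') (iY : Y ⟶ Y') (iS : S ⟶ S') (f : X ⟶ Y) (f' : X' ⟶ Y') (g : Y ⟶ S)
    (g' : Y' ⟶ S') [IsClosedImmersion iS] [Surjective iS]
    (hcX : IsPullback iX (f ≫ g) (f' ≫ g') iS) (hcY : IsPullback iY g g' iS)
    (w : iX ≫ f' = f ≫ iY) [Flat (f' ≫ g')] [LocallyOfFinitePresentation (f' ≫ g')]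
    [LocallyOfFiniteType g'] (hf : P f) : P f' := by
  have hsq : IsPullback iX f f' iY := IsPullback.of_bot hcX w hcY
  have hiY : IsClosedImmersion iY := MorphismProperty.of_isPullback hcY.flip ‹_›
  rw [HasRingHomProperty.iff_exists_appLE (P := P) hQ]
  intro x'
  obtain ⟨W', hW', hxW', -⟩ := TopologicalSpace.Opens.isBasis_iff_nbhd.mp S'.isBasis_affineOpens
    (TopologicalSpace.Opens.mem_top ((f' ≫ g') x'))
  have hxU0 : f' x' ∈ g' ⁻¹ᵁ W' := by
    change g' (f' x') ∈ W'
    rw [← Scheme.Hom.comp_apply]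
    exact hxW'
  obtain ⟨U', hU', hxU', eg⟩ := TopologicalSpace.Opens.isBasis_iff_nbhd.mp Y'.isBasis_affineOpens
    hxU0
  obtain ⟨V', hV', hxV', ef⟩ := TopologicalSpace.Opens.isBasis_iff_nbhd.mp X'.isBasis_affineOpens
    (show x' ∈ f' ⁻¹ᵁ U' from hxU')
  have efg : V' ≤ (f' ≫ g') ⁻¹ᵁ W' := fun z hz => eg (ef hz)
  obtain ⟨e₀Y, hUaff, hWaff, hsurjβ, hkerβ, hcompβ⟩ :=
    Groth.Agent.Lib.Helper18.thickening_affine_setup hcY ⟨W', hW'⟩ ⟨U', hU'⟩ eg
  obtain ⟨e₀X, hVaff, -, hsurjγ, hkerγ, hcompγ⟩ :=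
    Groth.Agent.Lib.Helper18.thickening_affine_setup hcX ⟨W', hW'⟩ ⟨V', hV'⟩ efg
  obtain ⟨e₀, -, -, -, -, hcomm⟩ :=
    Groth.Agent.Lib.Helper18.thickening_affine_setup hsq ⟨U', hU'⟩ ⟨V', hV'⟩ ef
  have hcompab : (f'.appLE U' V' ef).hom.comp (g'.appLE W' U' eg).hom =
      ((f' ≫ g').appLE W' V' efg).hom := by
    rw [← CommRingCat.hom_comp, Scheme.Hom.appLE_comp_appLE]
  refine ⟨⟨U', hU'⟩, ⟨V', hV'⟩, hxV', ef, ?_⟩
  refine key (g'.appLE W' U' eg).hom (f'.appLE U' V' ef).hom (iS.ker.ideal ⟨W', hW'⟩)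
    (iY.app U').hom (iX.app V').hom (f.appLE _ _ e₀).hom
    (fun x hx => isNilpotent_of_mem_ker_ideal iS ⟨W', hW'⟩ x hx) ?_ ?_ ?_ hsurjβ hsurjγ hkerβ ?_
    hcomm.symm ?_
  · rw [hcompab]
    exact HasRingHomProperty.appLE (P := @Flat) _ inferInstance ⟨W', hW'⟩ ⟨V', hV'⟩ efg
  · exact HasRingHomProperty.appLE (P := @LocallyOfFiniteType) _ inferInstance ⟨W', hW'⟩
      ⟨U', hU'⟩ eg
  · rw [hcompab]
    exact HasRingHomProperty.appLE (P := @LocallyOfFinitePresentation) _ inferInstance
      ⟨W', hW'⟩ ⟨V', hV'⟩ efg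
  · rw [hcompab]
    exact hkerγ
  · exact HasRingHomProperty.appLE (P := P) _ hf ⟨_, hUaff⟩ ⟨_, hVaff⟩ e₀

/-- Flatness lifts across an arbitrary thickening of the base (Stacks 0CF4-type). -/
theorem flat_of_deform_thickening (iX : X ⟶ X') (iY : Y ⟶ Y') (iS : S ⟶ S') (f : X ⟶ Y)
    (f' : X' ⟶ Y') (g : Y ⟶ S) (g' : Y' ⟶ S') [IsClosedImmersion iS] [Surjective iS]
    (hcX : IsPullback iX (f ≫ g) (f' ≫ g') iS) (hcY : IsPullback iY g g' iS)
    (w : iX ≫ f' = f ≫ iY) [Flat (f' ≫ g')] [LocallyOfFinitePresentation (f' ≫ g')]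
    [LocallyOfFiniteType g'] (hf : Flat f) : Flat f' := by
  have hQ : RingHom.StableUnderCompositionWithLocalizationAwaySource RingHom.Flat :=
    (RingHom.StableUnderComposition.stableUnderCompositionWithLocalizationAway
      RingHom.Flat.stableUnderComposition RingHom.Flat.holdsForLocalizationAway).1
  exact deform_of_ringHom_nil (P := @Flat) hQ
    (fun a b I β γ φ hI hflat hft hfp hβ hγ hkβ hkγ hcomm hφ =>
      flat_of_surjections_nil a b I β γ φ hI hflat hft hfp hβ hγ hkβ hkγ hcomm hφ)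
    iX iY iS f f' g g' hcX hcY w hf

end scheme

end Groth.Agent.Lib.Helper78.DeformNil
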