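import Mathlib

/-!
# Helper lemmas on ring maps essentially of finite type between sections of schemes
(helper78)
-/

set_option autoImplicit false
universe u
open CategoryTheory CategoryTheory.Limits AlgebraicGeometry TopologicalSpace

namespace Groth.Agent.Lib.Helper78.EssFT

/-- Restriction from an affine open to a basic open is essentially of finite type. -/
theorem essFiniteType_res_basicOpen {X : Scheme.{u}} {V : X.Opens} (hV : IsAffineOpen V)
    (c : Γ(X, V)) :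
    (X.presheaf.map (homOfLE (X.basicOpen_le c)).op).hom.EssFiniteType := by
  have := hV.isLocalization_basicOpen c
  exact RingHom.EssFiniteType.holdsForLocalization (Submonoid.powers c)
    (R := Γ(X, V)) (S := Γ(X, X.basicOpen c))

/-- Restriction between affine opens `W ≤ V` where `W` is a basic open of `V`. -/
theorem essFiniteType_res_of_eq_basicOpen {X : Scheme.{u}} {V W : X.Opens} (hV : IsAffineOpen V)
    (c : Γ(X, V)) (h : W = X.basicOpen c) (e : W ≤ V) :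
    (X.presheaf.map (homOfLE e).op).hom.EssFiniteType := by
  subst h
  exact essFiniteType_res_basicOpen hV c

/-- The key local step: if `A = Γ(Y, U₁) → Γ(X, V)` is essentially of finite type, `U` is another
affine open, and `y = f x ∈ U ⊓ U₁` with `x ∈ V`, then there is an affine open `W ∋ x` with
`W ≤ V`, `W ≤ f⁻¹ U` and `Γ(Y, U) → Γ(X, W)` essentially of finite type. -/
theorem exists_affine_nhds_essFiniteType {X Y : Scheme.{u}} (f : X ⟶ Y)
    {U U₁ : Y.Opens} (hU : IsAffineOpen U) (hU₁ : IsAffineOpen U₁)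
    {V : X.Opens} (hV : IsAffineOpen V) (e : V ≤ f ⁻¹ᵁ U₁)
    (h : (f.appLE U₁ V e).hom.EssFiniteType)
    (x : X) (hxV : x ∈ V) (hxU : f x ∈ U) :
    ∃ W : X.Opens, IsAffineOpen W ∧ x ∈ W ∧ W ≤ V ∧ ∃ e' : W ≤ f ⁻¹ᵁ U,
      (f.appLE U W e').hom.EssFiniteType := by
  have hxU₁ : f x ∈ U₁ := e hxV
  obtain ⟨a, b, hab, hxa⟩ := exists_basicOpen_le_affine_inter hU hU₁ (f x) ⟨hxU, hxU₁⟩
  set c : Γ(X, V) := f.appLE U₁ V e b with hc
  have hWeq : X.basicOpen c = V ⊓ f ⁻¹ᵁ (Y.basicOpen b) := Scheme.basicOpen_appLE f V U₁ e b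
  have hWV : X.basicOpen c ≤ V := X.basicOpen_le c
  have hWD : X.basicOpen c ≤ f ⁻¹ᵁ (Y.basicOpen a) := by
    rw [hab, hWeq]; exact inf_le_right
  have hDU : Y.basicOpen a ≤ U := Y.basicOpen_le a
  have hDU₁ : Y.basicOpen a ≤ U₁ := hab ▸ Y.basicOpen_le b
  have hWU : X.basicOpen c ≤ f ⁻¹ᵁ U := hWD.trans (fun _ hz => hDU hz)
  refine ⟨X.basicOpen c, hV.basicOpen c, ?_, hWV, hWU, ?_⟩
  · rw [hWeq]; exact ⟨hxV, by rw [← hab]; exact hxa⟩
  · -- (i) `Γ(U₁) → Γ(W)` is EFT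
    have h1 : (f.appLE U₁ (X.basicOpen c) (hWV.trans e)).hom.EssFiniteType := by
      have : f.appLE U₁ (X.basicOpen c) (hWV.trans e) =
          f.appLE U₁ V e ≫ X.presheaf.map (homOfLE hWV).op := by
        rw [Scheme.Hom.appLE_map]
      rw [this, CommRingCat.hom_comp]
      exact h.comp (essFiniteType_res_basicOpen hV c)
    -- (ii) `Γ(D) → Γ(W)` is EFT
    have h2 : (f.appLE (Y.basicOpen a) (X.basicOpen c) hWD).hom.EssFiniteType := by
      have : f.appLE U₁ (X.basicOpen c) (hWV.trans e) =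
          Y.presheaf.map (homOfLE hDU₁).op ≫ f.appLE (Y.basicOpen a) (X.basicOpen c) hWD := by
        rw [Scheme.Hom.map_appLE]
      rw [this, CommRingCat.hom_comp] at h1
      exact RingHom.EssFiniteType.of_comp _ h1
    -- (iii)
    have : f.appLE U (X.basicOpen c) hWU =
        Y.presheaf.map (homOfLE hDU).op ≫ f.appLE (Y.basicOpen a) (X.basicOpen c) hWD := by
      rw [Scheme.Hom.map_appLE]
    rw [this, CommRingCat.hom_comp]
    exact (essFiniteType_res_basicOpen hU a).comp h2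

theorem essFiniteType_appLE_image_top {P Y' Z Q : Scheme.{u}} (h : P ⟶ Y') (U' : Y'.Opens)
    (j : Z ⟶ P) [IsOpenImmersion j] (i : Q ⟶ Y') (hi : (⊤ : Q.Opens) ≤ i ⁻¹ᵁ U')
    (k : Z ⟶ Q) (w : j ≫ h = k ≫ i)
    (hk : k.appTop.hom.EssFiniteType)
    (hi' : (i.appLE U' ⊤ hi).hom.EssFiniteType) :
    ∃ e : j ''ᵁ ⊤ ≤ h ⁻¹ᵁ U', (h.appLE U' (j ''ᵁ ⊤) e).hom.EssFiniteType := by
  have e : j ''ᵁ ⊤ ≤ h ⁻¹ᵁ U' := by
    rintro _ ⟨z, -, rfl⟩
    change h (j z) ∈ U'
    rw [← Scheme.Hom.comp_apply, w, Scheme.Hom.comp_apply]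
    exact hi (Opens.mem_top (k z))
  refine ⟨e, ?_⟩
  have e1 : (⊤ : Z.Opens) ≤ (j ≫ h) ⁻¹ᵁ U' := fun z _ => e ⟨z, trivial, rfl⟩
  have key : h.appLE U' (j ''ᵁ ⊤) e ≫ (j.appIso ⊤).hom = i.appLE U' ⊤ hi ≫ k.appTop := by
    rw [Scheme.Hom.appIso_hom', Scheme.Hom.appLE_comp_appLE]
    have : ∀ (m : Z ⟶ Y') (hm : m = k ≫ i) (em : (⊤ : Z.Opens) ≤ m ⁻¹ᵁ U'),
        m.appLE U' ⊤ em = i.appLE U' ⊤ hi ≫ k.appTop := by
      intro m hm em
      subst hm
      have := Scheme.Hom.appLE_comp_appLE k i U' ⊤ (k ⁻¹ᵁ ⊤) hi le_rfl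
      rw [Scheme.Hom.appLE_eq_app] at this
      exact this.symm
    exact this _ w _
  have : h.appLE U' (j ''ᵁ ⊤) e = (i.appLE U' ⊤ hi ≫ k.appTop) ≫ (j.appIso ⊤).inv := by
    rw [← key, Category.assoc, Iso.hom_inv_id, Category.comp_id]
  rw [this, CommRingCat.hom_comp, RingHom.EssFiniteType.respectsIso.cancel_right_isIso,
    CommRingCat.hom_comp]
  exact hi'.comp hk


theorem essFiniteType_ι_appLE_basicOpen {Y' : Scheme.{u}} {U' : Y'.Opens} (hU' : IsAffineOpen U')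
    (a : Γ(Y', U')) (hi : (⊤ : (Y'.basicOpen a).toScheme.Opens) ≤ (Y'.basicOpen a).ι ⁻¹ᵁ U') :
    ((Y'.basicOpen a).ι.appLE U' ⊤ hi).hom.EssFiniteType := by
  rw [Scheme.Opens.ι_appLE]
  exact essFiniteType_res_of_eq_basicOpen hU' a (Scheme.Opens.ι_image_top _) _

theorem baseChange_step {X Y Y' : Scheme.{u}} (f : X ⟶ Y) (g : Y' ⟶ Y)
    {U : Y.Opens} (hU : IsAffineOpen U) {V : X.Opens} (hV : IsAffineOpen V) (e : V ≤ f ⁻¹ᵁ U)
    (h : (f.appLE U V e).hom.EssFiniteType)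
    {U' : Y'.Opens} (hU' : IsAffineOpen U') (a : Γ(Y', U')) (ha : Y'.basicOpen a ≤ g ⁻¹ᵁ U) :
    ∃ W : (pullback f g).Opens, IsAffineOpen W ∧
      (W : Set ↥(pullback f g)) =
        pullback.fst f g ⁻¹' (V : Set X) ∩ pullback.snd f g ⁻¹' (Y'.basicOpen a : Set Y') ∧
      ∃ e' : W ≤ pullback.snd f g ⁻¹ᵁ U',
        ((pullback.snd f g).appLE U' W e').hom.EssFiniteType := by
  have hU'' : IsAffineOpen (Y'.basicOpen a) := hU'.basicOpen a
  have : IsAffine U.toScheme := hU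
  have : IsAffine V.toScheme := hV
  have : IsAffine (Y'.basicOpen a).toScheme := hU''
  let f₀ := f.resLE U V e
  let g₀ := g.resLE U (Y'.basicOpen a) ha
  let j : pullback f₀ g₀ ⟶ pullback f g :=
    pullback.map f₀ g₀ f g V.ι (Y'.basicOpen a).ι U.ι (Scheme.Hom.resLE_comp_ι f e)
      (Scheme.Hom.resLE_comp_ι g ha)
  have hf₀ : f₀.appTop.hom.EssFiniteType := by
    rw [RingHom.EssFiniteType.respectsIso.arrow_mk_iso_iff (arrowResLEAppIso f U V e)]
    exact h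
  have hk : (pullback.snd f₀ g₀).appTop.hom.EssFiniteType := by
    have h1 := RingHom.EssFiniteType.isStableUnderBaseChange.pullback_fst_appTop
      (P := @RingHom.EssFiniteType) RingHom.EssFiniteType.respectsIso g₀ f₀ hf₀
    have h2 : pullback.snd f₀ g₀ = (pullbackSymmetry f₀ g₀).hom ≫ pullback.fst g₀ f₀ := by simp
    have h3 : IsIso (pullbackSymmetry f₀ g₀).hom.appTop :=
      inferInstanceAs (IsIso ((pullbackSymmetry f₀ g₀).hom.app ⊤))
    rw [h2, Scheme.Hom.comp_appTop, CommRingCat.hom_comp,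
      RingHom.EssFiniteType.respectsIso.cancel_right_isIso]
    exact h1
  have hi : (⊤ : (Y'.basicOpen a).toScheme.Opens) ≤ (Y'.basicOpen a).ι ⁻¹ᵁ U' := by
    rintro z -
    exact Y'.basicOpen_le a z.2
  obtain ⟨e', he'⟩ := essFiniteType_appLE_image_top (pullback.snd f g) U' j (Y'.basicOpen a).ι hi
    (pullback.snd f₀ g₀) (pullback.lift_snd _ _ _) hk (essFiniteType_ι_appLE_basicOpen hU' a hi)
  refine ⟨j ''ᵁ ⊤, (isAffineOpen_top _).image_of_isOpenImmersion j, ?_, e', he'⟩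
  have := Scheme.Pullback.range_map f₀ g₀ f g V.ι (Y'.basicOpen a).ι U.ι
    (Scheme.Hom.resLE_comp_ι f e) (Scheme.Hom.resLE_comp_ι g ha)
  simp only [Scheme.Opens.range_ι] at this
  rw [← this]
  simp [j]

end Groth.Agent.Lib.Helper78.EssFT
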