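import Groth.Agent.S9734

/-!
# Étale neighbourhoods with prescribed finite separable residue field extension (helper78)

A repackaging of `S9734` in terms of morphisms of schemes.
-/

set_option autoImplicit false
universe u
open CategoryTheory CategoryTheory.Limits AlgebraicGeometry

namespace Groth.Agent.Lib.Helper78

theorem exists_etale_nbhd_residue (V : Scheme.{u}) (v : V) (E : Type u) [Field E]
    [Algebra (V.residueField v) E] [FiniteDimensional (V.residueField v) E]
    [Algebra.IsSeparable (V.residueField v) E] :
    ∃ (U : Scheme.{u}) (g : U ⟶ V) (u : U), Etale g ∧ g u = v ∧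
      ∃ (α : E →+* U.residueField u) (β : U.residueField u →+* E), β.comp α = RingHom.id E ∧
        U.fromSpecResidueField u ≫ g = Spec.map (CommRingCat.ofHom α) ≫
          Spec.map (CommRingCat.ofHom (algebraMap (V.residueField v) E)) ≫
            V.fromSpecResidueField v := by
  obtain ⟨U, g, u, hu, hg, he⟩ := Groth.Agent.S9734.result V v E
  subst hu
  letI : Algebra (V.residueField (g u)) (U.residueField u) :=
    ((V.residueFieldCongr rfl).inv ≫ g.residueFieldMap u).hom.toAlgebra
  obtain ⟨e⟩ := he
  refine ⟨U, g, u, hg, rfl, e.toRingEquiv.toRingHom, e.symm.toRingEquiv.toRingHom, ?_, ?_⟩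
  · ext x
    simp
  · rw [← Spec.map_comp_assoc, ← CommRingCat.ofHom_comp]
    have h1 : (e.toRingEquiv.toRingHom).comp (algebraMap (V.residueField (g u)) E) =
        (g.residueFieldMap u).hom := by
      ext x
      exact e.commutes x
    rw [h1]
    exact (Scheme.Hom.SpecMap_residueFieldMap_fromSpecResidueField g u).symm

end Groth.Agent.Lib.Helper78
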