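/-
Helper library (helper78): etale charts of the fibres of a morphism of algebraic spaces over a
point of a chart of the base.
-/
import Groth.Agent.H53.EtaleMor
import Groth.Agent.H53.DistSqC
import Groth.Agent.H52.Top
import Groth.Agent.H52.FibreProd

set_option autoImplicit false
universe u
open CategoryTheory CategoryTheory.Limits AlgebraicGeometry Opposite

namespace Groth.Agent.Lib.Helper78.FibreChart

open AlgSp

variable {S : Scheme.{u}}

/-- Let `g : A ⟶ Z` be a morphism of algebraic spaces, `c : h_W ⟶ Z` an etale chart, `a : h_U ⟶ A`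
an etale chart with a map `φ : U ⟶ W` over `g`, and `ι : K ⟶ W` a morphism of schemes. If
`Uw = U ×_W K`, the induced map from `h_{Uw}` to `A ×_Z h_K` is representable etale. -/
theorem repWith_etale_lift {A Z : Sp S} (hA : IsAlgSpace A) (hZ : IsAlgSpace Z) (g : A ⟶ Z)
    {U W K Uw : Over S} (a : (yon S).obj U ⟶ A) (ha : RepWith @Etale a)
    (c : (yon S).obj W ⟶ Z) (hc : RepWith @Etale c) (φ : U ⟶ W)
    (comm : a ≫ g = (yon S).map φ ≫ c) (ι : K ⟶ W) (iU : Uw ⟶ U) (tU : Uw ⟶ K)
    (sq : IsPullback ((yon S).map tU) ((yon S).map iU) ((yon S).map ι) ((yon S).map φ))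
    (aw : (yon S).obj Uw ⟶ pullback g ((yon S).map ι ≫ c))
    (h1 : aw ≫ pullback.fst g ((yon S).map ι ≫ c) = (yon S).map iU ≫ a)
    (h2 : aw ≫ pullback.snd g ((yon S).map ι ≫ c) = (yon S).map tU) :
    RepWith @Etale aw := by
  -- the base change of `A` to `W`
  have sqW := IsPullback.of_hasPullback g c
  have hAW : IsAlgSpace (pullback g c) :=
    Groth.Agent.H52.isAlgSpace_of_isPullback sqW hA hZ (IsAlgSpace.yon_obj W)
  have hπ₁ : RepWith @Etale (pullback.fst g c) := MorphismProperty.of_isPullback sqW.flip hc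
  let a' : (yon S).obj U ⟶ pullback g c := pullback.lift a ((yon S).map φ) comm
  have ha'1 : a' ≫ pullback.fst g c = a := pullback.lift_fst _ _ _
  have ha'2 : a' ≫ pullback.snd g c = (yon S).map φ := pullback.lift_snd _ _ _
  have ha' : RepWith @Etale a' := by
    refine Groth.Agent.H53.repWith_etale_of_comp_isEtaleMor hAW a' (pullback.fst g c)
      (Groth.Agent.H53.DistSq.isEtaleMor_of_repWith_etale _ hπ₁) ?_
    rw [ha'1]
    exact ha
  -- the fibre as a base change of `A_W`
  have sqz := IsPullback.of_hasPullback g ((yon S).map ι ≫ c)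
  let ρ : pullback g ((yon S).map ι ≫ c) ⟶ pullback g c :=
    pullback.lift (pullback.fst g ((yon S).map ι ≫ c))
      (pullback.snd g ((yon S).map ι ≫ c) ≫ (yon S).map ι)
      (by rw [Category.assoc]; exact pullback.condition)
  have hρ1 : ρ ≫ pullback.fst g c = pullback.fst g ((yon S).map ι ≫ c) := pullback.lift_fst _ _ _
  have hρ2 : ρ ≫ pullback.snd g c = pullback.snd g ((yon S).map ι ≫ c) ≫ (yon S).map ι :=
    pullback.lift_snd _ _ _
  have sqR : IsPullback ρ (pullback.snd g ((yon S).map ι ≫ c)) (pullback.snd g c)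
      ((yon S).map ι) := by
    refine IsPullback.of_right ?_ hρ2 sqW
    rw [hρ1]
    exact sqz
  -- the chart of the fibre
  have hcomm : aw ≫ ρ = (yon S).map iU ≫ a' := by
    apply pullback.hom_ext
    · rw [Category.assoc, hρ1, h1, Category.assoc, ha'1]
    · rw [Category.assoc, hρ2, ← Category.assoc, h2, Category.assoc, ha'2, sq.w]
  have sqL : IsPullback aw ((yon S).map iU) ρ a' := by
    refine IsPullback.of_right ?_ hcomm sqR.flip
    rw [h2, ha'2]
    exact sq
  exact MorphismProperty.of_isPullback (P := RepWith (S := S) @Etale) sqL.flip ha'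

end Groth.Agent.Lib.Helper78.FibreChart
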