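/-
Helper library (helper78): if the fibres `X_z ⟶ Y_z` of a morphism `f : X ⟶ Y` of algebraic
spaces over `Z` are flat, then on scheme charts `U ⟶ V ⟶ W` the scheme-theoretic fibre maps
`U_w ⟶ V_w` are flat.
-/
import Groth.Agent.Lib.Helper78.FibreChart
import Groth.Prelude.Def_MoreMor

set_option autoImplicit false
universe u
open CategoryTheory CategoryTheory.Limits AlgebraicGeometry Opposite

namespace Groth.Agent.Lib.Helper78.FibreChart

open AlgSp

variable {S : Scheme.{u}}

theorem flat_fiberMap_of_chart {X Y Z : Sp S} (hX : IsAlgSpace X) (hY : IsAlgSpace Y)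
    (hZ : IsAlgSpace Z) (f : X ⟶ Y) (h : Y ⟶ Z)
    (hfib : ∀ (K : Type u) [Field K] (sK : Spec (CommRingCat.of K) ⟶ S)
      (z : (yon S).obj (Over.mk sK) ⟶ Z) (Xz Yz : Sp S)
      (pX : Xz ⟶ X) (qX : Xz ⟶ (yon S).obj (Over.mk sK))
      (pY : Yz ⟶ Y) (qY : Yz ⟶ (yon S).obj (Over.mk sK)) (fz : Xz ⟶ Yz),
      IsPullback pX qX (f ≫ h) z → IsPullback pY qY h z → fz ≫ pY = pX ≫ f → fz ≫ qY = qX →
      LocP @Flat fz)
    {U V W : Over S} (a : (yon S).obj U ⟶ X) (ha : RepWith @Etale a)
    (b : (yon S).obj V ⟶ Y) (hb : RepWith @Etale b) (c : (yon S).obj W ⟶ Z)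
    (hc : RepWith @Etale c) (fU : U ⟶ V) (hV : V ⟶ W)
    (commU : a ≫ f = (yon S).map fU ≫ b) (commV : b ≫ h = (yon S).map hV ≫ c) (w : ↥W.left) :
    Flat (MoreMor.fiberMap fU.left hV.left w) := by
  have commW : a ≫ f ≫ h = (yon S).map (fU ≫ hV) ≫ c := by
    rw [← Category.assoc, commU, Category.assoc, commV, Functor.map_comp, Category.assoc]
  -- the residue field point
  let Kw : Over S := Over.mk (W.left.fromSpecResidueField w ≫ W.hom)
  let ι : Kw ⟶ W := Over.homMk (W.left.fromSpecResidueField w) rfl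
  -- scheme-level fibres
  have pbU : IsPullback ((fU.left ≫ hV.left).fiberToSpecResidueField w)
      ((fU.left ≫ hV.left).fiberι w) (W.left.fromSpecResidueField w) (fU ≫ hV).left :=
    (IsPullback.of_hasPullback (fU.left ≫ hV.left) (W.left.fromSpecResidueField w)).flip
  have pbV : IsPullback (hV.left.fiberToSpecResidueField w)
      (hV.left.fiberι w) (W.left.fromSpecResidueField w) hV.left :=
    (IsPullback.of_hasPullback hV.left (W.left.fromSpecResidueField w)).flip
  let UwO : Over S := Over.mk ((fU.left ≫ hV.left).fiberι w ≫ U.hom)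
  let VwO : Over S := Over.mk (hV.left.fiberι w ≫ V.hom)
  let iU : UwO ⟶ U := Over.homMk ((fU.left ≫ hV.left).fiberι w) rfl
  let iV : VwO ⟶ V := Over.homMk (hV.left.fiberι w) rfl
  let tU : UwO ⟶ Kw := Over.homMk ((fU.left ≫ hV.left).fiberToSpecResidueField w)
    (Groth.Agent.H52.over_w_of_isPullback_left (fU ≫ hV) _ _ _ pbU)
  let tV : VwO ⟶ Kw := Over.homMk (hV.left.fiberToSpecResidueField w)
    (Groth.Agent.H52.over_w_of_isPullback_left hV _ _ _ pbV)
  have sqU : IsPullback ((yon S).map tU) ((yon S).map iU) ((yon S).map ι)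
      ((yon S).map (fU ≫ hV)) :=
    (Groth.Agent.H52.isPullback_over_of_left (fU ≫ hV) _ _ _ pbU).map (yon S)
  have sqV : IsPullback ((yon S).map tV) ((yon S).map iV) ((yon S).map ι) ((yon S).map hV) :=
    (Groth.Agent.H52.isPullback_over_of_left hV _ _ _ pbV).map (yon S)
  -- the map of fibres over `S`
  have hk : MoreMor.fiberMap fU.left hV.left w ≫ (hV.left.fiberι w ≫ V.hom) =
      (fU.left ≫ hV.left).fiberι w ≫ U.hom := by
    have e1 : MoreMor.fiberMap fU.left hV.left w ≫ hV.left.fiberι w =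
        (fU.left ≫ hV.left).fiberι w ≫ fU.left := pullback.lift_fst _ _ _
    rw [← Category.assoc, e1, Category.assoc, Over.w fU]
  let kO : UwO ⟶ VwO := Over.homMk (MoreMor.fiberMap fU.left hV.left w) hk
  -- sheaf-level fibres
  let z : (yon S).obj Kw ⟶ Z := (yon S).map ι ≫ c
  let fz : pullback (f ≫ h) z ⟶ pullback h z :=
    pullback.lift (pullback.fst (f ≫ h) z ≫ f) (pullback.snd (f ≫ h) z)
      (by rw [Category.assoc]; exact pullback.condition)
  have hfz1 : fz ≫ pullback.fst h z = pullback.fst (f ≫ h) z ≫ f := pullback.lift_fst _ _ _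
  have hfz2 : fz ≫ pullback.snd h z = pullback.snd (f ≫ h) z := pullback.lift_snd _ _ _
  have hflat : LocP @Flat fz :=
    hfib (↥(W.left.residueField w)) (W.left.fromSpecResidueField w ≫ W.hom) z _ _ _ _ _ _ fz
      (IsPullback.of_hasPullback (f ≫ h) z) (IsPullback.of_hasPullback h z) hfz1 hfz2
  -- the charts of the fibres
  have hcU : ((yon S).map iU ≫ a) ≫ (f ≫ h) = (yon S).map tU ≫ z := by
    rw [Category.assoc, commW, ← Category.assoc, ← sqU.w, Category.assoc]
  let aw : (yon S).obj UwO ⟶ pullback (f ≫ h) z := pullback.lift _ _ hcU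
  have haw1 : aw ≫ pullback.fst (f ≫ h) z = (yon S).map iU ≫ a := pullback.lift_fst _ _ _
  have haw2 : aw ≫ pullback.snd (f ≫ h) z = (yon S).map tU := pullback.lift_snd _ _ _
  have hcV : ((yon S).map iV ≫ b) ≫ h = (yon S).map tV ≫ z := by
    rw [Category.assoc, commV, ← Category.assoc, ← sqV.w, Category.assoc]
  let bw : (yon S).obj VwO ⟶ pullback h z := pullback.lift _ _ hcV
  have hbw1 : bw ≫ pullback.fst h z = (yon S).map iV ≫ b := pullback.lift_fst _ _ _
  have hbw2 : bw ≫ pullback.snd h z = (yon S).map tV := pullback.lift_snd _ _ _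
  have hawe : RepWith @Etale aw :=
    repWith_etale_lift hX hZ (f ≫ h) a ha c hc (fU ≫ hV) commW ι iU tU sqU aw haw1 haw2
  have hbwe : RepWith @Etale bw :=
    repWith_etale_lift hY hZ h b hb c hc hV commV ι iV tV sqV bw hbw1 hbw2
  -- compatibility
  have hkO1 : kO ≫ iV = iU ≫ fU := by
    ext
    exact pullback.lift_fst _ _ _
  have hkO2 : kO ≫ tV = tU := by
    ext
    exact pullback.lift_snd _ _ _
  have comm : aw ≫ fz = (yon S).map kO ≫ bw := by
    apply pullback.hom_ext
    · rw [Category.assoc, hfz1, ← Category.assoc, haw1, Category.assoc, commU, Category.assoc, hbw1,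
        ← Category.assoc, ← Category.assoc, ← Functor.map_comp, ← Functor.map_comp, hkO1]
    · rw [Category.assoc, hfz2, haw2, Category.assoc, hbw2, ← Functor.map_comp, hkO2]
  exact hflat aw bw kO hawe hbwe comm

end Groth.Agent.Lib.Helper78.FibreChart
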