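import Mathlib
import Groth.Prelude.Def_MoreMor
import Groth.Agent.Lib.Helper23.FibreStalkMap
import Groth.Agent.S0392

/-!
# Critère de platitude par fibres, locally Noetherian form (structure sheaf)
-/

set_option autoImplicit false
universe u

namespace Groth.Agent.Lib.Helper78.FibreCritNoeth

open AlgebraicGeometry CategoryTheory Limits IsLocalRing TensorProduct
open Groth.Agent.Lib.Helper23.FibreStalkMap

section Ring

variable {A B C : Type u} [CommRing A] [CommRing B] [CommRing C]
  [IsLocalRing A] [IsLocalRing B] [IsLocalRing C]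
  [IsNoetherianRing A] [IsNoetherianRing B] [IsNoetherianRing C]

/-- Ring-level fibre criterion for local homomorphisms of Noetherian local rings,
in terms of ring homomorphisms. -/
theorem fibre_criterion_ringHom_noeth (α : A →+* B) (β : B →+* C)
    [IsLocalHom α] [IsLocalHom β] (h1 : (β.comp α).Flat)
    (h2 : (Ideal.quotientMap ((Ideal.map α (maximalIdeal A)).map β) β
      Ideal.le_comap_map).Flat) :
    α.Flat ∧ β.Flat := by
  letI algAB : Algebra A B := α.toAlgebra
  letI algBC : Algebra B C := β.toAlgebra
  letI algAC : Algebra A C := (β.comp α).toAlgebra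
  haveI : IsScalarTower A B C := IsScalarTower.of_algebraMap_eq' rfl
  haveI : IsLocalHom (algebraMap A B) := ‹IsLocalHom α›
  haveI : IsLocalHom (algebraMap B C) := ‹IsLocalHom β›
  haveI : Module.Flat A C := h1
  have h : Module.Flat (B ⧸ ((maximalIdeal A).map (algebraMap A B)))
      ((B ⧸ ((maximalIdeal A).map (algebraMap A B))) ⊗[B] C) := by
    have heq : (Ideal.quotientMap (((maximalIdeal A).map (algebraMap A B)).map β) β
          Ideal.le_comap_map).toAlgebra =
        (Ideal.Quotient.algebraQuotientMapQuotient :
          Algebra (B ⧸ ((maximalIdeal A).map (algebraMap A B)))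
            (C ⧸ ((maximalIdeal A).map (algebraMap A B)).map (algebraMap B C))) :=
      Algebra.algebra_ext _ _ (fun r => rfl)
    have h2' : Module.Flat (B ⧸ ((maximalIdeal A).map (algebraMap A B)))
        (C ⧸ ((maximalIdeal A).map (algebraMap A B)).map (algebraMap B C)) := by
      have h3 := h2
      rw [RingHom.Flat] at h3
      rw [← heq]
      exact h3
    exact Module.Flat.of_linearEquiv
      (Algebra.TensorProduct.quotIdealMapEquivQuotTensor C
        ((maximalIdeal A).map (algebraMap A B))).symm.toLinearEquiv
  exact Groth.Agent.S0392.result (R := A) (S := B) (S' := C) (M := C) h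

end Ring

section Scheme

variable {X Y S : Scheme.{u}}

/-- Pointwise fibre criterion for locally Noetherian schemes. -/
theorem critere_noeth (f : X ⟶ Y) (g : Y ⟶ S) [IsLocallyNoetherian X] [IsLocallyNoetherian Y]
    [IsLocallyNoetherian S] (x : X) (h1 : ((f ≫ g).stalkMap x).hom.Flat)
    (h2 : ((MoreMor.fiberMap f g (g (f x))).stalkMap ((f ≫ g).asFiber x)).hom.Flat) :
    (g.stalkMap (f x)).hom.Flat ∧ (f.stalkMap x).hom.Flat := by
  rw [fiberMap_stalkMap_asFiber_flat_iff] at h2
  have hcomp : ((f ≫ g).stalkMap x).hom = (f.stalkMap x).hom.comp (g.stalkMap (f x)).hom := by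
    rw [Scheme.Hom.stalkMap_comp]
    rfl
  rw [hcomp] at h1
  exact fibre_criterion_ringHom_noeth (g.stalkMap (f x)).hom (f.stalkMap x).hom h1 h2

end Scheme

end Groth.Agent.Lib.Helper78.FibreCritNoeth
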