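import Groth.Agent.Lib.Helper55.ChevalleyBound
import Groth.Agent.Lib.Helper55.FlatDim
import Groth.Agent.Lib.Helper55.FiberCompDim
import Groth.Agent.Lib.Helper55.FiberTrdeg
import Groth.Agent.Lib.Helper55.DimFormulaIrred
import Groth.Agent.S4644
import Groth.Agent.S2395

/-! Morphisms of schemes of finite type over a field all of whose closed fibres are irreducible of
the same dimension (helper78). -/

set_option autoImplicit false

universe u

namespace Groth.Agent.Lib.Helper78.FibreIrred

open AlgebraicGeometry CategoryTheory Topology Groth.Agent.Lib.Helper55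

section top

theorem irreducibleSpace_of_homeomorph {A B : Type*} [TopologicalSpace A] [TopologicalSpace B]
    (h : A ≃ₜ B) [IrreducibleSpace B] : IrreducibleSpace A := by
  rw [irreducibleSpace_def]
  have := (IrreducibleSpace.isIrreducible_univ B).image h.symm h.symm.continuous.continuousOn
  rwa [Set.image_univ, Set.range_eq_univ.mpr h.symm.surjective] at this

end top

section general

variable {X Y : Scheme.{u}} (f : X ⟶ Y)

/-- The scheme-theoretic fibre and the set-theoretic fibre have the same dimension. -/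
theorem dim_fiber_eq (y : Y) :
    topologicalKrullDim ↥(f.fiber y) = topologicalKrullDim ↥(f ⁻¹' {y}) :=
  IsHomeomorph.topologicalKrullDim_eq _ (f.fiberHomeo y).isHomeomorph

variable [LocallyOfFiniteType f]

/-- If the fibre through `x` is irreducible of dimension `d`, the local fibre dimension at `x`
is `d`. -/
theorem fibreDimAt_eq_of_irreducible (x : X) (d : WithBot ℕ∞)
    (hirr : IsIrreducible (f ⁻¹' {f x}))
    (hdim : topologicalKrullDim ↥(f ⁻¹' {f x}) = d) : FlatMor.fibreDimAt f x = d := by
  have hI : IrreducibleSpace ↥(f ⁻¹' {f x}) := Subtype.irreducibleSpace hirr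
  have : IrreducibleSpace ↥(f.fiber (f x)) := irreducibleSpace_of_homeomorph (f.fiberHomeo (f x))
  have hlft : LocallyOfFiniteType (f.fiberToSpecResidueField (f x)) :=
    MorphismProperty.pullback_snd (P := @LocallyOfFiniteType) _ _ ‹_›
  have h1 := localDim_eq_topologicalKrullDim_of_irreducibleSpace (k := ↑(Y.residueField (f x)))
    (f.fiberToSpecResidueField (f x)) (f.asFiber x)
  unfold FlatMor.fibreDimAt
  rw [h1, dim_fiber_eq, hdim]

/-- If the local fibre dimension is `d` at all closed points of a Jacobson scheme, it is at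
least `d` everywhere. -/
theorem le_fibreDimAt_of_closedPoints [JacobsonSpace X] (d : ℕ)
    (h : ∀ x : X, IsClosed ({x} : Set X) → FlatMor.fibreDimAt f x = d) (x : X) :
    (d : WithBot ℕ∞) ≤ FlatMor.fibreDimAt f x := by
  by_contra hlt
  rw [not_le] at hlt
  obtain ⟨k, hk, hkd⟩ := exists_nat_eq_of_nonneg_of_lt _ d (localDim_nonneg _) hlt
  have hopen := isOpen_setOf_fibreDimAt_le f k
  obtain ⟨x', hx'U, hx'c⟩ := nonempty_inter_closedPoints (X := X)
    (Z := {x : X | FlatMor.fibreDimAt f x ≤ k}) ⟨x, hk.le⟩ hopen.isLocallyClosed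
  have h1 : FlatMor.fibreDimAt f x' ≤ k := hx'U
  rw [h x' hx'c] at h1
  have : d ≤ k := by exact_mod_cast h1
  omega

/-- If the local fibre dimension is `d` at all closed points of a Jacobson scheme, it is
`d` everywhere. -/
theorem fibreDimAt_eq_of_closedPoints [JacobsonSpace X] (d : ℕ)
    (h : ∀ x : X, IsClosed ({x} : Set X) → FlatMor.fibreDimAt f x = d) (x : X) :
    FlatMor.fibreDimAt f x = d := by
  refine le_antisymm ?_ (le_fibreDimAt_of_closedPoints f d h x)
  obtain ⟨x', hx'1, hx'2⟩ := nonempty_inter_closedPoints (X := X)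
    (Z := closure {x}) ⟨x, subset_closure rfl⟩ isClosed_closure.isLocallyClosed
  rw [← h x' hx'2]
  exact fibreDimAt_le_of_specializes' f x x' (specializes_iff_mem_closure.mpr hx'1)

end general

section overField

variable {k : Type u} [Field k] {X Y : Scheme.{u}} (qY : Y ⟶ Spec (CommRingCat.of k))
  [LocallyOfFiniteType qY] (f : X ⟶ Y) [LocallyOfFiniteType f]

include qY in
/-- If `ξ` is the generic point of an irreducible component and the local fibre dimension at `ξ`
is `d`, then `dim cl{ξ} = dim cl{f ξ} + d`. -/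
theorem dim_closure_eq_of_fibreDimAt (d : ℕ) (ξ : X)
    (hξ : closure ({ξ} : Set X) ∈ irreducibleComponents (X : Type u))
    (hd : FlatMor.fibreDimAt f ξ = d) :
    ∃ a : ℕ, topologicalKrullDim ↥(closure ({f ξ} : Set Y)) = a ∧
      topologicalKrullDim ↥(closure ({ξ} : Set X)) = ((a + d : ℕ) : WithBot ℕ∞) := by
  obtain ⟨a, b, ha, hb, hab⟩ := exists_dim_closure_eq_add qY f ξ
  obtain ⟨n, hn1, hn2⟩ := exists_dim_closure_asFiber_eq_trdeg f ξ
  obtain ⟨n', hn'1, hn'2⟩ := fibreDimAt_eq_stalk_add_trdeg f ξ
  have hbn : b = n := by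
    have := hb.symm.trans hn1
    exact_mod_cast this
  have hnn' : n' = n := by
    have := hn'1.symm.trans hn2
    exact_mod_cast this
  have h0 := ringKrullDim_stalk_eq_zero_of_closure_mem_irreducibleComponents ξ hξ
  have hq : ringKrullDim (X.presheaf.stalk ξ ⧸ Ideal.map (f.stalkMap ξ).hom
      (IsLocalRing.maximalIdeal (Y.presheaf.stalk (f ξ)))) ≤ 0 :=
    h0 ▸ ringKrullDim_quotient_le _
  have h1 : FlatMor.fibreDimAt f ξ ≤ n := by
    rw [hn'2, hnn']
    calc _ ≤ 0 + (n : WithBot ℕ∞) := add_le_add_left hq _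
      _ = n := zero_add _
  have h2 := trdeg_le_fibreDimAt f ξ n hn2
  have hnd : n = d := by
    rw [hd] at h1 h2
    have h3 : d ≤ n := by exact_mod_cast h1
    have h4 : n ≤ d := by exact_mod_cast h2
    omega
  refine ⟨a, ha, ?_⟩
  rw [hab, hbn, hnd]

/-- Every closed subset of a scheme is the range of a closed immersion. -/
theorem exists_isClosedImmersion_range_eq {X : Scheme.{u}} (Z : Set X) (hZ : IsClosed Z) :
    ∃ (Z' : Scheme.{u}) (ι : Z' ⟶ X), IsClosedImmersion ι ∧ Set.range ι = Z := by
  refine ⟨_, (Scheme.IdealSheafData.vanishingIdeal ⟨Z, hZ⟩).subschemeι, inferInstance, ?_⟩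
  rw [Scheme.IdealSheafData.range_subschemeι, Scheme.IdealSheafData.coe_support_vanishingIdeal]
  rfl

omit [LocallyOfFiniteType f] in
theorem localDim_le_topologicalKrullDim {T : Type*} [TopologicalSpace T] (t : T) :
    FlatMor.localDim T t ≤ topologicalKrullDim T := by
  refine le_trans (iInf_le _ (⟨⊤, trivial⟩ : {U : TopologicalSpace.Opens T // t ∈ U})) ?_
  exact topologicalKrullDim_subspace_le T _

include qY in
/-- Lower bound for the dimension of the fibres of the restriction of `f` to an irreducible closed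
subset `cl{ξ}` with `dim cl{ξ} = dim cl{f ξ} + m`. -/
theorem le_dim_fiber_inter_closure (ξ : X) (a m : ℕ)
    (ha : topologicalKrullDim ↥(closure ({f ξ} : Set Y)) = a)
    (ham : topologicalKrullDim ↥(closure ({ξ} : Set X)) = ((a + m : ℕ) : WithBot ℕ∞))
    (x : X) (hx : x ∈ closure ({ξ} : Set X)) :
    (m : WithBot ℕ∞) ≤ topologicalKrullDim ↥(f ⁻¹' {f x} ∩ closure ({ξ} : Set X)) := by
  obtain ⟨Z', ι, hι, hrange⟩ :=
    exists_isClosedImmersion_range_eq (closure ({ξ} : Set X)) isClosed_closure
  have hemb : IsClosedEmbedding ι := ι.isClosedEmbedding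
  have hirr : IrreducibleSpace Z' := by
    have h1 : IsIrreducible (Set.range ι) := hrange ▸ isIrreducible_singleton.closure
    have h2 : IrreducibleSpace ↥(Set.range ι) := Subtype.irreducibleSpace h1
    exact irreducibleSpace_of_homeomorph hemb.isEmbedding.toHomeomorph
  set η := genericPoint Z' with hηdef
  have hη : ι η = ξ := by
    have h1 : IsGenericPoint (ι η) (closure (ι '' Set.univ)) :=
      (genericPoint_spec Z').image ι.continuous
    rw [Set.image_univ, hrange, closure_closure] at h1
    exact h1.eq rfl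
  obtain ⟨z, hz⟩ : ∃ z, ι z = x := by
    rw [← hrange] at hx
    exact hx
  have hdimη : topologicalKrullDim ↥(closure ({η} : Set Z')) = ((a + m : ℕ) : WithBot ℕ∞) := by
    rw [← topologicalKrullDim_closure_inter_range_eq ι hemb.isEmbedding η, hη, hrange,
      Set.inter_self, ham]
  have hgη : (ι ≫ f) η = f ξ := by rw [Scheme.Hom.comp_apply, hη]
  obtain ⟨a', b', ha', hb', hab'⟩ := exists_dim_closure_eq_add qY (ι ≫ f) η
  obtain ⟨n, hn1, hn2⟩ := exists_dim_closure_asFiber_eq_trdeg (ι ≫ f) η
  have hb'n : b' = n := by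
    have := hb'.symm.trans hn1
    exact_mod_cast this
  have haa' : a' = a := by
    rw [hgη, ha] at ha'
    exact_mod_cast ha'.symm
  have hmn : m = n := by
    rw [hdimη, haa', hb'n] at hab'
    have : a + m = a + n := by exact_mod_cast hab'
    omega
  have h1 := trdeg_le_fibreDimAt_of_specializes (ι ≫ f) η z (genericPoint_specializes z) n hn2
  rw [hmn]
  refine h1.trans ?_
  refine (localDim_le_topologicalKrullDim _).trans ?_
  rw [dim_fiber_eq]
  have hgz : (ι ≫ f) z = f x := by rw [Scheme.Hom.comp_apply, hz]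
  let φ : ↥((ι ≫ f) ⁻¹' {(ι ≫ f) z}) → ↥(f ⁻¹' {f x} ∩ closure ({ξ} : Set X)) := fun w =>
    ⟨ι w.1, by
      have h2 : (ι ≫ f) w.1 = (ι ≫ f) z := w.2
      show f (ι w.1) = f x
      rw [← Scheme.Hom.comp_apply]
      exact h2.trans hgz, hrange ▸ ⟨w.1, rfl⟩⟩
  have hφ : IsInducing φ := by
    refine IsInducing.of_comp ?_ continuous_subtype_val ?_
    · exact (ι.continuous.comp continuous_subtype_val).subtype_mk _
    · exact hemb.isEmbedding.isInducing.comp IsInducing.subtypeVal
  exact hφ.topologicalKrullDim_le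

end overField

end Groth.Agent.Lib.Helper78.FibreIrred
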