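import Groth.Agent.Lib.Helper78.FibreIrred

/-! Morphisms of schemes of finite type over a field all of whose closed fibres are irreducible of
the same dimension: the main statements (helper78). -/

set_option autoImplicit false

universe u

namespace Groth.Agent.Lib.Helper78.FibreIrred

open AlgebraicGeometry CategoryTheory Topology TopologicalSpace Groth.Agent.Lib.Helper55

theorem natCast_ne_top (d : ℕ) : ((d : ℕ) : WithBot ℕ∞) ≠ ⊤ := by
  intro h
  have : ((d : ℕ∞) : WithBot ℕ∞) = ((⊤ : ℕ∞) : WithBot ℕ∞) := h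
  exact ENat.natCast_ne_top d (WithBot.coe_injective this)

section main

variable {k : Type u} [Field k] {X Y : Scheme.{u}} (qX : X ⟶ Spec (CommRingCat.of k))
  (qY : Y ⟶ Spec (CommRingCat.of k)) [LocallyOfFiniteType qX] [LocallyOfFiniteType qY]
  (f : X ⟶ Y) (hf : f ≫ qY = qX) (d : ℕ)
  (hirr : ∀ y : ↥Y, IsClosed ({y} : Set ↥Y) → IsIrreducible (f ⁻¹' {y}))
  (hdim : ∀ y : ↥Y, IsClosed ({y} : Set ↥Y) → topologicalKrullDim ↥(f ⁻¹' {y}) = d)

omit [LocallyOfFiniteType qY] in
include hf in
theorem lft_of_comp_eq : LocallyOfFiniteType f := by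
  subst hf
  exact locallyOfFiniteType_of_comp f qY

include qX qY hf in
theorem isClosed_singleton_map (x : X) (hx : IsClosed ({x} : Set X)) :
    IsClosed ({f x} : Set Y) := by
  have := lft_of_comp_eq qX qY f hf
  have : JacobsonSpace Y := LocallyOfFiniteType.jacobsonSpace qY
  exact f.closePoints_subset_preimage_closedPoints hx

include qX qY hf hirr hdim in
theorem fibreDimAt_eq (x : X) : FlatMor.fibreDimAt f x = d := by
  have := lft_of_comp_eq qX qY f hf
  have : JacobsonSpace X := LocallyOfFiniteType.jacobsonSpace qX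
  refine fibreDimAt_eq_of_closedPoints f d (fun x hx => ?_) x
  have hy := isClosed_singleton_map qX qY f hf x hx
  exact fibreDimAt_eq_of_irreducible f x d (hirr _ hy) (hdim _ hy)

include qX qY hf hirr hdim in
/-- Generic point description of a component and its dimension. -/
theorem exists_genericPoint_dim (Z : Set X) (hZ : Z ∈ irreducibleComponents (X : Type u)) :
    ∃ (ξ : X) (a : ℕ), closure ({ξ} : Set X) = Z ∧
      topologicalKrullDim ↥(closure ({f ξ} : Set Y)) = a ∧
      topologicalKrullDim ↥(closure ({ξ} : Set X)) = ((a + d : ℕ) : WithBot ℕ∞) := by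
  have := lft_of_comp_eq qX qY f hf
  have hcl : IsClosed Z := isClosed_of_mem_irreducibleComponents Z hZ
  have hgen : closure {hZ.1.genericPoint} = Z := (hZ.1.isGenericPoint_genericPoint hcl).def
  set ξ := hZ.1.genericPoint with hξ
  obtain ⟨a, ha1, ha2⟩ := dim_closure_eq_of_fibreDimAt qY f d ξ (hgen ▸ hZ)
    (fibreDimAt_eq qX qY f hf d hirr hdim ξ)
  exact ⟨ξ, a, hgen, ha1, ha2⟩

omit [LocallyOfFiniteType qX] [LocallyOfFiniteType qY] in
theorem closure_image_closure_singleton (ξ : X) :
    closure (f '' closure ({ξ} : Set X)) = closure ({f ξ} : Set Y) := by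
  rw [closure_image_closure f.continuous, Set.image_singleton]

include qX qY hf hirr hdim in
/-- (ii-b): the dimension of a component. -/
theorem dim_component (Z : Set X) (hZ : Z ∈ irreducibleComponents (X : Type u)) :
    topologicalKrullDim ↥Z = d + topologicalKrullDim ↥(closure (f '' Z)) := by
  obtain ⟨ξ, a, hξZ, ha, had⟩ := exists_genericPoint_dim qX qY f hf d hirr hdim Z hZ
  rw [← hξZ, closure_image_closure_singleton, ha, had]
  push_cast
  exact add_comm _ _

include qX qY hf hirr hdim in
/-- (ii-a): a component meeting a closed fibre contains it. -/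
theorem fibre_subset_component (Z : Set X) (hZ : Z ∈ irreducibleComponents (X : Type u))
    (y : Y) (hy : IsClosed ({y} : Set Y)) (hne : (f ⁻¹' {y} ∩ Z).Nonempty) :
    f ⁻¹' {y} ⊆ Z := by
  have := lft_of_comp_eq qX qY f hf
  obtain ⟨ξ, a, hξZ, ha, had⟩ := exists_genericPoint_dim qX qY f hf d hirr hdim Z hZ
  obtain ⟨x, hxy, hxZ⟩ := hne
  have hxy' : f x = y := hxy
  have h1 := le_dim_fiber_inter_closure qY f ξ a d ha had x (hξZ ▸ hxZ)
  rw [hxy', hξZ] at h1
  have hFcl : IsClosed (f ⁻¹' {y}) := hy.preimage f.continuous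
  have hZcl : IsClosed Z := isClosed_of_mem_irreducibleComponents Z hZ
  by_contra hns
  have hne' : f ⁻¹' {y} ∩ Z ≠ f ⁻¹' {y} := fun h => hns (h ▸ Set.inter_subset_right)
  have h2 := Groth.Agent.S4644.topologicalKrullDim_lt_of_ssubset (f ⁻¹' {y} ∩ Z) (f ⁻¹' {y})
    (hFcl.inter hZcl) (hirr y hy) Set.inter_subset_left hne' (by
      rw [hdim y hy]
      exact natCast_ne_top d)
  rw [hdim y hy] at h2
  exact absurd h1 (not_le.mpr h2)

end main

section components

variable {T : Type*} [TopologicalSpace T]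

/-- The complement of the union of the irreducible components other than `Z`. -/
def compInterior (Z : Set T) : Set T := (⋃₀ (irreducibleComponents T \ {Z}))ᶜ

theorem isOpen_compInterior [NoetherianSpace T] (Z : Set T) : IsOpen (compInterior Z) := by
  refine isOpen_compl_iff.mpr ?_
  rw [Set.sUnion_eq_biUnion]
  refine Set.Finite.isClosed_biUnion
    (NoetherianSpace.finite_irreducibleComponents.subset Set.sdiff_subset) ?_
  intro W hW
  exact isClosed_of_mem_irreducibleComponents W hW.1

theorem compInterior_subset (Z : Set T) : compInterior Z ⊆ Z := by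
  intro x hx
  by_contra hxZ
  apply hx
  refine ⟨irreducibleComponent x, ⟨irreducibleComponent_mem_irreducibleComponents x, ?_⟩,
    mem_irreducibleComponent⟩
  intro h
  have h' : irreducibleComponent x = Z := h
  exact hxZ (h' ▸ mem_irreducibleComponent)

theorem mem_compInterior_of_closure_eq (Z : Set T) (hZ : Z ∈ irreducibleComponents T) (ξ : T)
    (hξ : closure {ξ} = Z) : ξ ∈ compInterior Z := by
  rintro ⟨W, ⟨hW, hWZ⟩, hξW⟩
  apply hWZ
  have hWcl : IsClosed W := isClosed_of_mem_irreducibleComponents W hW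
  have h1 : Z ⊆ W := by
    rw [← hξ]
    exact hWcl.closure_subset_iff.mpr (Set.singleton_subset_iff.mpr hξW)
  exact subset_antisymm (hZ.2 hW.1 h1) h1

theorem eq_of_mem_compInterior (Z W : Set T) (hW : W ∈ irreducibleComponents T) (x : T)
    (hx : x ∈ compInterior Z) (hxW : x ∈ W) : W = Z := by
  by_contra hne
  exact hx ⟨W, ⟨hW, hne⟩, hxW⟩

theorem irreducibleSpace_of_component_eq_univ (Z : Set T) (hZ : Z ∈ irreducibleComponents T)
    (h : Z = Set.univ) : IrreducibleSpace T := by
  rw [irreducibleSpace_def, Set.top_eq_univ, ← h]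
  exact hZ.1

theorem dim_univ : topologicalKrullDim ↥(Set.univ : Set T) = topologicalKrullDim T :=
  IsHomeomorph.topologicalKrullDim_eq _ (Homeomorph.Set.univ T).isHomeomorph

end components

section unique

variable {k : Type u} [Field k] {X Y : Scheme.{u}} (qX : X ⟶ Spec (CommRingCat.of k))
  (qY : Y ⟶ Spec (CommRingCat.of k)) [LocallyOfFiniteType qX] [QuasiCompact qX]
  [LocallyOfFiniteType qY] [QuasiCompact qY]
  (f : X ⟶ Y) (hf : f ≫ qY = qX) [IrreducibleSpace ↥Y] (d : ℕ)
  (hirr : ∀ y : ↥Y, IsClosed ({y} : Set ↥Y) → IsIrreducible (f ⁻¹' {y}))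
  (hdim : ∀ y : ↥Y, IsClosed ({y} : Set ↥Y) → topologicalKrullDim ↥(f ⁻¹' {y}) = d)

omit [LocallyOfFiniteType qY] [QuasiCompact qY] [IrreducibleSpace ↥Y] in
include qX in
theorem isNoetherian_of_finiteType : IsNoetherian X := by
  have : IsLocallyNoetherian X := LocallyOfFiniteType.isLocallyNoetherian qX
  have : CompactSpace X := HasAffineProperty.iff_of_isAffine.mp ‹QuasiCompact qX›
  exact {}

/-- A dense image of an open subset under a morphism of finite type between Noetherian schemes
with irreducible target contains a nonempty open subset. -/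
theorem exists_open_subset_image {X Y : Scheme.{u}} [IsNoetherian X] [IsNoetherian Y]
    [IrreducibleSpace Y] (f : X ⟶ Y) [LocallyOfFiniteType f] (U : Set X) (hU : IsOpen U)
    (hd : Dense (f '' U)) : ∃ V : Set Y, IsOpen V ∧ V.Nonempty ∧ V ⊆ f '' U := by
  have hUc : IsConstructible U :=
    (NoetherianSpace.isCompact U).isConstructible hU
  have : IsConstructible (f '' U) := f.isConstructible_image hUc
  exact (Groth.Agent.S2395.result this).mp hd

include qY hirr in
omit [LocallyOfFiniteType qX] [IrreducibleSpace ↥Y] [QuasiCompact qX] [QuasiCompact qY] in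
theorem denseRange_of_fibres : DenseRange f := by
  have : JacobsonSpace Y := LocallyOfFiniteType.jacobsonSpace qY
  have h1 : closedPoints Y ⊆ Set.range f := by
    intro y hy
    obtain ⟨x, hx⟩ := (hirr y hy).1
    exact ⟨x, hx⟩
  have h2 : closure (closedPoints Y) = Set.univ := closure_closedPoints
  rw [DenseRange, dense_iff_closure_eq, ← Set.univ_subset_iff, ← h2]
  exact closure_mono h1

include qX qY hf hirr in
/-- (i), existence. -/
theorem exists_dominant_component :
    ∃ Z : Set X, Z ∈ irreducibleComponents (X : Type u) ∧ Dense (f '' Z) := by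
  have := lft_of_comp_eq qX qY f hf
  have := isNoetherian_of_finiteType qX
  have := isNoetherian_of_finiteType qY
  obtain ⟨V, hVo, hVne, hVsub⟩ := exists_open_subset_image f Set.univ isOpen_univ (by
    rw [Set.image_univ]
    exact denseRange_of_fibres qY f hirr)
  have hη : genericPoint Y ∈ V := ((genericPoint_spec Y).mem_open_set_iff hVo).mpr (by
    rw [Set.univ_inter]; exact hVne)
  obtain ⟨x, -, hx⟩ := hVsub hη
  refine ⟨irreducibleComponent x, irreducibleComponent_mem_irreducibleComponents x, ?_⟩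
  rw [dense_iff_closure_eq, ← Set.univ_subset_iff, ← (genericPoint_spec Y).def]
  refine closure_mono ?_
  rw [Set.singleton_subset_iff]
  exact ⟨x, mem_irreducibleComponent, hx⟩

include qX qY hf hirr hdim in
/-- (i), uniqueness. -/
theorem dominant_component_unique (Z₁ Z₂ : Set X)
    (hZ₁ : Z₁ ∈ irreducibleComponents (X : Type u)) (hd₁ : Dense (f '' Z₁))
    (hZ₂ : Z₂ ∈ irreducibleComponents (X : Type u)) (hd₂ : Dense (f '' Z₂)) : Z₁ = Z₂ := by
  have := lft_of_comp_eq qX qY f hf
  have := isNoetherian_of_finiteType qX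
  have := isNoetherian_of_finiteType qY
  have : JacobsonSpace Y := LocallyOfFiniteType.jacobsonSpace qY
  have key : ∀ Z : Set X, Z ∈ irreducibleComponents (X : Type u) → Dense (f '' Z) →
      ∃ V : Set Y, IsOpen V ∧ V.Nonempty ∧ V ⊆ f '' compInterior Z := by
    intro Z hZ hd
    have hcl : IsClosed Z := isClosed_of_mem_irreducibleComponents Z hZ
    have hgen : closure {hZ.1.genericPoint} = Z := (hZ.1.isGenericPoint_genericPoint hcl).def
    set ξ := hZ.1.genericPoint with hξ
    refine exists_open_subset_image f _ (isOpen_compInterior Z) ?_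
    have h1 : closure ({f ξ} : Set Y) = Set.univ := by
      rw [← closure_image_closure_singleton, hgen]
      exact hd.closure_eq
    rw [dense_iff_closure_eq, ← Set.univ_subset_iff, ← h1]
    refine closure_mono ?_
    rw [Set.singleton_subset_iff]
    exact ⟨ξ, mem_compInterior_of_closure_eq Z hZ ξ hgen, rfl⟩
  obtain ⟨V₁, hV₁o, hV₁ne, hV₁⟩ := key Z₁ hZ₁ hd₁
  obtain ⟨V₂, hV₂o, hV₂ne, hV₂⟩ := key Z₂ hZ₂ hd₂
  have hne : (V₁ ∩ V₂).Nonempty := nonempty_preirreducible_inter hV₁o hV₂o hV₁ne hV₂ne
  obtain ⟨y, ⟨hy₁, hy₂⟩, hyc⟩ := nonempty_inter_closedPoints hne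
    (hV₁o.inter hV₂o).isLocallyClosed
  obtain ⟨x₁, hx₁, hx₁y⟩ := hV₁ hy₁
  obtain ⟨x₂, hx₂, hx₂y⟩ := hV₂ hy₂
  have hsub := fibre_subset_component qX qY f hf d hirr hdim Z₁ hZ₁ y hyc
    ⟨x₁, hx₁y, compInterior_subset Z₁ hx₁⟩
  exact eq_of_mem_compInterior Z₂ Z₁ hZ₁ x₂ hx₂ (hsub hx₂y)

omit [QuasiCompact qX] [QuasiCompact qY] [LocallyOfFiniteType qX] in
include qY in
theorem dim_ne_top_of_irreducible : topologicalKrullDim ↥Y ≠ ⊤ := by
  let _ : Y.Over (Spec (CommRingCat.of k)) := ⟨qY⟩
  have hq : LocallyOfFiniteType (Y ↘ Spec (CommRingCat.of k)) := ‹LocallyOfFiniteType qY›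
  obtain ⟨s, hs, -⟩ := exists_dim_closure_eq_trdeg k Y (genericPoint Y)
  rw [(genericPoint_spec Y).def, dim_univ] at hs
  rw [hs]
  exact natCast_ne_top s

include qX qY hf hirr hdim in
/-- The case of a closed map. -/
theorem closedMap_case (hcl : IsClosedMap f) :
    IrreducibleSpace ↥X ∧ topologicalKrullDim ↥X = d + topologicalKrullDim ↥Y := by
  have := lft_of_comp_eq qX qY f hf
  have : JacobsonSpace X := LocallyOfFiniteType.jacobsonSpace qX
  obtain ⟨Z, hZ, hZd⟩ := exists_dominant_component qX qY f hf hirr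
  have hZcl : IsClosed Z := isClosed_of_mem_irreducibleComponents Z hZ
  have himg : f '' Z = Set.univ := by
    rw [← (hcl Z hZcl).closure_eq]
    exact hZd.closure_eq
  have hall : closedPoints X ⊆ Z := by
    intro x hx
    have hy := isClosed_singleton_map qX qY f hf x hx
    have h1 : f x ∈ f '' Z := himg ▸ Set.mem_univ _
    obtain ⟨x', hx'Z, hx'⟩ := h1
    exact fibre_subset_component qX qY f hf d hirr hdim Z hZ (f x) hy ⟨x', hx', hx'Z⟩ rfl
  have hZu : Z = Set.univ := by
    rw [← Set.univ_subset_iff, ← closure_closedPoints]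
    exact hZcl.closure_subset_iff.mpr hall
  have hd := dim_component qX qY f hf d hirr hdim Z hZ
  rw [hZd.closure_eq] at hd
  subst hZu
  rw [dim_univ, dim_univ] at hd
  exact ⟨irreducibleSpace_of_component_eq_univ _ hZ rfl, hd⟩

include qX qY hf hirr hdim in
/-- The pure-dimensional case. -/
theorem pure_case
    (hpure : ∀ Z ∈ irreducibleComponents (↥X), topologicalKrullDim ↥Z = topologicalKrullDim ↥X) :
    IrreducibleSpace ↥X ∧ topologicalKrullDim ↥X = d + topologicalKrullDim ↥Y := by
  obtain ⟨Z₀, hZ₀, hZ₀d⟩ := exists_dominant_component qX qY f hf hirr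
  have h0 := dim_component qX qY f hf d hirr hdim Z₀ hZ₀
  rw [hZ₀d.closure_eq, dim_univ, hpure Z₀ hZ₀] at h0
  refine ⟨?_, h0⟩
  have hall : ∀ Z ∈ irreducibleComponents (↥X), Z = Z₀ := by
    intro Z hZ
    refine dominant_component_unique qX qY f hf d hirr hdim Z Z₀ hZ ?_ hZ₀ hZ₀d
    have h1 := dim_component qX qY f hf d hirr hdim Z hZ
    rw [hpure Z hZ, h0] at h1
    have h2 : topologicalKrullDim ↥Y = topologicalKrullDim ↥(closure (f '' Z)) :=
      le_antisymm (withBot_enat_le_of_add_le_add_left d h1.le)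
        (withBot_enat_le_of_add_le_add_left d h1.ge)
    by_contra hnd
    have hne : closure (f '' Z) ≠ Set.univ := fun h => hnd (dense_iff_closure_eq.mpr h)
    have h3 := Groth.Agent.S4644.topologicalKrullDim_lt_of_ssubset (closure (f '' Z)) Set.univ
      isClosed_closure (IrreducibleSpace.isIrreducible_univ Y) (Set.subset_univ _) hne (by
        rw [dim_univ]
        exact dim_ne_top_of_irreducible qY)
    rw [← h2, dim_univ] at h3
    exact lt_irrefl _ h3
  have hZu : Z₀ = Set.univ := Set.eq_univ_of_forall fun x =>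
    hall (irreducibleComponent x) (irreducibleComponent_mem_irreducibleComponents x) ▸
      mem_irreducibleComponent
  exact irreducibleSpace_of_component_eq_univ Z₀ hZ₀ hZu

end unique

end Groth.Agent.Lib.Helper78.FibreIrred
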