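import Mathlib
import Groth.Agent.S10861
import Groth.Agent.S9718
import Groth.Agent.Lib.Helper24.FibreClosedImmersion
import Groth.Agent.Lib.Helper69.LocalTarget
import Groth.Agent.Lib.Helper21.OfComp

/-!
# Isomorphisms on fibres spread out (flat, proper, finitely presented case)
-/

set_option autoImplicit false
universe u
open AlgebraicGeometry CategoryTheory CategoryTheory.Limits

namespace Groth.Agent.Lib.Helper78.FibreIso

/-- Surjectivity transfers across isomorphisms of arrows of commutative rings. -/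
theorem surjective_of_arrow_iso {A B C D : CommRingCat.{u}} {a : A ⟶ B} {b : C ⟶ D}
    (e : Arrow.mk a ≅ Arrow.mk b) (ha : Function.Surjective a.hom) :
    Function.Surjective b.hom := by
  intro d
  have hr : IsIso e.hom.right := inferInstance
  obtain ⟨d', rfl⟩ := (ConcreteCategory.bijective_of_isIso e.hom.right).2 d
  obtain ⟨a', rfl⟩ := ha d'
  refine ⟨e.hom.left a', ?_⟩
  have hw : e.hom.left ≫ b = a ≫ e.hom.right := e.hom.w
  exact congrArg (fun φ : A ⟶ D => φ.hom a') hw

/-- Finite generation of the kernel transfers across isomorphisms of arrows of commutative rings. -/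
theorem ker_fg_of_arrow_iso {A B C D : CommRingCat.{u}} {a : A ⟶ B} {b : C ⟶ D}
    (e : Arrow.mk a ≅ Arrow.mk b) (ha : (RingHom.ker a.hom).FG) : (RingHom.ker b.hom).FG := by
  have hw : e.hom.left ≫ b = a ≫ e.hom.right := e.hom.w
  have hl : IsIso e.hom.left := inferInstance
  have hr : IsIso e.hom.right := inferInstance
  have key : RingHom.ker b.hom = Ideal.map e.hom.left.hom (RingHom.ker a.hom) := by
    apply le_antisymm
    · intro c hc
      obtain ⟨a', rfl⟩ := (ConcreteCategory.bijective_of_isIso e.hom.left).2 c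
      refine Ideal.mem_map_of_mem _ ?_
      rw [RingHom.mem_ker] at hc ⊢
      have h1 : e.hom.right.hom (a.hom a') = b.hom (e.hom.left.hom a') :=
        (congrArg (fun φ : A ⟶ D => φ.hom a') hw).symm
      apply (ConcreteCategory.bijective_of_isIso e.hom.right).1
      change e.hom.right.hom (a.hom a') = e.hom.right.hom 0
      rw [h1, hc, map_zero]
    · rw [Ideal.map_le_iff_le_comap]
      intro a' ha'
      rw [Ideal.mem_comap, RingHom.mem_ker]
      rw [RingHom.mem_ker] at ha'
      have h1 : b.hom (e.hom.left.hom a') = e.hom.right.hom (a.hom a') :=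
        congrArg (fun φ : A ⟶ D => φ.hom a') hw
      rw [h1, ha', map_zero]
  rw [key]
  exact ha.map _

/-- If `f` is a closed immersion over the open `W`, its stalk maps at points over `W` are
surjective. -/
theorem stalkMap_surjective_of_isClosedImmersion_restrict {X Y : Scheme.{u}} (f : X ⟶ Y)
    (W : Y.Opens) [IsClosedImmersion (f ∣_ W)] (x : X) (hx : f.base x ∈ W) :
    Function.Surjective (f.stalkMap x).hom :=
  surjective_of_arrow_iso (morphismRestrictStalkMap f W ⟨x, hx⟩)
    ((f ∣_ W).stalkMap_surjective ⟨x, hx⟩)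

/-- The kernel of the stalk map of a finitely presented closed immersion is finitely generated. -/
theorem ker_stalkMap_fg_of_isClosedImmersion {X Y : Scheme.{u}} (f : X ⟶ Y) [IsClosedImmersion f]
    [LocallyOfFinitePresentation f] (x : X) : (RingHom.ker (f.stalkMap x).hom).FG := by
  obtain ⟨V, hV, hyV, -⟩ := exists_isAffineOpen_mem_and_subset (x := f.base x)
    (U := (⊤ : Y.Opens)) trivial
  have hU : IsAffineOpen (f ⁻¹ᵁ V) := hV.preimage f
  have hxU : x ∈ f ⁻¹ᵁ V := hyV
  have hφs : Function.Surjective (f.app V).hom := f.app_surjective V hV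
  have hφfp : (f.app V).hom.FinitePresentation := by
    have := HasRingHomProperty.appLE (P := @LocallyOfFinitePresentation) f inferInstance
      ⟨V, hV⟩ ⟨f ⁻¹ᵁ V, hU⟩ le_rfl
    rwa [← Scheme.Hom.app_eq_appLE] at this
  have hI : (RingHom.ker (f.app V).hom).FG := by
    algebraize [(f.app V).hom]
    exact Algebra.FinitePresentation.ker_fG_of_surjective
      (Algebra.ofId Γ(Y, V) Γ(X, f ⁻¹ᵁ V)) hφs
  letI algY := TopCat.Presheaf.algebra_section_stalk Y.presheaf ⟨f.base x, hyV⟩
  letI algX := TopCat.Presheaf.algebra_section_stalk X.presheaf ⟨x, hxU⟩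
  have hlocY := hV.isLocalization_stalk ⟨f.base x, hyV⟩
  have hlocX := hU.isLocalization_stalk ⟨x, hxU⟩
  have hcomm : ∀ a : Γ(Y, V), (f.stalkMap x).hom (algebraMap Γ(Y, V) (Y.presheaf.stalk (f.base x)) a) =
      algebraMap Γ(X, f ⁻¹ᵁ V) (X.presheaf.stalk x) ((f.app V).hom a) := by
    intro a
    exact congrArg (fun φ : Γ(Y, V) ⟶ X.presheaf.stalk x => φ.hom a)
      (Scheme.Hom.germ_stalkMap f V x hyV)
  have key : RingHom.ker (f.stalkMap x).hom =
      Ideal.map (algebraMap Γ(Y, V) (Y.presheaf.stalk (f.base x))) (RingHom.ker (f.app V).hom) := by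
    apply le_antisymm
    · intro u hu
      rw [RingHom.mem_ker] at hu
      obtain ⟨⟨a, t⟩, hat⟩ := IsLocalization.surj
        (hV.primeIdealOf ⟨f.base x, hyV⟩).asIdeal.primeCompl u
      have ht : IsUnit (algebraMap Γ(Y, V) (Y.presheaf.stalk (f.base x)) t) :=
        IsLocalization.map_units _ t
      have h0 : algebraMap Γ(X, f ⁻¹ᵁ V) (X.presheaf.stalk x) ((f.app V).hom a) = 0 := by
        rw [← hcomm, ← hat, map_mul, hu, zero_mul]
      obtain ⟨c, hc⟩ := (IsLocalization.map_eq_zero_iff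
        (hU.primeIdealOf ⟨x, hxU⟩).asIdeal.primeCompl (X.presheaf.stalk x) _).mp h0
      obtain ⟨b, hb⟩ := hφs c
      have hbunit : IsUnit (algebraMap Γ(Y, V) (Y.presheaf.stalk (f.base x)) b) := by
        have h1 : IsUnit ((f.stalkMap x).hom (algebraMap Γ(Y, V) (Y.presheaf.stalk (f.base x)) b)) := by
          rw [hcomm, hb]
          exact IsLocalization.map_units _ c
        exact (isUnit_map_iff (f.stalkMap x).hom _).mp h1
      have hab : b * a ∈ RingHom.ker (f.app V).hom := by
        rw [RingHom.mem_ker, map_mul, hb]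
        exact hc
      have h2 : u * (algebraMap Γ(Y, V) (Y.presheaf.stalk (f.base x)) t *
          algebraMap Γ(Y, V) (Y.presheaf.stalk (f.base x)) b) =
          algebraMap Γ(Y, V) (Y.presheaf.stalk (f.base x)) (b * a) := by
        rw [← mul_assoc, hat, map_mul, mul_comm]
      have h3 : u * (algebraMap Γ(Y, V) (Y.presheaf.stalk (f.base x)) t *
          algebraMap Γ(Y, V) (Y.presheaf.stalk (f.base x)) b) ∈
          Ideal.map (algebraMap Γ(Y, V) (Y.presheaf.stalk (f.base x))) (RingHom.ker (f.app V).hom) := by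
        rw [h2]; exact Ideal.mem_map_of_mem _ hab
      exact (Ideal.mul_unit_mem_iff_mem _ (ht.mul hbunit)).mp h3
    · rw [Ideal.map_le_iff_le_comap]
      intro a ha
      rw [Ideal.mem_comap, RingHom.mem_ker, hcomm]
      rw [RingHom.mem_ker] at ha
      rw [ha, map_zero]
  rw [key]
  exact hI.map _

/-- Local version of `ker_stalkMap_fg_of_isClosedImmersion`. -/
theorem ker_stalkMap_fg_of_isClosedImmersion_restrict {X Y : Scheme.{u}} (f : X ⟶ Y)
    [LocallyOfFinitePresentation f] (W : Y.Opens) [IsClosedImmersion (f ∣_ W)] (x : X)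
    (hx : f.base x ∈ W) : (RingHom.ker (f.stalkMap x).hom).FG :=
  ker_fg_of_arrow_iso (morphismRestrictStalkMap f W ⟨x, hx⟩)
    (ker_stalkMap_fg_of_isClosedImmersion (f ∣_ W) ⟨x, hx⟩)

/-- If the stalk map of `f` (locally of finite presentation) at `x` is an isomorphism and `f` is a
closed immersion over an open `W ∋ f x`, then `f` is an isomorphism over an open neighbourhood of
`f x`. -/
theorem exists_isIso_morphismRestrict_of_isIso_stalkMap {X Y : Scheme.{u}} (f : X ⟶ Y)
    [LocallyOfFinitePresentation f] (W : Y.Opens) [IsClosedImmersion (f ∣_ W)]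
    (x : X) (hx : f.base x ∈ W) [IsIso (f.stalkMap x)] :
    ∃ V : Y.Opens, f.base x ∈ V ∧ IsIso (f ∣_ V) := by
  let φ : Spec (Y.presheaf.stalk (f.base x)) ⟶ X :=
    Spec.map (inv (f.stalkMap x)) ≫ X.fromSpecStalk x
  have hφ : φ ≫ f = Y.fromSpecStalk (f.base x) ≫ 𝟙 Y := by
    rw [Category.comp_id, Category.assoc, ← Scheme.SpecMap_stalkMap_fromSpecStalk,
      ← Spec.map_comp_assoc, IsIso.hom_inv_id, Spec.map_id, Category.id_comp]
  obtain ⟨V₀, hV₀, s, -, hs⟩ := Groth.Agent.S9718.spread_out_of_lfp' (𝟙 Y) f φ hφ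
  rw [Category.comp_id] at hs
  let V : Y.Opens := V₀ ⊓ W
  have hcl : IsClosedImmersion (f ∣_ V) :=
    Groth.Agent.Lib.Helper69.restrict_of_le (P := @IsClosedImmersion) f
      (inf_le_right : V ≤ W) ‹_›
  refine ⟨V, ⟨hV₀, hx⟩, ?_⟩
  let t : V.toScheme ⟶ X := Y.homOfLE (inf_le_left : V ≤ V₀) ≫ s
  have ht : t ≫ f = V.ι := by
    rw [Category.assoc, hs, Y.homOfLE_ι]
  have hrange : Set.range t.base ⊆ Set.range (f ⁻¹ᵁ V).ι.base := by
    rintro _ ⟨v, rfl⟩
    rw [Scheme.Opens.range_ι]
    change f.base (t.base v) ∈ V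
    have : f.base (t.base v) = V.ι.base v := by
      rw [← ht]; rfl
    rw [this]
    exact v.2
  let G : V.toScheme ⟶ (f ⁻¹ᵁ V).toScheme := IsOpenImmersion.lift (f ⁻¹ᵁ V).ι t hrange
  have hG : G ≫ (f ∣_ V) = 𝟙 _ := by
    rw [← cancel_mono V.ι, Category.assoc, morphismRestrict_ι, Category.id_comp,
      IsOpenImmersion.lift_fac_assoc, ht]
  have : IsSplitEpi (f ∣_ V) := IsSplitEpi.mk' ⟨G, hG⟩
  exact isIso_of_mono_of_isSplitEpi _

/-- Let `X`, `Y` be proper and of finite presentation over `S` with `X` flat over `S`, and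
`f : X ⟶ Y` an `S`-morphism inducing an isomorphism of the fibres over `s`. Then `f` is an
isomorphism over a neighbourhood of `s`. -/
theorem exists_isIso_of_isIso_fiberMapOver {X Y S : Scheme.{u}} (f : X ⟶ Y) (h : Y ⟶ S)
    [IsProper (f ≫ h)] [LocallyOfFinitePresentation (f ≫ h)] [Flat (f ≫ h)] [IsProper h]
    (s : S) [IsIso (CohIII.fiberMapOver f (f ≫ h) h rfl s)] :
    ∃ U : S.Opens, s ∈ U ∧ IsIso (f ∣_ (h ⁻¹ᵁ U)) := by
  classical
  have : LocallyOfFinitePresentation f :=
    Groth.Agent.Lib.Helper21.locallyOfFinitePresentation_of_comp_of_locallyOfFiniteType f h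
  obtain ⟨U₁, hzU₁, hci⟩ := Groth.Agent.S10861.part2 f (f ≫ h) h rfl s inferInstance
  let W : Y.Opens := h ⁻¹ᵁ U₁
  have key : ∀ y : Y, h.base y = s → ∃ V : Y.Opens, y ∈ V ∧ IsIso (f ∣_ V) := by
    intro y hy
    obtain ⟨y', rfl⟩ : y ∈ Set.range (h.fiberι s).base := by
      rw [Scheme.Hom.range_fiberι]; exact hy
    let F := CohIII.fiberMapOver f (f ≫ h) h rfl s
    let x' : ↥((f ≫ h).fiber s) := (inv F).base y'
    have hx' : F.base x' = y' := by
      change (inv F ≫ F).base y' = y'
      rw [IsIso.inv_hom_id]; rfl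
    let x : X := ((f ≫ h).fiberι s).base x'
    have hfx : f.base x = (h.fiberι s).base y' := by
      have h1 := Groth.Agent.Lib.Helper24.fiberMapOver_fiberι f (f ≫ h) h rfl s
      have h2 : (F ≫ h.fiberι s).base x' = ((f ≫ h).fiberι s ≫ f).base x' := by rw [h1]
      change (h.fiberι s).base (F.base x') = f.base x at h2
      rw [hx'] at h2
      exact h2.symm
    have hinj : Function.Injective (F.stalkMap x').hom :=
      (ConcreteCategory.bijective_of_isIso (F.stalkMap x')).1
    have hker := Groth.Agent.Lib.Helper24.ker_stalkMap_le_map_of_injective_fibre f h s x' hinj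
    have hxW : f.base x ∈ W := by
      change h.base (f.base x) ∈ U₁
      rw [hfx, hy]; exact hzU₁
    have hsurj : Function.Surjective (f.stalkMap x).hom :=
      stalkMap_surjective_of_isClosedImmersion_restrict f W x hxW
    have hfg : (RingHom.ker (f.stalkMap x).hom).FG :=
      ker_stalkMap_fg_of_isClosedImmersion_restrict f W x hxW
    have hflat : ((f ≫ h).stalkMap x).hom.Flat := Flat.stalkMap (f ≫ h) x
    have hinjf :=
      Groth.Agent.Lib.Helper24.stalkMap_injective_of_ker_le_map f h x hsurj hfg hflat hker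
    have hiso : IsIso (f.stalkMap x) :=
      (ConcreteCategory.isIso_iff_bijective _).mpr ⟨hinjf, hsurj⟩
    obtain ⟨V, hV, hVi⟩ := exists_isIso_morphismRestrict_of_isIso_stalkMap f W x hxW
    exact ⟨V, hfx ▸ hV, hVi⟩
  let O : Set Y := {y | ∃ V : Y.Opens, y ∈ V ∧ IsIso (f ∣_ V)}
  have hO : IsOpen O := by
    rw [isOpen_iff_forall_mem_open]
    rintro y ⟨V, hyV, hV⟩
    exact ⟨V, fun y' hy' => ⟨V, hy', hV⟩, V.isOpen, hyV⟩
  have hclosed : IsClosed (h.base '' Oᶜ) := h.isClosedMap _ hO.isClosed_compl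
  let U : S.Opens := ⟨(h.base '' Oᶜ)ᶜ, hclosed.isOpen_compl⟩
  refine ⟨U, ?_, ?_⟩
  · rintro ⟨y, hyO, hy⟩
    exact hyO (key y hy)
  · refine Groth.Agent.Lib.Helper69.restrict_of_forall_exists
      (P := MorphismProperty.isomorphisms Scheme.{u}) f (h ⁻¹ᵁ U) ?_
    intro y hy
    by_contra hcon
    exact hy ⟨y, fun hyO => hcon hyO, rfl⟩

/-- If `f` is an isomorphism over `h⁻¹(U)` then it induces isomorphisms on the fibres over the
points of `U`. -/
theorem isIso_fiberMapOver_of_isIso_restrict {X Y S : Scheme.{u}} (f : X ⟶ Y) (g : X ⟶ S)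
    (h : Y ⟶ S) (w : f ≫ h = g) (U : S.Opens) [IsIso (f ∣_ (h ⁻¹ᵁ U))] (s : S) (hs : s ∈ U) :
    IsIso (CohIII.fiberMapOver f g h w s) := by
  let W : Y.Opens := h ⁻¹ᵁ U
  have hP := Groth.Agent.Lib.Helper24.isPullback_fiberMapOver f g h w s
  have hrange : Set.range (h.fiberι s).base ⊆ Set.range W.ι.base := by
    rw [Scheme.Hom.range_fiberι, Scheme.Opens.range_ι]
    intro y hy
    change h.base y ∈ U
    rw [Set.mem_preimage, Set.mem_singleton_iff] at hy
    rw [hy]; exact hs
  let k : h.fiber s ⟶ W.toScheme := IsOpenImmersion.lift W.ι (h.fiberι s) hrange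
  have hk : k ≫ W.ι = h.fiberι s := IsOpenImmersion.lift_fac _ _ _
  have hR : IsPullback (f ⁻¹ᵁ W).ι (f ∣_ W) f W.ι := (isPullback_morphismRestrict f W).flip
  let a : g.fiber s ⟶ (f ⁻¹ᵁ W).toScheme :=
    hR.lift (g.fiberι s) (CohIII.fiberMapOver f g h w s ≫ k) (by rw [Category.assoc, hk, hP.w])
  have ha1 : a ≫ (f ⁻¹ᵁ W).ι = g.fiberι s := hR.lift_fst _ _ _
  have ha2 : a ≫ (f ∣_ W) = CohIII.fiberMapOver f g h w s ≫ k := hR.lift_snd _ _ _
  have hL : IsPullback a (CohIII.fiberMapOver f g h w s) (f ∣_ W) k := by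
    refine IsPullback.of_right ?_ ha2 hR
    rw [ha1, hk]
    exact hP
  exact MorphismProperty.of_isPullback (P := MorphismProperty.isomorphisms Scheme.{u}) hL
    (inferInstanceAs (IsIso (f ∣_ W)))

end Groth.Agent.Lib.Helper78.FibreIso
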