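import Groth.Agent.Lib.Helper78.GeomConn4
import Groth.Agent.Lib.Helper38.GaloisOrbit
import Groth.Agent.Lib.Helper38.GaloisCont

/-!
# Galois actions on base changes of algebraic spaces, relative form (helper78)

Let `K/k` be an extension of fields, `Z` a sheaf over `S` with a morphism `s : Z ⟶ Spec k` and
`P = Z ×_{Spec k} Spec K`.  The group of `k`-automorphisms of `K` acts (on the right) on `P`.
When `Z` is an algebraic space, the action on points is jointly continuous, and transitive on the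
fibres of `|P| ⟶ |Z|` when `K/k` is Galois.
-/

set_option autoImplicit false
universe u
open CategoryTheory CategoryTheory.Limits AlgebraicGeometry Opposite AlgSp

namespace Groth.Agent.Lib.Helper78.GalSp

variable {S : Scheme.{u}} (k K : Type u) [Field k] [Field K] [Algebra k K]

/-- `Spec K ⟶ Spec k`. -/
noncomputable abbrev gK : Spec (CommRingCat.of K) ⟶ Spec (CommRingCat.of k) :=
  Spec.map (CommRingCat.ofHom (algebraMap k K))

/-- `Spec γ` for a `k`-automorphism `γ` of `K`. -/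
noncomputable abbrev specGal (γ : K ≃ₐ[k] K) :
    Spec (CommRingCat.of K) ⟶ Spec (CommRingCat.of K) :=
  Spec.map (CommRingCat.ofHom (γ : K →ₐ[k] K).toRingHom)

theorem specGal_gK (γ : K ≃ₐ[k] K) : specGal k K γ ≫ gK k K = gK k K := by
  rw [← Spec.map_comp, ← CommRingCat.ofHom_comp, AlgHom.toRingHom_eq_coe,
    AlgHom.comp_algebraMap]

theorem specGal_mul (γ δ : K ≃ₐ[k] K) :
    specGal k K (γ * δ) = specGal k K γ ≫ specGal k K δ := by
  rw [← Spec.map_comp, ← CommRingCat.ofHom_comp]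
  rfl

theorem specGal_one : specGal k K (1 : K ≃ₐ[k] K) = 𝟙 _ := by
  rw [← Spec.map_id]
  rfl

section data

variable (σ₀ : Spec (CommRingCat.of k) ⟶ S) (τ : Spec (CommRingCat.of K) ⟶ S)
  (t : Over.mk τ ⟶ Over.mk σ₀) (ht : t.left = gK k K)

include ht in
theorem gK_comp_σ₀ : gK k K ≫ σ₀ = τ := by
  rw [← ht]; exact Over.w t

include ht in
theorem specGal_comp_τ (γ : K ≃ₐ[k] K) : specGal k K γ ≫ τ = τ := by
  have h1 := gK_comp_σ₀ k K σ₀ τ t ht
  calc specGal k K γ ≫ τ = specGal k K γ ≫ (gK k K ≫ σ₀) :=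
        congrArg (fun z => specGal k K γ ≫ z) h1.symm
    _ = gK k K ≫ σ₀ := by rw [← Category.assoc, specGal_gK]
    _ = τ := h1

/-- The automorphism of `Spec K` over `S` defined by `γ`. -/
noncomputable def galOver (γ : K ≃ₐ[k] K) : Over.mk τ ⟶ Over.mk τ :=
  Over.homMk (specGal k K γ) (specGal_comp_τ k K σ₀ τ t ht γ)

theorem galOver_comp_t (γ : K ≃ₐ[k] K) : galOver k K σ₀ τ t ht γ ≫ t = t := by
  apply Over.OverMorphism.ext
  change specGal k K γ ≫ t.left = t.left
  rw [ht, specGal_gK]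

theorem galOver_mul (γ δ : K ≃ₐ[k] K) :
    galOver k K σ₀ τ t ht (γ * δ) = galOver k K σ₀ τ t ht γ ≫ galOver k K σ₀ τ t ht δ := by
  apply Over.OverMorphism.ext
  exact specGal_mul k K γ δ

theorem galOver_one : galOver k K σ₀ τ t ht 1 = 𝟙 _ := by
  apply Over.OverMorphism.ext
  exact specGal_one k K

variable {Z P : Sp S} (s : Z ⟶ (yon S).obj (Over.mk σ₀)) (fst : P ⟶ Z)
  (snd : P ⟶ (yon S).obj (Over.mk τ)) (sq : IsPullback fst snd s ((yon S).map t))

/-- The action of `γ` on `P = Z ×_{Spec k} Spec K`. -/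
noncomputable def act (γ : K ≃ₐ[k] K) : P ⟶ P :=
  sq.lift fst (snd ≫ (yon S).map (galOver k K σ₀ τ t ht γ)) (by
    rw [Category.assoc, ← Functor.map_comp, galOver_comp_t]; exact sq.w)

theorem act_fst (γ : K ≃ₐ[k] K) : act k K σ₀ τ t ht s fst snd sq γ ≫ fst = fst :=
  sq.lift_fst _ _ _

theorem act_snd (γ : K ≃ₐ[k] K) : act k K σ₀ τ t ht s fst snd sq γ ≫ snd =
    snd ≫ (yon S).map (galOver k K σ₀ τ t ht γ) :=
  sq.lift_snd _ _ _

theorem eq_act (γ : K ≃ₐ[k] K) (m : P ⟶ P) (h1 : m ≫ fst = fst)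
    (h2 : m ≫ snd = snd ≫ (yon S).map (galOver k K σ₀ τ t ht γ)) :
    m = act k K σ₀ τ t ht s fst snd sq γ :=
  sq.hom_ext (by rw [h1, act_fst]) (by rw [h2, act_snd])

theorem act_mul (γ δ : K ≃ₐ[k] K) : act k K σ₀ τ t ht s fst snd sq (γ * δ) =
    act k K σ₀ τ t ht s fst snd sq γ ≫ act k K σ₀ τ t ht s fst snd sq δ := by
  symm
  apply eq_act
  · rw [Category.assoc, act_fst, act_fst]
  · rw [Category.assoc, act_snd, ← Category.assoc, act_snd, Category.assoc, ← Functor.map_comp,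
      galOver_mul]

theorem act_one : act k K σ₀ τ t ht s fst snd sq 1 = 𝟙 P := by
  symm
  apply eq_act
  · rw [Category.id_comp]
  · rw [Category.id_comp, galOver_one]; erw [(yon S).map_id]; rw [Category.comp_id]

theorem map_act_symm_act (γ : K ≃ₐ[k] K) (p : Points P) :
    Points.map (act k K σ₀ τ t ht s fst snd sq γ⁻¹)
      (Points.map (act k K σ₀ τ t ht s fst snd sq γ) p) = p := by
  rw [← Points.map_comp, ← act_mul, mul_inv_cancel, act_one, Points.map_id]

theorem map_act_act_symm (γ : K ≃ₐ[k] K) (p : Points P) :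
    Points.map (act k K σ₀ τ t ht s fst snd sq γ)
      (Points.map (act k K σ₀ τ t ht s fst snd sq γ⁻¹) p) = p := by
  rw [← Points.map_comp, ← act_mul, inv_mul_cancel, act_one, Points.map_id]

section chart

variable (U : Over S) (a : (yon S).obj U ⟶ Z) (φ : U ⟶ Over.mk σ₀)
  (hφ : (yon S).map φ = a ≫ s)

/-- The base change `U_K` of a chart, as a scheme over `S`. -/
noncomputable def chartObj : Over S := Over.mk (pullback.fst φ.left (gK k K) ≫ U.hom)

/-- The projection `U_K ⟶ U`. -/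
noncomputable def chartπ : chartObj k K σ₀ U φ ⟶ U :=
  Over.homMk (pullback.fst φ.left (gK k K)) rfl

include ht in
theorem chartStr_aux : pullback.snd φ.left (gK k K) ≫ τ =
    pullback.fst φ.left (gK k K) ≫ U.hom := by
  have h1 := gK_comp_σ₀ k K σ₀ τ t ht
  have h2 : φ.left ≫ σ₀ = U.hom := Over.w φ
  calc pullback.snd φ.left (gK k K) ≫ τ
      = pullback.snd φ.left (gK k K) ≫ (gK k K ≫ σ₀) :=
        congrArg (fun z => pullback.snd φ.left (gK k K) ≫ z) h1.symm
    _ = (pullback.fst φ.left (gK k K) ≫ φ.left) ≫ σ₀ := by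
        rw [← Category.assoc, ← pullback.condition]
    _ = pullback.fst φ.left (gK k K) ≫ U.hom := by rw [Category.assoc, h2]

/-- The structure morphism `U_K ⟶ Spec K`. -/
noncomputable def chartStr : chartObj k K σ₀ U φ ⟶ Over.mk τ :=
  Over.homMk (pullback.snd φ.left (gK k K)) (chartStr_aux k K σ₀ τ t ht U φ)

theorem chart_comm : chartπ k K σ₀ U φ ≫ φ = chartStr k K σ₀ τ t ht U φ ≫ t := by
  apply Over.OverMorphism.ext
  change pullback.fst φ.left (gK k K) ≫ φ.left = pullback.snd φ.left (gK k K) ≫ t.left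
  rw [ht]
  exact pullback.condition

theorem isPullback_chart : IsPullback ((yon S).map (chartπ k K σ₀ U φ))
    ((yon S).map (chartStr k K σ₀ τ t ht U φ)) ((yon S).map φ) ((yon S).map t) := by
  refine isPullback_yon_of_left (chart_comm k K σ₀ τ t ht U φ) ?_
  have h0 := IsPullback.of_hasPullback φ.left (gK k K)
  have h1 : IsPullback (pullback.fst φ.left (gK k K)) (pullback.snd φ.left (gK k K)) φ.left
      t.left := by
    rw [ht]; exact h0
  exact h1

/-- The chart `U_K ⟶ P`. -/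
noncomputable def chartMap : (yon S).obj (chartObj k K σ₀ U φ) ⟶ P :=
  sq.lift ((yon S).map (chartπ k K σ₀ U φ) ≫ a) ((yon S).map (chartStr k K σ₀ τ t ht U φ)) (by
    rw [Category.assoc, ← hφ, ← Functor.map_comp, ← Functor.map_comp, chart_comm])

theorem chartMap_fst : chartMap k K σ₀ τ t ht s fst snd sq U a φ hφ ≫ fst =
    (yon S).map (chartπ k K σ₀ U φ) ≫ a := sq.lift_fst _ _ _

theorem chartMap_snd : chartMap k K σ₀ τ t ht s fst snd sq U a φ hφ ≫ snd =
    (yon S).map (chartStr k K σ₀ τ t ht U φ) := sq.lift_snd _ _ _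

theorem isPullback_chartMap : IsPullback (chartMap k K σ₀ τ t ht s fst snd sq U a φ hφ)
    ((yon S).map (chartπ k K σ₀ U φ)) fst a := by
  refine IsPullback.of_right ?_ (chartMap_fst k K σ₀ τ t ht s fst snd sq U a φ hφ) sq.flip
  rw [chartMap_snd, ← hφ]
  exact (isPullback_chart k K σ₀ τ t ht U φ).flip

/-- The Galois action on the scheme `U_K`. -/
noncomputable def chartGalLeft (γ : K ≃ₐ[k] K) :
    pullback φ.left (gK k K) ⟶ pullback φ.left (gK k K) :=
  pullback.map φ.left (gK k K) φ.left (gK k K) (𝟙 _) (specGal k K γ) (𝟙 _)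
    (by simp) (by rw [Category.comp_id, specGal_gK])

theorem chartGalLeft_fst (γ : K ≃ₐ[k] K) :
    chartGalLeft k K σ₀ U φ γ ≫ pullback.fst φ.left (gK k K) = pullback.fst φ.left (gK k K) := by
  unfold chartGalLeft
  rw [pullback.lift_fst, Category.comp_id]

theorem chartGalLeft_snd (γ : K ≃ₐ[k] K) :
    chartGalLeft k K σ₀ U φ γ ≫ pullback.snd φ.left (gK k K) =
      pullback.snd φ.left (gK k K) ≫ specGal k K γ := by
  unfold chartGalLeft
  rw [pullback.lift_snd]

/-- The Galois action on the chart `U_K`. -/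
noncomputable def chartGal (γ : K ≃ₐ[k] K) : chartObj k K σ₀ U φ ⟶ chartObj k K σ₀ U φ :=
  Over.homMk (chartGalLeft k K σ₀ U φ γ) (by
    change chartGalLeft k K σ₀ U φ γ ≫ pullback.fst φ.left (gK k K) ≫ U.hom =
      pullback.fst φ.left (gK k K) ≫ U.hom
    rw [← Category.assoc, chartGalLeft_fst])

theorem chartGal_π (γ : K ≃ₐ[k] K) :
    chartGal k K σ₀ U φ γ ≫ chartπ k K σ₀ U φ = chartπ k K σ₀ U φ := by
  apply Over.OverMorphism.ext
  exact chartGalLeft_fst k K σ₀ U φ γ

theorem chartGal_str (γ : K ≃ₐ[k] K) :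
    chartGal k K σ₀ U φ γ ≫ chartStr k K σ₀ τ t ht U φ =
      chartStr k K σ₀ τ t ht U φ ≫ galOver k K σ₀ τ t ht γ := by
  apply Over.OverMorphism.ext
  exact chartGalLeft_snd k K σ₀ U φ γ

theorem chartGal_chartMap (γ : K ≃ₐ[k] K) :
    (yon S).map (chartGal k K σ₀ U φ γ) ≫ chartMap k K σ₀ τ t ht s fst snd sq U a φ hφ =
      chartMap k K σ₀ τ t ht s fst snd sq U a φ hφ ≫ act k K σ₀ τ t ht s fst snd sq γ := by
  apply sq.hom_ext
  · rw [Category.assoc, Category.assoc, act_fst, chartMap_fst, ← Category.assoc,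
      ← Functor.map_comp, chartGal_π]
  · rw [Category.assoc, Category.assoc, act_snd, chartMap_snd, ← Category.assoc, chartMap_snd,
      ← Functor.map_comp, ← Functor.map_comp, chartGal_str]

theorem map_act_ofPt (γ : K ≃ₐ[k] K) (v : ↥(chartObj k K σ₀ U φ).left) :
    Points.map (act k K σ₀ τ t ht s fst snd sq γ)
      (Points.ofPt (chartMap k K σ₀ τ t ht s fst snd sq U a φ hφ) v) =
    Points.ofPt (chartMap k K σ₀ τ t ht s fst snd sq U a φ hφ)
      ((chartGal k K σ₀ U φ γ).left v) := by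
  rw [Points.map_ofPt, ← chartGal_chartMap, Groth.Agent.H52.ofPt_yon_map_comp]

end chart

/-- The Galois group acts transitively on the fibres of `|P| ⟶ |Z|`. -/
theorem exists_act_eq [IsGalois k K] (hZ : IsAlgSpace Z) (p₁ p₂ : Points P)
    (h : Points.map fst p₁ = Points.map fst p₂) :
    ∃ γ : K ≃ₐ[k] K, Points.map (act k K σ₀ τ t ht s fst snd sq γ) p₁ = p₂ := by
  obtain ⟨U, a, u, -, hu⟩ := Groth.Agent.Lib.Helper54.exists_chart_through hZ (Points.map fst p₁)
  obtain ⟨φ, hφ⟩ := (yon S).map_surjective (a ≫ s)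
  have sqc := isPullback_chartMap k K σ₀ τ t ht s fst snd sq U a φ hφ
  obtain ⟨v₁, hv₁, hv₁u⟩ := Groth.Agent.Lib.Helper54.exists_pt_of_isPullback_yon sqc p₁ u hu.symm
  obtain ⟨v₂, hv₂, hv₂u⟩ := Groth.Agent.Lib.Helper54.exists_pt_of_isPullback_yon sqc p₂ u
    (by rw [← h]; exact hu.symm)
  letI : U.left.Over (Spec (CommRingCat.of k)) := ⟨φ.left⟩
  obtain ⟨γ, hγ⟩ := Groth.Agent.Lib.Helper38.GaloisOrbit.exists_galAct_apply_eq k U.left K v₁ v₂
    (hv₁u.trans hv₂u.symm)
  refine ⟨γ, ?_⟩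
  rw [← hv₁, map_act_ofPt, ← hv₂]
  exact congrArg _ hγ

/-- The Galois action on `|P|` is jointly continuous. -/
theorem continuous_act [Algebra.IsIntegral k K] (hZ : IsAlgSpace Z) :
    Continuous (fun x : (K ≃ₐ[k] K) × Points P =>
      Points.map (act k K σ₀ τ t ht s fst snd sq x.1) x.2) := by
  obtain ⟨U, a, hae, has⟩ := hZ.atlas
  obtain ⟨φ, hφ⟩ := (yon S).map_surjective (a ≫ s)
  have sqc := isPullback_chartMap k K σ₀ τ t ht s fst snd sq U a φ hφ
  have hce : RepWith @Etale (chartMap k K σ₀ τ t ht s fst snd sq U a φ hφ) :=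
    MorphismProperty.of_isPullback (P := RepWith (S := S) @Etale) sqc.flip hae
  have hcs : RepWith @Surjective (chartMap k K σ₀ τ t ht s fst snd sq U a φ hφ) :=
    MorphismProperty.of_isPullback (P := RepWith (S := S) @Surjective) sqc.flip has
  have hopen : IsOpenMap (Points.ofPt (chartMap k K σ₀ τ t ht s fst snd sq U a φ hφ)) :=
    Groth.Agent.H53.isOpenMap_ofPt_of_etale _ hce
  have hsurj : Function.Surjective
      (Points.ofPt (chartMap k K σ₀ τ t ht s fst snd sq U a φ hφ)) := by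
    intro p
    obtain ⟨w, hw⟩ := Groth.Agent.H52.surjective_points_of_repWith_surjective _ hcs p
    refine ⟨Points.toScheme _ w, ?_⟩
    rw [Points.ofPt_eq_map_ofScheme, Points.ofScheme_toScheme, hw]
  have hq : Topology.IsQuotientMap (Prod.map (id : (K ≃ₐ[k] K) → (K ≃ₐ[k] K))
      (Points.ofPt (chartMap k K σ₀ τ t ht s fst snd sq U a φ hφ))) :=
    (IsOpenMap.id.prodMap hopen).isQuotientMap
      (continuous_id.prodMap (Points.continuous_ofPt _))
      (Function.surjective_id.prodMap hsurj)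
  rw [hq.continuous_iff]
  letI : U.left.Over (Spec (CommRingCat.of k)) := ⟨φ.left⟩
  have hcomp : (fun x : (K ≃ₐ[k] K) × Points P =>
      Points.map (act k K σ₀ τ t ht s fst snd sq x.1) x.2) ∘
        Prod.map (id : (K ≃ₐ[k] K) → (K ≃ₐ[k] K))
          (Points.ofPt (chartMap k K σ₀ τ t ht s fst snd sq U a φ hφ)) =
      Points.ofPt (chartMap k K σ₀ τ t ht s fst snd sq U a φ hφ) ∘
        (fun x : (K ≃ₐ[k] K) × ↥(Curv2.bc k U.left K) =>
          (Curv2.galAct k U.left K x.1).base x.2) := by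
    funext x
    exact map_act_ofPt k K σ₀ τ t ht s fst snd sq U a φ hφ x.1 x.2
  rw [hcomp]
  exact (Points.continuous_ofPt _).comp
    (Groth.Agent.Lib.Helper38.GaloisCont.continuous_galAct k U.left K)

end data

end Groth.Agent.Lib.Helper78.GalSp
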