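import Groth.Agent.Lib.Helper78.GalSp

/-!
# Consequences of continuity and transitivity of the Galois action (helper78)
-/

set_option autoImplicit false
universe u
open CategoryTheory CategoryTheory.Limits AlgebraicGeometry Opposite AlgSp

namespace Groth.Agent.Lib.Helper78.GalSp

/-- For a continuous "action" `m : G × T → T`, a compact set `H` of `G` and a clopen set `A`,
the set of points all of whose `H`-translates lie in `A` is clopen. -/
theorem isClopen_setOf_forall_mem {G T : Type*} [TopologicalSpace G] [TopologicalSpace T]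
    (m : G × T → T) (hm : Continuous m) (H : Set G) (hH : IsCompact H) (A : Set T)
    (hA : IsClopen A) : IsClopen {p : T | ∀ γ ∈ H, m (γ, p) ∈ A} := by
  constructor
  · have : {p : T | ∀ γ ∈ H, m (γ, p) ∈ A} = ⋂ γ ∈ H, (fun p => m (γ, p)) ⁻¹' A := by
      ext p; simp only [Set.mem_setOf_eq, Set.mem_iInter, Set.mem_preimage]
    rw [this]
    exact isClosed_biInter fun γ _ =>
      hA.1.preimage (hm.comp (continuous_const.prodMk continuous_id))
  · rw [isOpen_iff_forall_mem_open]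
    intro p hp
    have hn : IsOpen (m ⁻¹' A) := hA.2.preimage hm
    have hsub : H ×ˢ ({p} : Set T) ⊆ m ⁻¹' A := by
      rintro ⟨γ, q⟩ ⟨hγ, hq⟩
      rw [Set.mem_singleton_iff] at hq
      subst hq
      exact hp γ hγ
    obtain ⟨u, v, -, hv, hHu, hpv, huv⟩ := generalized_tube_lemma hH isCompact_singleton hn hsub
    refine ⟨v, ?_, hv, hpv rfl⟩
    intro q hq γ hγ
    exact huv (show (γ, q) ∈ u ×ˢ v from ⟨hHu hγ, hq⟩)

theorem mem_nhds_setOf_mem {G T : Type*} [TopologicalSpace G] [TopologicalSpace T]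
    (m : G × T → T) (hm : Continuous m) (A : Set T) (hA : IsOpen A) (g₀ : G) (p₀ : T)
    (h : m (g₀, p₀) ∈ A) : {γ : G | m (γ, p₀) ∈ A} ∈ nhds g₀ := by
  have hc : Continuous (fun γ : G => m (γ, p₀)) :=
    hm.comp (continuous_id.prodMk continuous_const)
  exact (hA.preimage hc).mem_nhds h

variable {S : Scheme.{u}} (k K : Type u) [Field k] [Field K] [Algebra k K]
  (σ₀ : Spec (CommRingCat.of k) ⟶ S) (τ : Spec (CommRingCat.of K) ⟶ S)
  (t : Over.mk τ ⟶ Over.mk σ₀) (ht : t.left = gK k K)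
  {Z P : Sp S} (s : Z ⟶ (yon S).obj (Over.mk σ₀)) (fst : P ⟶ Z)
  (snd : P ⟶ (yon S).obj (Over.mk τ)) (sq : IsPullback fst snd s ((yon S).map t))

include sq in
/-- `|P| ⟶ |Z|` is open. -/
theorem isOpenMap_fst (hZ : IsAlgSpace Z) : IsOpenMap (Points.map fst) := by
  have huo : IsUnivOpenMor ((yon S).map t) :=
    Groth.Agent.Lib.Helper51.isUnivOpenMor_of_target_field (IsAlgSpace.yon_obj _) k σ₀
      (Iso.refl _) _
  exact huo hZ s snd fst sq.flip

include sq in
/-- `|P| ⟶ |Z|` is surjective. -/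
theorem surjective_fst : Function.Surjective (Points.map fst) := by
  intro z
  haveI : Subsingleton ↥(Over.mk σ₀).left := inferInstanceAs (Subsingleton (PrimeSpectrum k))
  have h : Points.map s z = Points.map ((yon S).map t)
      (Points.ofScheme (Over.mk τ) (IsLocalRing.closedPoint K)) :=
    (Points.schemeEquiv _).symm.injective (Subsingleton.elim _ _)
  obtain ⟨ξ, hξ, -⟩ := Groth.Agent.H52.exists_point_of_isPullback sq z _ h
  exact ⟨ξ, hξ⟩

include sq in
/-- `|P| ⟶ |Z|` is a quotient map. -/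
theorem isQuotientMap_fst (hZ : IsAlgSpace Z) : Topology.IsQuotientMap (Points.map fst) :=
  (isOpenMap_fst k K σ₀ τ t s fst snd sq hZ).isQuotientMap (Points.continuous_map fst)
    (surjective_fst k K σ₀ τ t s fst snd sq)

/-- A subset of `|P|` stable under the Galois group is saturated for `|P| ⟶ |Z|`. -/
theorem preimage_image_eq_of_stable [IsGalois k K] (hZ : IsAlgSpace Z) (T : Set (Points P))
    (hT : ∀ γ : K ≃ₐ[k] K, Points.map (act k K σ₀ τ t ht s fst snd sq γ) '' T ⊆ T) :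
    Points.map fst ⁻¹' (Points.map fst '' T) = T := by
  apply Set.Subset.antisymm
  · rintro p ⟨q, hq, hqp⟩
    obtain ⟨γ, hγ⟩ := exists_act_eq k K σ₀ τ t ht s fst snd sq hZ q p hqp
    rw [← hγ]
    exact hT γ ⟨q, hq, rfl⟩
  · exact Set.subset_preimage_image _ _

/-- A closed subset of `|P|` stable under the Galois group is the preimage of a closed subset
of `|Z|`. -/
theorem exists_isClosed_preimage_eq [IsGalois k K] (hZ : IsAlgSpace Z) (T : Set (Points P))
    (hTc : IsClosed T)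
    (hT : ∀ γ : K ≃ₐ[k] K, Points.map (act k K σ₀ τ t ht s fst snd sq γ) '' T ⊆ T) :
    ∃ T₀ : Set (Points Z), IsClosed T₀ ∧ Points.map fst ⁻¹' T₀ = T := by
  have hsat := preimage_image_eq_of_stable k K σ₀ τ t ht s fst snd sq hZ T hT
  refine ⟨Points.map fst '' T, ?_, hsat⟩
  rw [← (isQuotientMap_fst k K σ₀ τ t s fst snd sq hZ).isClosed_preimage, hsat]
  exact hTc

/-- Stability under `γ` and `γ⁻¹` (as inclusions) gives equality. -/
theorem image_act_eq_of_subset (T : Set (Points P)) (γ : K ≃ₐ[k] K)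
    (h1 : Points.map (act k K σ₀ τ t ht s fst snd sq γ) '' T ⊆ T)
    (h2 : Points.map (act k K σ₀ τ t ht s fst snd sq γ⁻¹) '' T ⊆ T) :
    Points.map (act k K σ₀ τ t ht s fst snd sq γ) '' T = T := by
  apply Set.Subset.antisymm h1
  intro p hp
  refine ⟨Points.map (act k K σ₀ τ t ht s fst snd sq γ⁻¹) p, h2 ⟨p, hp, rfl⟩, ?_⟩
  exact map_act_act_symm k K σ₀ τ t ht s fst snd sq γ p

/-- A quasi-compact open subset of `|P|` is stabilised by an open subgroup of the Galois group. -/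
theorem exists_fixing_of_isCompact_isOpen [Algebra.IsIntegral k K] (hZ : IsAlgSpace Z)
    (V : Set (Points P)) (hV : IsOpen V) (hVc : IsCompact V) :
    ∃ E : IntermediateField k K, FiniteDimensional k ↥E ∧
      ∀ γ : K ≃ₐ[k] K, γ ∈ E.fixingSubgroup →
        Points.map (act k K σ₀ τ t ht s fst snd sq γ) '' V = V := by
  have hcont := continuous_act k K σ₀ τ t ht s fst snd sq hZ
  have hn : IsOpen ((fun x : (K ≃ₐ[k] K) × Points P =>
      Points.map (act k K σ₀ τ t ht s fst snd sq x.1) x.2) ⁻¹' V) := hV.preimage hcont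
  have hp : ({1} : Set (K ≃ₐ[k] K)) ×ˢ V ⊆ (fun x : (K ≃ₐ[k] K) × Points P =>
      Points.map (act k K σ₀ τ t ht s fst snd sq x.1) x.2) ⁻¹' V := by
    rintro ⟨γ, v⟩ ⟨hγ, hv⟩
    rw [Set.mem_singleton_iff] at hγ
    subst hγ
    change Points.map (act k K σ₀ τ t ht s fst snd sq 1) v ∈ V
    rw [act_one, Points.map_id]
    exact hv
  obtain ⟨u, v, hu, -, h1u, hVv, huv⟩ := generalized_tube_lemma isCompact_singleton hVc hn hp
  have hu1 : u ∈ nhds (1 : K ≃ₐ[k] K) := hu.mem_nhds (h1u rfl)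
  obtain ⟨E, hE, hEu⟩ := (krullTopology_mem_nhds_one_iff k K u).mp hu1
  refine ⟨E, hE, ?_⟩
  have hsub : ∀ γ : K ≃ₐ[k] K, γ ∈ E.fixingSubgroup →
      Points.map (act k K σ₀ τ t ht s fst snd sq γ) '' V ⊆ V := by
    rintro γ hγ _ ⟨w, hw, rfl⟩
    have h3 := huv (show (γ, w) ∈ u ×ˢ v from ⟨hEu hγ, hVv hw⟩)
    exact h3
  intro γ hγ
  exact image_act_eq_of_subset k K σ₀ τ t ht s fst snd sq V γ (hsub γ hγ)
    (hsub γ⁻¹ (inv_mem hγ))

/-- Every point of an open and closed subset `A` of `|P|` has an open and closed neighbourhood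
inside `A` which is stabilised by an open subgroup of the Galois group. -/
theorem exists_isClopen_stable [IsGalois k K] (hZ : IsAlgSpace Z)
    (A : Set (Points P)) (hA : IsClopen A) (p₀ : Points P) (hp₀ : p₀ ∈ A) :
    ∃ (E : IntermediateField k K) (U : Set (Points P)), FiniteDimensional k ↥E ∧ IsClopen U ∧
      p₀ ∈ U ∧ U ⊆ A ∧ ∀ γ : K ≃ₐ[k] K, γ ∈ E.fixingSubgroup →
        Points.map (act k K σ₀ τ t ht s fst snd sq γ) '' U ⊆ U := by
  obtain ⟨m, hm⟩ : ∃ m : (K ≃ₐ[k] K) × Points P → Points P,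
      ∀ γ p, m (γ, p) = Points.map (act k K σ₀ τ t ht s fst snd sq γ) p :=
    ⟨fun x => Points.map (act k K σ₀ τ t ht s fst snd sq x.1) x.2, fun _ _ => rfl⟩
  have hcont : Continuous m := by
    have h0 := continuous_act k K σ₀ τ t ht s fst snd sq hZ
    have : m = fun x : (K ≃ₐ[k] K) × Points P =>
        Points.map (act k K σ₀ τ t ht s fst snd sq x.1) x.2 := by
      funext x; exact hm x.1 x.2
    rw [this]; exact h0
  have h1 : ∀ p, m (1, p) = p := fun p => by rw [hm, act_one, Points.map_id]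
  have hmul : ∀ γ δ p, m (δ, m (γ, p)) = m (γ * δ, p) := fun γ δ p => by
    rw [hm, hm, hm, act_mul, Points.map_comp]
  have hN : {γ : K ≃ₐ[k] K | m (γ, p₀) ∈ A} ∈ nhds (1 : K ≃ₐ[k] K) :=
    mem_nhds_setOf_mem m hcont A hA.2 1 p₀ (by rw [h1]; exact hp₀)
  obtain ⟨E, hE, hEN⟩ := (krullTopology_mem_nhds_one_iff k K _).mp hN
  haveI := hE
  have hHc : IsCompact (E.fixingSubgroup : Set (K ≃ₐ[k] K)) :=
    E.fixingSubgroup_isClosed.isCompact
  refine ⟨E, {p | ∀ γ ∈ (E.fixingSubgroup : Set (K ≃ₐ[k] K)), m (γ, p) ∈ A}, hE,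
    isClopen_setOf_forall_mem m hcont _ hHc A hA, ?_, ?_, ?_⟩
  · intro γ hγ
    exact hEN hγ
  · intro p hp
    have := hp 1 (one_mem E.fixingSubgroup)
    rwa [h1] at this
  · rintro γ hγ _ ⟨p, hp, rfl⟩ δ hδ
    rw [← hm, hmul]
    exact hp (γ * δ) (mul_mem hγ hδ)

end Groth.Agent.Lib.Helper78.GalSp
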