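import Groth.Agent.Lib.Helper78.GalSp2

/-!
# The Galois action on `X_K` for an algebraic space `X` over a field `k` (helper78)

Specialisation of the relative machinery of `GalSp`, `GalSp2` to `X_K = X × Spec K` over `Spec k`,
both for `X_K ⟶ X` and for `X_K ⟶ X_E` with `E` an intermediate field.
-/

set_option autoImplicit false
universe u
open CategoryTheory CategoryTheory.Limits AlgebraicGeometry Opposite AlgSp

namespace Groth.Agent.Lib.Helper78.GalSp

section base

variable (k K : Type u) [Field k] [Field K] [Algebra k K]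

/-- `Spec K ⟶ Spec k` as a morphism to the terminal object of `Over (Spec k)`. -/
noncomputable def baseOver : (Over.mk (gK k K) : Over (Spec (CommRingCat.of k))) ⟶
    Over.mk (𝟙 (Spec (CommRingCat.of k))) :=
  Over.homMk (gK k K) (Category.comp_id _)

theorem baseOver_left : (baseOver k K).left = gK k K := rfl

/-- The automorphism of `Spec K` over `Spec k` attached to `γ`. -/
noncomputable abbrev baseGal (γ : K ≃ₐ[k] K) :
    (Over.mk (gK k K) : Over (Spec (CommRingCat.of k))) ⟶ Over.mk (gK k K) :=
  galOver k K (𝟙 _) (gK k K) (baseOver k K) (baseOver_left k K) γ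

theorem eq_baseGal (σ : K ≃ₐ[k] K)
    (g : (Over.mk (gK k K) : Over (Spec (CommRingCat.of k))) ⟶ Over.mk (gK k K))
    (hg : g.left = Spec.map (CommRingCat.ofHom (σ : K ≃ₐ[k] K).toRingHom)) :
    g = baseGal k K σ := by
  apply Over.OverMorphism.ext
  rw [hg]
  rfl

variable (X : Sp (Spec (CommRingCat.of k)))

theorem baseSq : IsPullback
    (prod.fst : X ⨯ (yon (Spec (CommRingCat.of k))).obj (Over.mk (gK k K)) ⟶ X) prod.snd
    ((Groth.Agent.H52.yonBaseIsTerminal (Spec (CommRingCat.of k))).from X)
    ((yon (Spec (CommRingCat.of k))).map (baseOver k K)) := by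
  have h := IsPullback.of_is_product'
    (prodIsProd X ((yon (Spec (CommRingCat.of k))).obj (Over.mk (gK k K))))
    (Groth.Agent.H52.yonBaseIsTerminal (Spec (CommRingCat.of k)))
  have e : (Groth.Agent.H52.yonBaseIsTerminal (Spec (CommRingCat.of k))).from
      ((yon (Spec (CommRingCat.of k))).obj (Over.mk (gK k K))) =
      (yon (Spec (CommRingCat.of k))).map (baseOver k K) :=
    (Groth.Agent.H52.yonBaseIsTerminal (Spec (CommRingCat.of k))).hom_ext _ _
  rw [e] at h
  exact h

/-- The action of `γ` on `X_K`. -/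
noncomputable abbrev baseAct (γ : K ≃ₐ[k] K) :
    X ⨯ (yon (Spec (CommRingCat.of k))).obj (Over.mk (gK k K)) ⟶
      X ⨯ (yon (Spec (CommRingCat.of k))).obj (Over.mk (gK k K)) :=
  prod.map (𝟙 X) ((yon (Spec (CommRingCat.of k))).map (baseGal k K γ))

theorem act_base (γ : K ≃ₐ[k] K) :
    act k K (𝟙 _) (gK k K) (baseOver k K) (baseOver_left k K)
      ((Groth.Agent.H52.yonBaseIsTerminal (Spec (CommRingCat.of k))).from X) prod.fst prod.snd
      (baseSq k K X) γ = baseAct k K X γ := by
  symm
  apply eq_act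
  · rw [prod.map_fst, Category.comp_id]
  · rw [prod.map_snd]

/-- A closed subset of `|X_K|` stable under the Galois group is the preimage of a closed subset
of `|X|`. -/
theorem base_exists_isClosed_preimage_eq [IsGalois k K] (hX : IsAlgSpace X)
    (T : Set (Points (X ⨯ (yon (Spec (CommRingCat.of k))).obj (Over.mk (gK k K)))))
    (hTc : IsClosed T) (hT : ∀ γ : K ≃ₐ[k] K, Points.map (baseAct k K X γ) '' T ⊆ T) :
    ∃ T₀ : Set (Points X), IsClosed T₀ ∧
      Points.map (prod.fst : X ⨯ (yon (Spec (CommRingCat.of k))).obj (Over.mk (gK k K)) ⟶ X) ⁻¹' T₀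
        = T := by
  apply exists_isClosed_preimage_eq k K (𝟙 _) (gK k K) (baseOver k K) (baseOver_left k K)
    ((Groth.Agent.H52.yonBaseIsTerminal (Spec (CommRingCat.of k))).from X) prod.fst prod.snd
    (baseSq k K X) hX T hTc
  intro γ
  rw [act_base]
  exact hT γ

/-- A quasi-compact open subset of `|X_K|` is stabilised by an open subgroup of the Galois
group. -/
theorem base_exists_fixing [IsGalois k K] (hX : IsAlgSpace X)
    (V : Set (Points (X ⨯ (yon (Spec (CommRingCat.of k))).obj (Over.mk (gK k K)))))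
    (hV : IsOpen V) (hVc : IsCompact V) :
    ∃ E : IntermediateField k K, FiniteDimensional k ↥E ∧
      ∀ γ : K ≃ₐ[k] K, γ ∈ E.fixingSubgroup → Points.map (baseAct k K X γ) '' V = V := by
  obtain ⟨E, hE, h⟩ := exists_fixing_of_isCompact_isOpen k K (𝟙 _) (gK k K) (baseOver k K)
    (baseOver_left k K)
    ((Groth.Agent.H52.yonBaseIsTerminal (Spec (CommRingCat.of k))).from X) prod.fst prod.snd
    (baseSq k K X) hX V hV hVc
  refine ⟨E, hE, fun γ hγ => ?_⟩
  have := h γ hγ
  rwa [act_base] at this

/-- Clopen neighbourhoods stabilised by an open subgroup. -/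
theorem base_exists_isClopen_stable [IsGalois k K] (hX : IsAlgSpace X)
    (A : Set (Points (X ⨯ (yon (Spec (CommRingCat.of k))).obj (Over.mk (gK k K)))))
    (hA : IsClopen A) (p₀ : Points (X ⨯ (yon (Spec (CommRingCat.of k))).obj (Over.mk (gK k K))))
    (hp₀ : p₀ ∈ A) :
    ∃ (E : IntermediateField k K)
      (U : Set (Points (X ⨯ (yon (Spec (CommRingCat.of k))).obj (Over.mk (gK k K))))),
      FiniteDimensional k ↥E ∧ IsClopen U ∧ p₀ ∈ U ∧ U ⊆ A ∧
        ∀ γ : K ≃ₐ[k] K, γ ∈ E.fixingSubgroup → Points.map (baseAct k K X γ) '' U ⊆ U := by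
  obtain ⟨E, U, hE, hU, hpU, hUA, h⟩ := exists_isClopen_stable k K (𝟙 _) (gK k K) (baseOver k K)
    (baseOver_left k K)
    ((Groth.Agent.H52.yonBaseIsTerminal (Spec (CommRingCat.of k))).from X) prod.fst prod.snd
    (baseSq k K X) hX A hA p₀ hp₀
  refine ⟨E, U, hE, hU, hpU, hUA, fun γ hγ => ?_⟩
  have := h γ hγ
  rwa [act_base] at this

end base

section tower

variable (k E K : Type u) [Field k] [Field E] [Field K] [Algebra k E] [Algebra E K] [Algebra k K]
  [IsScalarTower k E K]

/-- `Spec K ⟶ Spec E` over `Spec k`. -/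
noncomputable def towerOver : (Over.mk (gK k K) : Over (Spec (CommRingCat.of k))) ⟶
    Over.mk (gK k E) :=
  Over.homMk (gK E K) (by
    change gK E K ≫ gK k E = gK k K
    rw [← Spec.map_comp, ← CommRingCat.ofHom_comp, ← IsScalarTower.algebraMap_eq])

theorem towerOver_left : (towerOver k E K).left = gK E K := rfl

/-- The automorphism of `Spec K` over `Spec k` attached to an `E`-automorphism `γ`. -/
noncomputable abbrev towerGal (γ : K ≃ₐ[E] K) :
    (Over.mk (gK k K) : Over (Spec (CommRingCat.of k))) ⟶ Over.mk (gK k K) :=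
  galOver E K (gK k E) (gK k K) (towerOver k E K) (towerOver_left k E K) γ

theorem towerGal_eq_baseGal (γ : K ≃ₐ[E] K) :
    towerGal k E K γ = baseGal k K (γ.restrictScalars k) := by
  apply Over.OverMorphism.ext
  rfl

variable (X : Sp (Spec (CommRingCat.of k)))

/-- The projection `X_K ⟶ X_E`. -/
noncomputable abbrev towerMap :
    X ⨯ (yon (Spec (CommRingCat.of k))).obj (Over.mk (gK k K)) ⟶
      X ⨯ (yon (Spec (CommRingCat.of k))).obj (Over.mk (gK k E)) :=
  prod.map (𝟙 X) ((yon (Spec (CommRingCat.of k))).map (towerOver k E K))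

theorem towerSq : IsPullback (towerMap k E K X) prod.snd prod.snd
    ((yon (Spec (CommRingCat.of k))).map (towerOver k E K)) :=
  (isPullback_prod_snd_with_id ((yon (Spec (CommRingCat.of k))).map (towerOver k E K)) X).flip

theorem act_tower (γ : K ≃ₐ[E] K) :
    act E K (gK k E) (gK k K) (towerOver k E K) (towerOver_left k E K) prod.snd
      (towerMap k E K X) prod.snd (towerSq k E K X) γ =
      baseAct k K X (γ.restrictScalars k) := by
  symm
  apply eq_act
  · rw [prod.map_map, Category.comp_id, ← Functor.map_comp, ← towerGal_eq_baseGal,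
      galOver_comp_t]
  · rw [prod.map_snd, ← towerGal_eq_baseGal]

theorem isOpenMap_towerMap (hX : IsAlgSpace X) : IsOpenMap (Points.map (towerMap k E K X)) :=
  isOpenMap_fst E K (gK k E) (gK k K) (towerOver k E K) prod.snd (towerMap k E K X) prod.snd
    (towerSq k E K X) (isAlgSpace_prod hX (IsAlgSpace.yon_obj _))

theorem isQuotientMap_towerMap (hX : IsAlgSpace X) :
    Topology.IsQuotientMap (Points.map (towerMap k E K X)) :=
  isQuotientMap_fst E K (gK k E) (gK k K) (towerOver k E K) prod.snd (towerMap k E K X) prod.snd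
    (towerSq k E K X) (isAlgSpace_prod hX (IsAlgSpace.yon_obj _))

/-- A subset of `|X_K|` stable under `Gal(K/E)` is saturated for `|X_K| ⟶ |X_E|`. -/
theorem tower_preimage_image_eq [IsGalois E K] (hX : IsAlgSpace X)
    (T : Set (Points (X ⨯ (yon (Spec (CommRingCat.of k))).obj (Over.mk (gK k K)))))
    (hT : ∀ γ : K ≃ₐ[E] K, Points.map (baseAct k K X (γ.restrictScalars k)) '' T ⊆ T) :
    Points.map (towerMap k E K X) ⁻¹' (Points.map (towerMap k E K X) '' T) = T := by
  apply preimage_image_eq_of_stable E K (gK k E) (gK k K) (towerOver k E K)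
    (towerOver_left k E K) prod.snd
    (towerMap k E K X) prod.snd (towerSq k E K X) (isAlgSpace_prod hX (IsAlgSpace.yon_obj _)) T
  intro γ
  rw [act_tower]
  exact hT γ

end tower

section intermediate

variable (k K : Type u) [Field k] [Field K] [Algebra k K] (E : IntermediateField k K)

theorem restrictScalars_mem_fixingSubgroup (γ : K ≃ₐ[↥E] K) :
    γ.restrictScalars k ∈ E.fixingSubgroup := by
  rw [IntermediateField.mem_fixingSubgroup_iff]
  intro x hx
  exact γ.commutes ⟨x, hx⟩

variable (X : Sp (Spec (CommRingCat.of k)))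

/-- A subset of `|X_K|` stable under the fixing subgroup of `E` is saturated for
`|X_K| ⟶ |X_E|`. -/
theorem intermediate_preimage_image_eq [IsGalois k K] (hX : IsAlgSpace X)
    (T : Set (Points (X ⨯ (yon (Spec (CommRingCat.of k))).obj (Over.mk (gK k K)))))
    (hT : ∀ γ : K ≃ₐ[k] K, γ ∈ E.fixingSubgroup → Points.map (baseAct k K X γ) '' T ⊆ T) :
    Points.map (towerMap k (↥E) K X) ⁻¹' (Points.map (towerMap k (↥E) K X) '' T) = T :=
  tower_preimage_image_eq k (↥E) K X hX T
    (fun γ => hT _ (restrictScalars_mem_fixingSubgroup k K E γ))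

end intermediate

end Groth.Agent.Lib.Helper78.GalSp
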