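import Groth.Agent.Lib.Helper78.GalSp3

/-!
# Connectedness of `Z ×_k K` for a Galois extension `K/k`, relative form (helper78)

Let `Z` be an algebraic space over `S` with a morphism to `Spec k`, and `K/k` a Galois extension.
If `Z ×_k E` is connected for every finite subextension `E` of `K/k` then `Z ×_k K` is connected.
-/

set_option autoImplicit false
universe u
open CategoryTheory CategoryTheory.Limits AlgebraicGeometry Opposite AlgSp

namespace Groth.Agent.Lib.Helper78.GalSp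

/-- Pasting: a pullback along a composite factors through the pullback along the second map. -/
theorem exists_isPullback_of_comp {C : Type*} [Category C] {X Y A B P₁ P₂ : C} (f : X ⟶ Y)
    (y₁ : A ⟶ Y) (t : B ⟶ A) (fst₁ : P₁ ⟶ X) (snd₁ : P₁ ⟶ A) (sq₁ : IsPullback fst₁ snd₁ f y₁)
    (fst₂ : P₂ ⟶ X) (snd₂ : P₂ ⟶ B) (sq₂ : IsPullback fst₂ snd₂ f (t ≫ y₁)) :
    ∃ m : P₂ ⟶ P₁, m ≫ fst₁ = fst₂ ∧ IsPullback m snd₂ snd₁ t := by
  have hw : fst₂ ≫ f = (snd₂ ≫ t) ≫ y₁ := by rw [Category.assoc]; exact sq₂.w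
  refine ⟨sq₁.lift fst₂ (snd₂ ≫ t) hw, sq₁.lift_fst _ _ _, ?_⟩
  refine IsPullback.of_right ?_ (sq₁.lift_snd _ _ _) sq₁
  rw [sq₁.lift_fst]
  exact sq₂

/-- The base change of a morphism of one-point schemes (nonempty source) is surjective on
points. -/
theorem surjective_points_of_isPullback_subsingleton {S : Scheme.{u}} {A₁ A₂ : Over S}
    [Subsingleton ↥A₁.left] [Nonempty ↥A₂.left] (t : A₂ ⟶ A₁)
    {Z P : Sp S} (s : Z ⟶ (yon S).obj A₁) (fst : P ⟶ Z) (snd : P ⟶ (yon S).obj A₂)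
    (sq : IsPullback fst snd s ((yon S).map t)) :
    Function.Surjective (Points.map fst) := by
  intro z
  obtain ⟨a₂⟩ := (inferInstance : Nonempty ↥A₂.left)
  have h : Points.map s z = Points.map ((yon S).map t) (Points.ofScheme A₂ a₂) :=
    (Points.schemeEquiv _).symm.injective (Subsingleton.elim _ _)
  obtain ⟨ξ, hξ, -⟩ := Groth.Agent.H52.exists_point_of_isPullback sq z _ h
  exact ⟨ξ, hξ⟩

/-- If the fibre of `f` over a point `y₂` is connected and `y₂` factors through the point `y₁`,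
then the fibre over `y₁` is connected. -/
theorem connectedSpace_of_isPullback_comp {S : Scheme.{u}} {X Y : Sp S} (f : X ⟶ Y)
    {A₁ A₂ : Over S} [Subsingleton ↥A₁.left] [Nonempty ↥A₂.left]
    (y₁ : (yon S).obj A₁ ⟶ Y) (y₂ : (yon S).obj A₂ ⟶ Y) (t : A₂ ⟶ A₁)
    (hy : y₂ = (yon S).map t ≫ y₁) {P₁ P₂ : Sp S}
    (fst₁ : P₁ ⟶ X) (snd₁ : P₁ ⟶ (yon S).obj A₁) (sq₁ : IsPullback fst₁ snd₁ f y₁)
    (fst₂ : P₂ ⟶ X) (snd₂ : P₂ ⟶ (yon S).obj A₂) (sq₂ : IsPullback fst₂ snd₂ f y₂)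
    [ConnectedSpace (Points P₂)] : ConnectedSpace (Points P₁) := by
  subst hy
  obtain ⟨m, -, sqm⟩ := exists_isPullback_of_comp f y₁ ((yon S).map t) fst₁ snd₁ sq₁ fst₂ snd₂ sq₂
  exact (surjective_points_of_isPullback_subsingleton t snd₁ m snd₂ sqm).connectedSpace
    (Points.continuous_map m)

theorem gK_tower (k E K : Type u) [Field k] [Field E] [Field K] [Algebra k E] [Algebra E K]
    [Algebra k K] [IsScalarTower k E K] : gK E K ≫ gK k E = gK k K := by
  rw [← Spec.map_comp, ← CommRingCat.ofHom_comp, ← IsScalarTower.algebraMap_eq]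

section relTower

variable {S : Scheme.{u}} (k K : Type u) [Field k] [Field K] [Algebra k K]
  (σ₀ : Spec (CommRingCat.of k) ⟶ S) (τ : Spec (CommRingCat.of K) ⟶ S)
  (t : Over.mk τ ⟶ Over.mk σ₀) (ht : t.left = gK k K)
  {Z P : Sp S} (s : Z ⟶ (yon S).obj (Over.mk σ₀)) (fst : P ⟶ Z)
  (snd : P ⟶ (yon S).obj (Over.mk τ)) (sq : IsPullback fst snd s ((yon S).map t))
  (E : IntermediateField k K)

/-- `Spec E ⟶ S`. -/
noncomputable abbrev σE : Spec (CommRingCat.of ↥E) ⟶ S := gK k ↥E ≫ σ₀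

/-- `Spec E ⟶ Spec k` over `S`. -/
noncomputable def tE : Over.mk (σE k K σ₀ E) ⟶ Over.mk σ₀ := Over.homMk (gK k ↥E) rfl

include ht in
theorem tKE_aux : gK ↥E K ≫ σE k K σ₀ E = τ := by
  have h1 := gK_comp_σ₀ k K σ₀ τ t ht
  rw [← h1, ← gK_tower k ↥E K, Category.assoc]

/-- `Spec K ⟶ Spec E` over `S`. -/
noncomputable def tKE : Over.mk τ ⟶ Over.mk (σE k K σ₀ E) :=
  Over.homMk (gK ↥E K) (tKE_aux k K σ₀ τ t ht E)

theorem tKE_left : (tKE k K σ₀ τ t ht E).left = gK ↥E K := rfl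

theorem tKE_comp_tE : tKE k K σ₀ τ t ht E ≫ tE k K σ₀ E = t := by
  apply Over.OverMorphism.ext
  change gK ↥E K ≫ gK k ↥E = t.left
  rw [ht, gK_tower]

theorem galOver_tower (γ : K ≃ₐ[↥E] K) :
    galOver ↥E K (σE k K σ₀ E) τ (tKE k K σ₀ τ t ht E) (tKE_left k K σ₀ τ t ht E) γ =
      galOver k K σ₀ τ t ht (γ.restrictScalars k) := by
  apply Over.OverMorphism.ext
  rfl

variable {ZE : Sp S} (fstE : ZE ⟶ Z) (sndE : ZE ⟶ (yon S).obj (Over.mk (σE k K σ₀ E)))
  (sqE : IsPullback fstE sndE s ((yon S).map (tE k K σ₀ E)))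

include sq sqE in
theorem exists_tower_map : ∃ m : P ⟶ ZE, m ≫ fstE = fst ∧
    IsPullback m snd sndE ((yon S).map (tKE k K σ₀ τ t ht E)) := by
  apply exists_isPullback_of_comp s ((yon S).map (tE k K σ₀ E))
    ((yon S).map (tKE k K σ₀ τ t ht E)) fstE sndE sqE fst snd
  rw [← Functor.map_comp, tKE_comp_tE]
  exact sq

theorem act_tower_rel (m : P ⟶ ZE) (hm : m ≫ fstE = fst)
    (sqm : IsPullback m snd sndE ((yon S).map (tKE k K σ₀ τ t ht E))) (γ : K ≃ₐ[↥E] K) :
    act ↥E K (σE k K σ₀ E) τ (tKE k K σ₀ τ t ht E) (tKE_left k K σ₀ τ t ht E) sndE m snd sqm γ =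
      act k K σ₀ τ t ht s fst snd sq (γ.restrictScalars k) := by
  apply eq_act
  · rw [← hm, ← Category.assoc, act_fst]
  · rw [act_snd, galOver_tower]

theorem rel_preimage_image_eq [IsGalois k K] (hZE : IsAlgSpace ZE) (m : P ⟶ ZE)
    (hm : m ≫ fstE = fst)
    (sqm : IsPullback m snd sndE ((yon S).map (tKE k K σ₀ τ t ht E))) (T : Set (Points P))
    (hT : ∀ γ : K ≃ₐ[k] K, γ ∈ E.fixingSubgroup →
      Points.map (act k K σ₀ τ t ht s fst snd sq γ) '' T ⊆ T) :
    Points.map m ⁻¹' (Points.map m '' T) = T := by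
  apply preimage_image_eq_of_stable ↥E K (σE k K σ₀ E) τ (tKE k K σ₀ τ t ht E)
    (tKE_left k K σ₀ τ t ht E) sndE m snd sqm hZE T
  intro γ
  rw [act_tower_rel k K σ₀ τ t ht s fst snd sq E fstE sndE m hm sqm γ]
  exact hT _ (restrictScalars_mem_fixingSubgroup k K E γ)

end relTower

section main

variable {S : Scheme.{u}} (k K : Type u) [Field k] [Field K] [Algebra k K]
  (σ₀ : Spec (CommRingCat.of k) ⟶ S) (τ : Spec (CommRingCat.of K) ⟶ S)
  (t : Over.mk τ ⟶ Over.mk σ₀) (ht : t.left = gK k K)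
  {Z P : Sp S} (s : Z ⟶ (yon S).obj (Over.mk σ₀)) (fst : P ⟶ Z)
  (snd : P ⟶ (yon S).obj (Over.mk τ)) (sq : IsPullback fst snd s ((yon S).map t))

include ht sq in
/-- If `Z ×_k E` is connected for all finite subextensions `E` of the Galois extension `K/k`,
then `P = Z ×_k K` is connected. -/
theorem connectedSpace_of_forall_finite [IsGalois k K] (hZ : IsAlgSpace Z)
    (H : ∀ E : IntermediateField k K, FiniteDimensional k ↥E →
      ConnectedSpace (Points (pullback s ((yon S).map (tE k K σ₀ E))))) :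
    ConnectedSpace (Points P) := by
  have key : ∀ E : IntermediateField k K,
      ∃ m : P ⟶ pullback s ((yon S).map (tE k K σ₀ E)),
        Function.Surjective (Points.map m) ∧ Topology.IsQuotientMap (Points.map m) ∧
        ∀ T : Set (Points P), (∀ γ : K ≃ₐ[k] K, γ ∈ E.fixingSubgroup →
          Points.map (act k K σ₀ τ t ht s fst snd sq γ) '' T ⊆ T) →
          Points.map m ⁻¹' (Points.map m '' T) = T := by
    intro E
    have sqE := IsPullback.of_hasPullback s ((yon S).map (tE k K σ₀ E))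
    have hZE : IsAlgSpace (pullback s ((yon S).map (tE k K σ₀ E))) :=
      Groth.Agent.H52.isAlgSpace_of_isPullback sqE hZ (IsAlgSpace.yon_obj _)
        (IsAlgSpace.yon_obj _)
    obtain ⟨m, hm, sqm⟩ := exists_tower_map k K σ₀ τ t ht s fst snd sq E _ _ sqE
    exact ⟨m, surjective_fst ↥E K (σE k K σ₀ E) τ (tKE k K σ₀ τ t ht E) _ m snd sqm,
      isQuotientMap_fst ↥E K (σE k K σ₀ E) τ (tKE k K σ₀ τ t ht E) _ m snd sqm hZE,
      fun T hT => rel_preimage_image_eq k K σ₀ τ t ht s fst snd sq E _ _ hZE m hm sqm T hT⟩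
  have hne : Nonempty (Points P) := by
    obtain ⟨m, hms, -, -⟩ := key ⊥
    haveI := H ⊥ inferInstance
    obtain ⟨x⟩ := (inferInstance : Nonempty (Points (pullback s ((yon S).map (tE k K σ₀ ⊥)))))
    obtain ⟨y, -⟩ := hms x
    exact ⟨y⟩
  have hpre : PreconnectedSpace (Points P) := by
    rw [preconnectedSpace_iff_clopen]
    intro A hA
    by_cases hAe : A = ∅
    · exact Or.inl hAe
    right
    obtain ⟨p₀, hp₀⟩ := Set.nonempty_iff_ne_empty.mpr hAe
    obtain ⟨E, U, hE, hU, hpU, hUA, hst⟩ :=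
      exists_isClopen_stable k K σ₀ τ t ht s fst snd sq hZ A hA p₀ hp₀
    obtain ⟨m, -, hq, hsatAll⟩ := key E
    have hsat := hsatAll U hst
    have hcl : IsClopen (Points.map m '' U) := by
      constructor
      · rw [← hq.isClosed_preimage, hsat]; exact hU.1
      · rw [← hq.isOpen_preimage, hsat]; exact hU.2
    haveI := H E hE
    rcases isClopen_iff.mp hcl with h0 | h1
    · exfalso
      have hmem : Points.map m p₀ ∈ Points.map m '' U := ⟨p₀, hpU, rfl⟩
      rw [h0] at hmem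
      exact hmem
    · have hUu : U = Set.univ := by rw [← hsat, h1, Set.preimage_univ]
      apply Set.eq_univ_of_univ_subset
      rw [← hUu]
      exact hUA
  exact { toPreconnectedSpace := hpre, toNonempty := hne }

end main

end Groth.Agent.Lib.Helper78.GalSp
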