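import Groth.Agent.H52.FibreConds
import Groth.Agent.H52.QC5
import Groth.Agent.Lib.Helper51.OverField

/-!
# Connected components and products with geometrically connected spaces (helper78)

A morphism of sheaves which is open on points and whose fibres over field points have connected
spaces of points induces a bijection on connected components.  Applied to the projections of a
product over a field.
-/

set_option autoImplicit false
universe u
open CategoryTheory CategoryTheory.Limits AlgebraicGeometry Opposite AlgSp

namespace Groth.Agent.Lib.Helper78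

/-- The snd-version of Mathlib's `IsPullback.of_prod_fst_with_id`. -/
theorem isPullback_prod_snd_with_id {C : Type*} [Category C] {A B : C} (f : A ⟶ B) (X : C)
    [HasBinaryProduct X A] [HasBinaryProduct X B] :
    IsPullback prod.snd (prod.map (𝟙 X) f) f prod.snd := by
  refine ⟨⟨by rw [prod.map_snd]⟩, ⟨PullbackCone.IsLimit.mk _
    (fun s => prod.lift (s.snd ≫ prod.fst) s.fst) ?_ ?_ ?_⟩⟩
  · intro s
    exact prod.lift_snd _ _
  · intro s
    apply Limits.prod.hom_ext
    · rw [Category.assoc, prod.map_fst, Category.comp_id, prod.lift_fst]
    · rw [Category.assoc, prod.map_snd, prod.lift_snd_assoc, s.condition]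
  · intro s m h₁ h₂
    apply Limits.prod.hom_ext
    · rw [prod.lift_fst, ← h₂, Category.assoc, prod.map_fst, Category.comp_id]
    · rw [prod.lift_snd, h₁]

variable {S : Scheme.{u}}

/-- A morphism of sheaves which is open on points and whose fibres over all field points have
connected spaces of points induces a bijection on connected components. -/
theorem bijective_connectedComponentsMap {P Y : Sp S} (p : P ⟶ Y)
    (hopen : IsOpenMap (Points.map p))
    (hfib : ∀ r : FieldPt Y, ∃ (Xk : Sp S) (fst : Xk ⟶ P) (snd : Xk ⟶ (yon S).obj r.pt),
      IsPullback fst snd p r.toHom ∧ ConnectedSpace (Points Xk)) :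
    Function.Bijective (Continuous.connectedComponentsMap (Points.continuous_map p)) := by
  have hfib' : ∀ y : Points Y, IsConnected (Points.map p ⁻¹' {y}) := by
    intro y
    obtain ⟨r, rfl⟩ := Points.mk_surjective y
    obtain ⟨Xk, fst, snd, sq, hc⟩ := hfib r
    rw [← Groth.Agent.H52.range_points_map_fst_fibre p r sq]
    exact isConnected_range (Points.continuous_map fst)
  have hsurj : Function.Surjective (Points.map p) := fun y => by
    obtain ⟨x, hx⟩ := (hfib' y).nonempty
    exact ⟨x, hx⟩
  exact (hopen.isQuotientMap (Points.continuous_map p)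
    hsurj).isCoinducing.connectedComponentsMap_bijective hfib'

section field

variable (k : Type u) [Field k]

/-- Over a field, the second projection of a product of algebraic spaces is open on points. -/
theorem isOpenMap_points_prod_snd {X Y : Sp (Spec (CommRingCat.of k))} (hX : IsAlgSpace X)
    (hY : IsAlgSpace Y) : IsOpenMap (Points.map (prod.snd : X ⨯ Y ⟶ Y)) := by
  have hT := Groth.Agent.H52.yonBaseIsTerminal (Spec (CommRingCat.of k))
  have sq : IsPullback (prod.fst : X ⨯ Y ⟶ X) prod.snd (hT.from X) (hT.from Y) :=
    IsPullback.of_is_product' (prodIsProd X Y) hT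
  have huo : IsUnivOpenMor (hT.from X) :=
    Groth.Agent.Lib.Helper51.isUnivOpenMor_of_target_field hX k (𝟙 _) (Iso.refl _) _
  exact huo hY (hT.from Y) prod.fst prod.snd sq

/-- Over a field, the first projection of a product of algebraic spaces is open on points. -/
theorem isOpenMap_points_prod_fst {X Y : Sp (Spec (CommRingCat.of k))} (hX : IsAlgSpace X)
    (hY : IsAlgSpace Y) : IsOpenMap (Points.map (prod.fst : X ⨯ Y ⟶ X)) := by
  have hT := Groth.Agent.H52.yonBaseIsTerminal (Spec (CommRingCat.of k))
  have sq : IsPullback (prod.fst : X ⨯ Y ⟶ X) prod.snd (hT.from X) (hT.from Y) :=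
    IsPullback.of_is_product' (prodIsProd X Y) hT
  have huo : IsUnivOpenMor (hT.from Y) :=
    Groth.Agent.Lib.Helper51.isUnivOpenMor_of_target_field hY k (𝟙 _) (Iso.refl _) _
  exact huo hX (hT.from X) prod.snd prod.fst sq.flip

/-- The `k`-algebra structure on the field of a field point of a sheaf over `Spec k`. -/
@[reducible] noncomputable def fieldPtAlgebra {Y : Sp (Spec (CommRingCat.of k))} (r : FieldPt Y) :
    Algebra k r.K :=
  (Spec.preimage r.str).hom.toAlgebra

theorem fieldPt_str_eq {Y : Sp (Spec (CommRingCat.of k))} (r : FieldPt Y) :
    letI := fieldPtAlgebra k r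
    Spec.map (CommRingCat.ofHom (algebraMap k r.K)) = r.str := by
  letI := fieldPtAlgebra k r
  have : algebraMap k r.K = (Spec.preimage r.str).hom := rfl
  rw [this, CommRingCat.ofHom_hom, Spec.map_preimage]

/-- If all base changes `X_K` of `X` to field extensions have connected spaces of points, then so
does `X ×_k Spec K` for every field point `Spec K` of any sheaf over `Spec k`. -/
theorem connectedSpace_prod_fieldPt {X Y : Sp (Spec (CommRingCat.of k))}
    (hX : ∀ (K : Type u) [Field K] [Algebra k K], ConnectedSpace (Points (X ⨯
      (yon (Spec (CommRingCat.of k))).obj (Over.mk (Spec.map (CommRingCat.ofHom (algebraMap k K)))))))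
    (r : FieldPt Y) : ConnectedSpace (Points (X ⨯ (yon (Spec (CommRingCat.of k))).obj r.pt)) := by
  letI := fieldPtAlgebra k r
  have h := hX r.K
  rw [fieldPt_str_eq k r] at h
  exact h

/-- Product with a geometrically connected space induces a bijection on connected components
(second projection). -/
theorem bijective_connectedComponentsMap_prod_snd {X Y : Sp (Spec (CommRingCat.of k))}
    (hXa : IsAlgSpace X) (hYa : IsAlgSpace Y)
    (hX : ∀ (K : Type u) [Field K] [Algebra k K], ConnectedSpace (Points (X ⨯
      (yon (Spec (CommRingCat.of k))).obj (Over.mk (Spec.map (CommRingCat.ofHom (algebraMap k K))))))) :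
    Function.Bijective (Continuous.connectedComponentsMap
      (Points.continuous_map (prod.snd : X ⨯ Y ⟶ Y))) := by
  refine bijective_connectedComponentsMap _ (isOpenMap_points_prod_snd k hXa hYa) ?_
  intro r
  exact ⟨_, prod.map (𝟙 X) r.toHom, prod.snd, (isPullback_prod_snd_with_id r.toHom X).flip,
    connectedSpace_prod_fieldPt k hX r⟩

end field

end Groth.Agent.Lib.Helper78
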