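import Groth.Agent.Lib.Helper78.GeomConn
import Groth.Agent.Lib.Helper54.GeomReducedBC
import Groth.Agent.S4773

/-!
# Connected components over a separably closed field (helper78)
-/

set_option autoImplicit false
universe u
open CategoryTheory CategoryTheory.Limits AlgebraicGeometry Opposite AlgSp

namespace Groth.Agent.Lib.Helper78

/-- A continuous map inducing a bijection on connected components, with connected target, has
connected source. -/
theorem connectedSpace_of_bijective_connectedComponentsMap {α β : Type*} [TopologicalSpace α]
    [TopologicalSpace β] {f : α → β} (hf : Continuous f)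
    (hb : Function.Bijective hf.connectedComponentsMap) [ConnectedSpace β] : ConnectedSpace α := by
  haveI : Nonempty α := by
    obtain ⟨y⟩ := (inferInstance : Nonempty β)
    obtain ⟨c, -⟩ := hb.2 (ConnectedComponents.mk y)
    exact ConnectedComponents.nonempty_iff_nonempty.1 ⟨c⟩
  refine { toPreconnectedSpace := ⟨?_⟩, toNonempty := inferInstance }
  obtain ⟨x0⟩ := (inferInstance : Nonempty α)
  have hmem : ∀ x : α, x ∈ connectedComponent x0 := by
    intro x
    have h1 : hf.connectedComponentsMap (ConnectedComponents.mk x) =
        hf.connectedComponentsMap (ConnectedComponents.mk x0) := Subsingleton.elim _ _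
    exact ConnectedComponents.coe_eq_coe'.1 (hb.1 h1)
  have huniv : (Set.univ : Set α) = connectedComponent x0 := (Set.eq_univ_of_forall hmem).symm
  rw [huniv]
  exact isPreconnected_connectedComponent

/-- The spectrum of a field is connected. -/
theorem connectedSpace_spec_field (L : Type u) [Field L] :
    ConnectedSpace ↥(Spec (CommRingCat.of L)) := by
  haveI : IrreducibleSpace ↥(Spec (CommRingCat.of L)) :=
    inferInstanceAs (IrreducibleSpace (PrimeSpectrum L))
  infer_instance

/-- Over a separably closed field `k`, `Spec L ×_k Spec K` is connected for fields `L`, `K`. -/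
theorem connectedSpace_pullback_field_of_isSepClosed (k : Type u) [Field k] [IsSepClosed k]
    (L : Type u) [Field L] (f : Spec (CommRingCat.of L) ⟶ Spec (CommRingCat.of k))
    (K : Type u) [Field K] [Algebra k K] :
    ConnectedSpace ↥(pullback f (Spec.map (CommRingCat.ofHom (algebraMap k K)))) := by
  haveI : ConnectedSpace ↥(Spec (CommRingCat.of L)) := connectedSpace_spec_field L
  have hgc : GeometricallyConnected f := by
    rw [Groth.Agent.S4773.result f]
    intro K' _ _ _ _
    have hbij : Function.Bijective (algebraMap k K') := IsSepClosed.algebraMap_bijective k K'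
    haveI : IsIso (CommRingCat.ofHom (algebraMap k K')) :=
      (ConcreteCategory.isIso_iff_bijective _).2 hbij
    haveI : IsIso (Spec.map (CommRingCat.ofHom (algebraMap k K'))) := inferInstance
    haveI : IsIso (pullback.fst f (Spec.map (CommRingCat.ofHom (algebraMap k K')))) :=
      inferInstance
    exact (pullback.fst f
      (Spec.map (CommRingCat.ofHom (algebraMap k K')))).homeomorph.connectedSpace_iff.2
        inferInstance
  exact hgc.geometrically_connectedSpace (Spec.map (CommRingCat.ofHom (algebraMap k K)))
    (pullback.fst _ _) (pullback.snd _ _) (IsPullback.of_hasPullback _ _)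

/-- Over a separably closed field, the product of the spectrum of a field (given as a field
point) and the spectrum of a field extension has a connected space of points. -/
theorem connectedSpace_points_prod_fieldPt_of_isSepClosed (k : Type u) [Field k] [IsSepClosed k]
    {X : Sp (Spec (CommRingCat.of k))} (r : FieldPt X) (K : Type u) [Field K] [Algebra k K] :
    ConnectedSpace (Points ((yon (Spec (CommRingCat.of k))).obj r.pt ⨯
      (yon (Spec (CommRingCat.of k))).obj
        (Over.mk (Spec.map (CommRingCat.ofHom (algebraMap k K)))))) := by
  haveI : ConnectedSpace ↥(Groth.Agent.Lib.Helper54.bcOver r.pt K).left :=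
    connectedSpace_pullback_field_of_isSepClosed k r.K r.str K
  have hsurj : Function.Surjective (Points.ofPt
      (Groth.Agent.Lib.Helper54.bcChart (𝟙 ((yon (Spec (CommRingCat.of k))).obj r.pt)) K)) := by
    intro x'
    obtain ⟨u', hu', -⟩ := Groth.Agent.Lib.Helper54.exists_pt_bcChart
      (𝟙 ((yon (Spec (CommRingCat.of k))).obj r.pt)) K
      (Points.toScheme r.pt (Points.map prod.fst x')) x'
      (Points.ofScheme_toScheme r.pt _).symm
    exact ⟨u', hu'⟩
  exact hsurj.connectedSpace (Points.continuous_ofPt _)

/-- Over a separably closed field `k`, `X_K ⟶ X` induces a bijection on connected components. -/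
theorem bijective_connectedComponentsMap_prod_fst_of_isSepClosed (k : Type u) [Field k]
    [IsSepClosed k] {X : Sp (Spec (CommRingCat.of k))} (hX : IsAlgSpace X)
    (K : Type u) [Field K] [Algebra k K] :
    Function.Bijective (Continuous.connectedComponentsMap
      (Points.continuous_map (prod.fst : X ⨯ (yon (Spec (CommRingCat.of k))).obj
        (Over.mk (Spec.map (CommRingCat.ofHom (algebraMap k K)))) ⟶ X))) := by
  refine bijective_connectedComponentsMap _
    (isOpenMap_points_prod_fst k hX (IsAlgSpace.yon_obj _)) ?_
  intro r
  exact ⟨_, prod.map r.toHom (𝟙 _), prod.fst, (IsPullback.of_prod_fst_with_id r.toHom _).flip,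
    connectedSpace_points_prod_fieldPt_of_isSepClosed k r K⟩

end Groth.Agent.Lib.Helper78
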