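import Groth.Agent.Lib.Helper78.GeomConn2

/-!
# Connected components and extension of a separably closed base field, relative form (helper78)
-/

set_option autoImplicit false
universe u
open CategoryTheory CategoryTheory.Limits AlgebraicGeometry Opposite AlgSp

namespace Groth.Agent.Lib.Helper78

variable {S : Scheme.{u}}

/-- A pullback square of schemes over `S` gives a pullback square of representable sheaves. -/
theorem isPullback_yon_of_left {A B C D : Over S} {f' : A ⟶ B} {g' : A ⟶ C} {h : B ⟶ D}
    {i : C ⟶ D} (e : f' ≫ h = g' ≫ i) (sq : IsPullback f'.left g'.left h.left i.left) :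
    IsPullback ((yon S).map f') ((yon S).map g') ((yon S).map h) ((yon S).map i) := by
  have sq' : IsPullback f' g' h i := IsPullback.of_map (Over.forget S) e sq
  exact sq'.map (yon S)

/-- Over a separably closed field `k`, `Spec L ×_k Spec K` is connected for fields `L`, `K`
(arbitrary structure morphisms). -/
theorem connectedSpace_pullback_field_of_isSepClosed' (k : Type u) [Field k] [IsSepClosed k]
    (L K : Type u) [Field L] [Field K] (f : Spec (CommRingCat.of L) ⟶ Spec (CommRingCat.of k))
    (g : Spec (CommRingCat.of K) ⟶ Spec (CommRingCat.of k)) :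
    ConnectedSpace ↥(pullback f g) := by
  obtain ⟨φ, rfl⟩ := Spec.map_surjective g
  letI : Algebra k K := φ.hom.toAlgebra
  exact connectedSpace_pullback_field_of_isSepClosed k L f K

/-- Let `k` be a separably closed field, `Z` an algebraic space over `S` with a morphism to
`Spec k`, and `Spec Ω ⟶ Spec k` a morphism from the spectrum of a field.  Then the projection
`Z ×_{Spec k} Spec Ω ⟶ Z` induces a bijection on connected components. -/
theorem bijective_connectedComponentsMap_of_isPullback_field
    (k : Type u) [Field k] [IsSepClosed k] (σ : Spec (CommRingCat.of k) ⟶ S)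
    (Ω : Type u) [Field Ω] (τ : Spec (CommRingCat.of Ω) ⟶ S) (t : Over.mk τ ⟶ Over.mk σ)
    {Z P : Sp S} (hZ : IsAlgSpace Z) (s : Z ⟶ (yon S).obj (Over.mk σ))
    (fst : P ⟶ Z) (snd : P ⟶ (yon S).obj (Over.mk τ))
    (sq : IsPullback fst snd s ((yon S).map t)) :
    Function.Bijective (Continuous.connectedComponentsMap (Points.continuous_map fst)) := by
  have huo : IsUnivOpenMor ((yon S).map t) :=
    Groth.Agent.Lib.Helper51.isUnivOpenMor_of_target_field (IsAlgSpace.yon_obj _) k σ
      (Iso.refl _) _
  refine bijective_connectedComponentsMap fst (huo hZ s snd fst sq.flip) ?_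
  intro r
  obtain ⟨φ, hφ⟩ := (yon S).map_surjective (r.toHom ≫ s)
  haveI hconn : ConnectedSpace ↥(pullback φ.left t.left) :=
    connectedSpace_pullback_field_of_isSepClosed' k r.K Ω φ.left t.left
  have hq2 : pullback.snd φ.left t.left ≫ τ = pullback.fst φ.left t.left ≫ r.pt.hom := by
    have h1 : t.left ≫ σ = τ := Over.w t
    have h2 : φ.left ≫ σ = r.pt.hom := Over.w φ
    have e1 : pullback.snd φ.left t.left ≫ τ = pullback.snd φ.left t.left ≫ (t.left ≫ σ) :=
      congrArg (fun z => pullback.snd φ.left t.left ≫ z) h1.symm
    have e2 : pullback.fst φ.left t.left ≫ r.pt.hom =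
        pullback.fst φ.left t.left ≫ (φ.left ≫ σ) :=
      congrArg (fun z => pullback.fst φ.left t.left ≫ z) h2.symm
    rw [e1, e2, ← Category.assoc, ← Category.assoc, pullback.condition]
  let QO : Over S := Over.mk (pullback.fst φ.left t.left ≫ r.pt.hom)
  let q1 : QO ⟶ r.pt := Over.homMk (pullback.fst φ.left t.left) rfl
  let q2 : QO ⟶ Over.mk τ := Over.homMk (pullback.snd φ.left t.left) hq2
  have e : q1 ≫ φ = q2 ≫ t := by
    apply Over.OverMorphism.ext
    exact pullback.condition
  have sqY : IsPullback ((yon S).map q1) ((yon S).map q2) ((yon S).map φ) ((yon S).map t) :=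
    isPullback_yon_of_left e (IsPullback.of_hasPullback φ.left t.left)
  have big : IsPullback ((yon S).map q2) ((yon S).map q1) ((yon S).map t) (r.toHom ≫ s) := by
    rw [← hφ]
    exact sqY.flip
  haveI : ConnectedSpace ↥QO.left := hconn
  exact ⟨(yon S).obj QO, _, (yon S).map q1, IsPullback.of_right' big sq.flip,
    (Points.schemeHomeo QO).surjective.connectedSpace (Points.schemeHomeo QO).continuous⟩

end Groth.Agent.Lib.Helper78
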