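import Groth.Agent.Lib.Helper78.GeomConn3
import Groth.Agent.H52.FibreProd

/-!
# Base change of connectedness along extensions of fields (helper78)
-/

set_option autoImplicit false
universe u
open CategoryTheory CategoryTheory.Limits AlgebraicGeometry Opposite AlgSp

namespace Groth.Agent.Lib.Helper78

variable {S : Scheme.{u}}

/-- A product of algebraic spaces is an algebraic space. -/
theorem isAlgSpace_prod {X Y : Sp S} (hX : IsAlgSpace X) (hY : IsAlgSpace Y) :
    IsAlgSpace (X ⨯ Y) := by
  have hT := Groth.Agent.H52.yonBaseIsTerminal S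
  exact Groth.Agent.H52.isAlgSpace_of_isPullback
    (IsPullback.of_is_product' (prodIsProd X Y) hT) hX (IsAlgSpace.yon_obj _) hY

/-- The morphism attached to the image of a field point. -/
theorem toHom_map {F G : Sp S} (f : F ⟶ G) (p : FieldPt F) :
    (p.map f).toHom = p.toHom ≫ f :=
  Groth.Agent.H52.fieldPtToHom_map f p

section field

variable (k : Type u) [Field k]

/-- The morphism `Spec L ⟶ Spec K` over `Spec k` attached to a `k`-algebra homomorphism. -/
noncomputable def overOfAlgHom {K L : Type u} [Field K] [Field L] [Algebra k K] [Algebra k L]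
    (φ : K →ₐ[k] L) :
    (Over.mk (Spec.map (CommRingCat.ofHom (algebraMap k L))) : Over (Spec (CommRingCat.of k))) ⟶
      Over.mk (Spec.map (CommRingCat.ofHom (algebraMap k K))) :=
  Over.homMk (Spec.map (CommRingCat.ofHom φ.toRingHom)) (by
    change Spec.map (CommRingCat.ofHom φ.toRingHom) ≫
      Spec.map (CommRingCat.ofHom (algebraMap k K)) = Spec.map (CommRingCat.ofHom (algebraMap k L))
    rw [← Spec.map_comp, ← CommRingCat.ofHom_comp]
    congr 2
    exact φ.comp_algebraMap)

/-- If `k'` is a separably closed extension of `k` with `X_{k'}` connected and `k' ⟶ L` is a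
`k`-algebra map of fields, then `X_L` is connected. -/
theorem connectedSpace_bc_of_isSepClosed {X : Sp (Spec (CommRingCat.of k))} (hX : IsAlgSpace X)
    (k' L : Type u) [Field k'] [Field L] [Algebra k k'] [Algebra k L] [IsSepClosed k']
    (φ : k' →ₐ[k] L)
    (hc : ConnectedSpace (Points (X ⨯ (yon (Spec (CommRingCat.of k))).obj
      (Over.mk (Spec.map (CommRingCat.ofHom (algebraMap k k'))))))) :
    ConnectedSpace (Points (X ⨯ (yon (Spec (CommRingCat.of k))).obj
      (Over.mk (Spec.map (CommRingCat.ofHom (algebraMap k L)))))) := by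
  have sq := (isPullback_prod_snd_with_id
    ((yon (Spec (CommRingCat.of k))).map (overOfAlgHom k φ)) X).flip
  have hb := bijective_connectedComponentsMap_of_isPullback_field k'
    (Spec.map (CommRingCat.ofHom (algebraMap k k'))) L
    (Spec.map (CommRingCat.ofHom (algebraMap k L))) (overOfAlgHom k φ)
    (isAlgSpace_prod hX (IsAlgSpace.yon_obj _)) prod.snd _ prod.snd sq
  exact connectedSpace_of_bijective_connectedComponentsMap (Points.continuous_map _) hb

/-- `|X_L| ⟶ |X_K|` is surjective for a morphism `Spec L ⟶ Spec K` over `k`. -/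
theorem surjective_points_prod_map_field {X : Sp (Spec (CommRingCat.of k))}
    (K L : Type u) [Field K] [Field L] [Algebra k K] [Algebra k L]
    (g : (Over.mk (Spec.map (CommRingCat.ofHom (algebraMap k L))) :
      Over (Spec (CommRingCat.of k))) ⟶ Over.mk (Spec.map (CommRingCat.ofHom (algebraMap k K)))) :
    Function.Surjective (Points.map (prod.map (𝟙 X)
      ((yon (Spec (CommRingCat.of k))).map g))) := by
  intro x'
  have sq := (isPullback_prod_snd_with_id ((yon (Spec (CommRingCat.of k))).map g) X).flip
  haveI : Subsingleton ↥(Over.mk (Spec.map (CommRingCat.ofHom (algebraMap k K)))).left :=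
    inferInstanceAs (Subsingleton (PrimeSpectrum K))
  have h : Points.map prod.snd x' = Points.map ((yon (Spec (CommRingCat.of k))).map g)
      (Points.ofScheme (Over.mk (Spec.map (CommRingCat.ofHom (algebraMap k L))))
        (IsLocalRing.closedPoint L)) :=
    (Points.schemeEquiv _).symm.injective (Subsingleton.elim _ _)
  obtain ⟨ξ, hξ, -⟩ := Groth.Agent.H52.exists_point_of_isPullback sq x' _ h
  exact ⟨ξ, hξ⟩

end field

end Groth.Agent.Lib.Helper78
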