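import Groth.Agent.Lib.Helper78.GalSp4
import Groth.Agent.Lib.Helper78.EtNbhdResidue
import Groth.Agent.H53.GeomPt

/-!
# Connectedness of geometric fibres via étale neighbourhoods (helper78)
-/

set_option autoImplicit false
universe u
open CategoryTheory CategoryTheory.Limits AlgebraicGeometry Opposite AlgSp

namespace Groth.Agent.Lib.Helper78.GalSp

variable {S : Scheme.{u}}

/-- Refining an étale neighbourhood `(V₀, v₀)` of a field point so that the residue field becomes a
prescribed finite separable extension `E` of `κ(v₀)` inside the field of the point. -/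
theorem exists_nbhd_of_finite_separable {Y : Sp S} (V₀ : Over S) (a₀ : (yon S).obj V₀ ⟶ Y)
    (ha₀ : RepWith @Etale a₀) (v₀ : ↥V₀.left) (K : Type u) [Field K]
    (str : Spec (CommRingCat.of K) ⟶ S) (c₀ : Over.mk str ⟶ V₀)
    (E : Type u) [Field E] [Algebra (V₀.left.residueField v₀) E]
    [FiniteDimensional (V₀.left.residueField v₀) E]
    [Algebra.IsSeparable (V₀.left.residueField v₀) E] (j : E →+* K)
    (hj : Spec.map (CommRingCat.ofHom (j.comp (algebraMap (V₀.left.residueField v₀) E))) ≫
      V₀.left.fromSpecResidueField v₀ = c₀.left) :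
    ∃ (V : Over S) (a : (yon S).obj V ⟶ Y) (_ : RepWith @Etale a) (u : ↥V.left)
      (c : Over.mk str ⟶ V)
      (tα : Over.mk (V.left.fromSpecResidueField u ≫ V.hom) ⟶
        Over.mk (Spec.map (CommRingCat.ofHom (algebraMap (V₀.left.residueField v₀) E)) ≫
          V₀.left.fromSpecResidueField v₀ ≫ V₀.hom)),
      (yon S).map c ≫ a = (yon S).map c₀ ≫ a₀ ∧ c.left (IsLocalRing.closedPoint K) = u ∧
      (yon S).map (Over.homMk (V.left.fromSpecResidueField u) rfl :
          Over.mk (V.left.fromSpecResidueField u ≫ V.hom) ⟶ V) ≫ a =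
        (yon S).map tα ≫ (yon S).map (Over.homMk
          (Spec.map (CommRingCat.ofHom (algebraMap (V₀.left.residueField v₀) E))) rfl :
          Over.mk (Spec.map (CommRingCat.ofHom (algebraMap (V₀.left.residueField v₀) E)) ≫
            V₀.left.fromSpecResidueField v₀ ≫ V₀.hom) ⟶
            Over.mk (V₀.left.fromSpecResidueField v₀ ≫ V₀.hom)) ≫
          (yon S).map (Over.homMk (V₀.left.fromSpecResidueField v₀) rfl :
            Over.mk (V₀.left.fromSpecResidueField v₀ ≫ V₀.hom) ⟶ V₀) ≫ a₀ := by
  obtain ⟨U, g, u, hg, -, α, β, hβα, hcomm⟩ := exists_etale_nbhd_residue V₀.left v₀ E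
  -- the new neighbourhood
  let g' : Over.mk (g ≫ V₀.hom) ⟶ V₀ := Over.homMk g rfl
  have hg' : RepWith @Etale ((yon S).map g') := (repWith_yon_map_iff _ g').mpr hg
  have key : (Spec.map (CommRingCat.ofHom (j.comp β)) ≫ U.fromSpecResidueField u) ≫ g =
      c₀.left := by
    rw [Category.assoc, hcomm, ← hj, ← Spec.map_comp_assoc, ← Spec.map_comp_assoc,
      ← CommRingCat.ofHom_comp, ← CommRingCat.ofHom_comp]
    congr 3
    ext x
    have := congrArg (fun φ => φ (algebraMap (V₀.left.residueField v₀) E x)) hβα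
    simpa using congrArg j this
  have hw : (Spec.map (CommRingCat.ofHom (j.comp β)) ≫ U.fromSpecResidueField u) ≫
      (Over.mk (g ≫ V₀.hom)).hom = (Over.mk str).hom := by
    change (Spec.map (CommRingCat.ofHom (j.comp β)) ≫ U.fromSpecResidueField u) ≫ g ≫ V₀.hom = str
    rw [← Category.assoc, key]
    exact Over.w c₀
  let c : Over.mk str ⟶ Over.mk (g ≫ V₀.hom) :=
    Over.homMk (Spec.map (CommRingCat.ofHom (j.comp β)) ≫ U.fromSpecResidueField u) hw
  have hcg : c ≫ g' = c₀ := by
    apply Over.OverMorphism.ext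
    exact key
  have hwα : Spec.map (CommRingCat.ofHom α) ≫
      (Spec.map (CommRingCat.ofHom (algebraMap (V₀.left.residueField v₀) E)) ≫
          V₀.left.fromSpecResidueField v₀ ≫ V₀.hom) =
      U.fromSpecResidueField u ≫ g ≫ V₀.hom := by
    rw [← Category.assoc (U.fromSpecResidueField u), hcomm]
    simp only [Category.assoc]
  let tα : Over.mk (U.fromSpecResidueField u ≫ g ≫ V₀.hom) ⟶
      Over.mk (Spec.map (CommRingCat.ofHom (algebraMap (V₀.left.residueField v₀) E)) ≫
        V₀.left.fromSpecResidueField v₀ ≫ V₀.hom) :=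
    Over.homMk (Spec.map (CommRingCat.ofHom α)) hwα
  refine ⟨Over.mk (g ≫ V₀.hom), (yon S).map g' ≫ a₀,
    MorphismProperty.comp_mem _ _ _ hg' ha₀, u, c, tα, ?_, ?_, ?_⟩
  · rw [← Category.assoc, ← Functor.map_comp, hcg]
  · change (Spec.map (CommRingCat.ofHom (j.comp β)) ≫ U.fromSpecResidueField u)
      (IsLocalRing.closedPoint K) = u
    rw [Scheme.Hom.comp_apply, Scheme.fromSpecResidueField_apply]
  · simp only [← Category.assoc, ← Functor.map_comp]
    congr 2
    apply Over.OverMorphism.ext
    change U.fromSpecResidueField u ≫ g = (Spec.map (CommRingCat.ofHom α) ≫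
      Spec.map (CommRingCat.ofHom (algebraMap (V₀.left.residueField v₀) E))) ≫
        V₀.left.fromSpecResidueField v₀
    rw [hcomm, Category.assoc]


/-- Main step: if the fibres of `f` over all étale neighbourhoods of a geometric point `yb` refining
a given one are connected, then the geometric fibre is connected. -/
theorem connectedSpace_geomFibre_of_nbhds {X Y : Sp S} (hX : IsAlgSpace X) (hY : IsAlgSpace Y)
    (f : X ⟶ Y) (yb : FieldPt Y) [IsAlgClosed yb.K]
    (Xyb : Sp S) (fst : Xyb ⟶ X) (snd : Xyb ⟶ (yon S).obj yb.pt)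
    (h : IsPullback fst snd f yb.toHom)
    (Hyp : ∀ (V : Over S) (a : (yon S).obj V ⟶ Y), RepWith @Etale a →
        ∀ (v : ↥V.left) (c : yb.pt ⟶ V), (yon S).map c ≫ a = yb.toHom →
          c.left (IsLocalRing.closedPoint yb.K) = v →
          ∀ (Xv : Sp S) (fst' : Xv ⟶ X)
            (snd' : Xv ⟶ (yon S).obj (Over.mk (V.left.fromSpecResidueField v ≫ V.hom))),
            IsPullback fst' snd' f ((yon S).map (Over.homMk (V.left.fromSpecResidueField v) rfl :
              Over.mk (V.left.fromSpecResidueField v ≫ V.hom) ⟶ V) ≫ a) →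
            ConnectedSpace (Points Xv))
    (V₀ : Over S) (a₀ : (yon S).obj V₀ ⟶ Y) (ha₀ : RepWith @Etale a₀) (c₀ : yb.pt ⟶ V₀)
    (hc₀ : (yon S).map c₀ ≫ a₀ = yb.toHom) :
    ConnectedSpace (Points Xyb) := by
  obtain ⟨v₀, hv₀⟩ : ∃ v₀ : ↥V₀.left, c₀.left (IsLocalRing.closedPoint yb.K) = v₀ := ⟨_, rfl⟩
  obtain ⟨ψ, hψ⟩ : ∃ ψ : V₀.left.residueField v₀ ⟶ CommRingCat.of yb.K,
      Spec.map ψ ≫ V₀.left.fromSpecResidueField v₀ = c₀.left := by
    subst hv₀
    exact ⟨_, Scheme.descResidueField_stalkClosedPointTo_fromSpecResidueField yb.K V₀.left c₀.left⟩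
  letI : Algebra (V₀.left.residueField v₀) yb.K := ψ.hom.toAlgebra
  have hgK : gK (V₀.left.residueField v₀) yb.K ≫ V₀.left.fromSpecResidueField v₀ = c₀.left := by
    rw [← hψ]
    rfl
  haveI : IsSepClosed (separableClosure (V₀.left.residueField v₀) yb.K) :=
    IsSepClosure.sep_closed (V₀.left.residueField v₀)
  -- the fibre over `v₀`
  have sqZ := IsPullback.of_hasPullback f
    ((yon S).map (Over.homMk (V₀.left.fromSpecResidueField v₀) rfl :
      Over.mk (V₀.left.fromSpecResidueField v₀ ≫ V₀.hom) ⟶ V₀) ≫ a₀)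
  have hZ := Groth.Agent.H52.isAlgSpace_of_isPullback sqZ hX hY (IsAlgSpace.yon_obj _)
  -- the fibre over the separable closure
  have sqP := IsPullback.of_hasPullback
    (pullback.snd f ((yon S).map (Over.homMk (V₀.left.fromSpecResidueField v₀) rfl :
      Over.mk (V₀.left.fromSpecResidueField v₀ ≫ V₀.hom) ⟶ V₀) ≫ a₀))
    ((yon S).map (tE (V₀.left.residueField v₀) yb.K (V₀.left.fromSpecResidueField v₀ ≫ V₀.hom)
      (separableClosure (V₀.left.residueField v₀) yb.K)))
  have hP := Groth.Agent.H52.isAlgSpace_of_isPullback sqP hZ (IsAlgSpace.yon_obj _)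
    (IsAlgSpace.yon_obj _)
  haveI hPconn : ConnectedSpace (Points (pullback
      (pullback.snd f ((yon S).map (Over.homMk (V₀.left.fromSpecResidueField v₀) rfl :
        Over.mk (V₀.left.fromSpecResidueField v₀ ≫ V₀.hom) ⟶ V₀) ≫ a₀))
      ((yon S).map (tE (V₀.left.residueField v₀) yb.K
        (V₀.left.fromSpecResidueField v₀ ≫ V₀.hom)
        (separableClosure (V₀.left.residueField v₀) yb.K))))) := by
    refine connectedSpace_of_forall_finite (V₀.left.residueField v₀)
      (separableClosure (V₀.left.residueField v₀) yb.K)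
      (V₀.left.fromSpecResidueField v₀ ≫ V₀.hom) _ _ rfl _ _ _ sqP hZ ?_
    intro E hE
    haveI := hE
    -- the étale neighbourhood with residue field `E`
    obtain ⟨V, a, ha, u, c, tα, hca, hcu, hcomp⟩ :=
      exists_nbhd_of_finite_separable V₀ a₀ ha₀ v₀ yb.K yb.str c₀ (↥E)
        ((algebraMap (separableClosure (V₀.left.residueField v₀) yb.K) yb.K).comp
          (algebraMap (↥E) (separableClosure (V₀.left.residueField v₀) yb.K))) (by
        rw [← hψ]
        rfl)
    have sqE := IsPullback.of_hasPullback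
      (pullback.snd f ((yon S).map (Over.homMk (V₀.left.fromSpecResidueField v₀) rfl :
        Over.mk (V₀.left.fromSpecResidueField v₀ ≫ V₀.hom) ⟶ V₀) ≫ a₀))
      ((yon S).map (tE (V₀.left.residueField v₀)
        (separableClosure (V₀.left.residueField v₀) yb.K)
        (V₀.left.fromSpecResidueField v₀ ≫ V₀.hom) E))
    have sqE' := sqE.paste_horiz sqZ
    have sqU := IsPullback.of_hasPullback f
      ((yon S).map (Over.homMk (V.left.fromSpecResidueField u) rfl :
        Over.mk (V.left.fromSpecResidueField u ≫ V.hom) ⟶ V) ≫ a)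
    haveI := Hyp V a ha u c (by rw [hca, hc₀]) hcu _ _ _ sqU
    haveI : Subsingleton ↥(Over.mk (σE (V₀.left.residueField v₀)
        (separableClosure (V₀.left.residueField v₀) yb.K)
        (V₀.left.fromSpecResidueField v₀ ≫ V₀.hom) E)).left :=
      inferInstanceAs (Subsingleton (PrimeSpectrum ↥E))
    haveI : Nonempty ↥(Over.mk (V.left.fromSpecResidueField u ≫ V.hom)).left :=
      ⟨IsLocalRing.closedPoint (V.left.residueField u)⟩
    exact connectedSpace_of_isPullback_comp f _ _ tα hcomp _ _ sqE' _ _ sqU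
  -- compare with the geometric fibre
  have hwK : gK (separableClosure (V₀.left.residueField v₀) yb.K) yb.K ≫
      σE (V₀.left.residueField v₀) yb.K (V₀.left.fromSpecResidueField v₀ ≫ V₀.hom)
        (separableClosure (V₀.left.residueField v₀) yb.K) = yb.str := by
    change gK (separableClosure (V₀.left.residueField v₀) yb.K) yb.K ≫
      gK (V₀.left.residueField v₀) (separableClosure (V₀.left.residueField v₀) yb.K) ≫
        V₀.left.fromSpecResidueField v₀ ≫ V₀.hom = yb.str
    rw [← Category.assoc, gK_tower, ← Category.assoc, hgK]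
    exact Over.w c₀
  let tK : yb.pt ⟶ Over.mk (σE (V₀.left.residueField v₀) yb.K
      (V₀.left.fromSpecResidueField v₀ ≫ V₀.hom)
      (separableClosure (V₀.left.residueField v₀) yb.K)) :=
    Over.homMk (gK (separableClosure (V₀.left.residueField v₀) yb.K) yb.K) hwK
  have htK : tK ≫ tE (V₀.left.residueField v₀) yb.K (V₀.left.fromSpecResidueField v₀ ≫ V₀.hom)
      (separableClosure (V₀.left.residueField v₀) yb.K) ≫
      (Over.homMk (V₀.left.fromSpecResidueField v₀) rfl :
        Over.mk (V₀.left.fromSpecResidueField v₀ ≫ V₀.hom) ⟶ V₀) = c₀ := by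
    apply Over.OverMorphism.ext
    change gK (separableClosure (V₀.left.residueField v₀) yb.K) yb.K ≫
      gK (V₀.left.residueField v₀) (separableClosure (V₀.left.residueField v₀) yb.K) ≫
        V₀.left.fromSpecResidueField v₀ = c₀.left
    rw [← Category.assoc, gK_tower, hgK]
  have hyK : yb.toHom = (yon S).map tK ≫
      ((yon S).map (tE (V₀.left.residueField v₀) yb.K
        (V₀.left.fromSpecResidueField v₀ ≫ V₀.hom)
        (separableClosure (V₀.left.residueField v₀) yb.K)) ≫
      ((yon S).map (Over.homMk (V₀.left.fromSpecResidueField v₀) rfl :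
        Over.mk (V₀.left.fromSpecResidueField v₀ ≫ V₀.hom) ⟶ V₀) ≫ a₀)) := by
    rw [← hc₀, ← htK]
    simp only [Functor.map_comp, Category.assoc]
  have sqP' := sqP.paste_horiz sqZ
  rw [hyK] at h
  obtain ⟨m, -, sqm⟩ := exists_isPullback_of_comp f _ ((yon S).map tK) _ _ sqP' fst snd h
  have hb := bijective_connectedComponentsMap_of_isPullback_field
    (separableClosure (V₀.left.residueField v₀) yb.K)
    (σE (V₀.left.residueField v₀) yb.K (V₀.left.fromSpecResidueField v₀ ≫ V₀.hom)
      (separableClosure (V₀.left.residueField v₀) yb.K)) yb.K yb.str tK hP _ m snd sqm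
  exact connectedSpace_of_bijective_connectedComponentsMap (Points.continuous_map m) hb

end Groth.Agent.Lib.Helper78.GalSp
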