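/-
helper78: geometric reducedness of the fibres of a morphism of algebraic spaces, read off on an
etale chart of the base change to an etale chart of the target (for S10682).
-/
import Groth.Agent.S10686
import Groth.Agent.H53.EtReduced
import Groth.Agent.H53.CodimQF2
import Groth.Agent.Lib.Helper12.GeomRedLocus
import Groth.Agent.Lib.Helper78.GeomConn3
import Groth.Agent.H52.FibreProd

set_option autoImplicit false
universe u
open CategoryTheory CategoryTheory.Limits AlgebraicGeometry
open AlgSp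

namespace Groth.Agent.Lib.Helper78.GeomRedFibreSp

open Groth.Agent.Lib.Helper12.GeomRedLocus

variable {S : Scheme.{u}}

/-- Geometric reducedness of the fibre of `f` over a field point `k` of the target. -/
def GR {X Y : Sp S} (f : X ⟶ Y) (k : FieldPt Y) : Prop :=
  ∀ (k' : Type u) [Field k'] (φ : k.K →+* k') (Xk' : Sp S) (a : Xk' ⟶ X)
    (b : Xk' ⟶ (yon S).obj (Over.mk (Spec.map (CommRingCat.ofHom φ) ≫ k.str))),
    IsPullback a b f ((yon S).map (Over.homMk (Spec.map (CommRingCat.ofHom φ)) rfl :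
      Over.mk (Spec.map (CommRingCat.ofHom φ) ≫ k.str) ⟶ k.pt) ≫ k.toHom) →
    EtaleLocally (fun U => IsReduced U) Xk'

/-- S10686, (1) ⇒ (2). -/
theorem gr_of_gr {X Y : Space S} (f : X ⟶ Y) (k₀ : FieldPt Y.obj) (h : GR f.hom k₀)
    (k : FieldPt Y.obj) (hk : Points.mk k = Points.mk k₀) : GR f.hom k := by
  have h01 := (Groth.Agent.S10686.result f (Points.mk k₀)).out 0 1
  exact h01.1 ⟨k₀, rfl, h⟩ k hk

/-- An etale surjective chart of a fibre, from a chart of the base change to a chart. -/
theorem exists_chart_of_fibre {X Y XV : Sp S} (f : X ⟶ Y) {V U T Q : Over S}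
    (b : (yon S).obj V ⟶ Y)
    (pr₁ : XV ⟶ X) (fV : XV ⟶ (yon S).obj V) (sqV : IsPullback pr₁ fV f b)
    (p : (yon S).obj U ⟶ XV) (hpe : RepWith @Etale p) (hps : RepWith @Surjective p)
    (h : U ⟶ V) (hh : (yon S).map h = p ≫ fV)
    (t : T ⟶ V) (q₁ : Q ⟶ U) (q₂ : Q ⟶ T) (hq : q₁ ≫ h = q₂ ≫ t)
    (H : IsPullback q₁.left q₂.left h.left t.left)
    {XT : Sp S} (a : XT ⟶ X) (b' : XT ⟶ (yon S).obj T)
    (sq : IsPullback a b' f ((yon S).map t ≫ b)) :
    ∃ q : (yon S).obj Q ⟶ XT, RepWith @Etale q ∧ RepWith @Surjective q := by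
  let a' : XT ⟶ XV := sqV.lift a (b' ≫ (yon S).map t) (by rw [sq.w, Category.assoc])
  have ha'1 : a' ≫ pr₁ = a := sqV.lift_fst _ _ _
  have ha'2 : a' ≫ fV = b' ≫ (yon S).map t := sqV.lift_snd _ _ _
  have sqT : IsPullback a' b' fV ((yon S).map t) :=
    IsPullback.of_right (by rw [ha'1]; exact sq) ha'2 sqV
  have sqQ : IsPullback ((yon S).map q₁) ((yon S).map q₂) ((yon S).map h) ((yon S).map t) :=
    Groth.Agent.Lib.Helper78.isPullback_yon_of_left hq H
  let q : (yon S).obj Q ⟶ XT := sqT.lift ((yon S).map q₁ ≫ p) ((yon S).map q₂)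
    (by rw [Category.assoc, ← hh, sqQ.w])
  have hq1 : q ≫ a' = (yon S).map q₁ ≫ p := sqT.lift_fst _ _ _
  have hq2 : q ≫ b' = (yon S).map q₂ := sqT.lift_snd _ _ _
  have sqL : IsPullback q ((yon S).map q₁) a' p :=
    IsPullback.of_right (by rw [hq2, ← hh]; exact sqQ.flip) hq1 sqT.flip
  exact ⟨q, (RepWith @Etale).of_isPullback sqL.flip hpe,
    (RepWith @Surjective).of_isPullback sqL.flip hps⟩

/-- Reducedness of an algebraic space can be read off on any etale surjective chart. -/
theorem isReducedSp_iff_of_chart {F : Sp S} (hF : IsAlgSpace F) {Q : Over S}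
    (q : (yon S).obj Q ⟶ F) (hqe : RepWith @Etale q) (hqs : RepWith @Surjective q) :
    EtaleLocally (fun U => IsReduced U) F ↔ IsReduced Q.left := by
  constructor
  · intro hred
    exact Groth.Agent.H53.isReduced_of_etOver
      ((Groth.Agent.H53.isReducedSp_iff_forall_hasAt hF).1 hred) (EtOver.mk q hqe)
  · intro hQ
    exact ⟨Q, q, hqe, hqs, hQ⟩

/-- The morphism `Spec k' ⟶ Spec κ(v) ⟶ V` over `S`. -/
noncomputable def tOf (V : Over S) (v : ↥V.left) {k' : Type u} [Field k']
    (φ : ↥(V.left.residueField v) →+* k') :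
    Over.mk (Spec.map (CommRingCat.ofHom φ) ≫ (V.left.fromSpecResidueField v ≫ V.hom)) ⟶ V :=
  Over.homMk (Spec.map (CommRingCat.ofHom φ) ≫ V.left.fromSpecResidueField v)
    (Category.assoc _ _ _)

theorem ext_ofPt_eq {Y : Sp S} {V : Over S} (b : (yon S).obj V ⟶ Y) (v : ↥V.left) {k' : Type u}
    [Field k'] (φ : (FieldPt.ofPt b v).K →+* k') :
    (yon S).map (Over.homMk (Spec.map (CommRingCat.ofHom φ)) rfl :
      Over.mk (Spec.map (CommRingCat.ofHom φ) ≫ (FieldPt.ofPt b v).str) ⟶ (FieldPt.ofPt b v).pt) ≫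
        (FieldPt.ofPt b v).toHom = (yon S).map (tOf V v φ) ≫ b := by
  rw [FieldPt.toHom_ofPt, ← Category.assoc, ← Functor.map_comp]
  rfl

section
variable {X Y : Space S} (f : X ⟶ Y) {V U : Over S} (b : (yon S).obj V ⟶ Y.obj)
  {XV : Sp S} (pr₁ : XV ⟶ X.obj) (fV : XV ⟶ (yon S).obj V) (sqV : IsPullback pr₁ fV f.hom b)
  (p : (yon S).obj U ⟶ XV) (hpe : RepWith @Etale p) (hps : RepWith @Surjective p)
  (h : U ⟶ V) (hh : (yon S).map h = p ≫ fV)

include sqV hpe hps hh in
/-- If the fibre of `f` over the image of `u` is geometrically reduced, then the fibre of the chart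
`h` is geometrically reduced at `u`. -/
theorem mem_locus_of_gr (u : ↥U.left) (hgr : GR f.hom (FieldPt.ofPt b (h.left.base u))) :
    u ∈ locus h.left := by
  rw [mem_locus]
  intro K hK hA x' _
  let g := h.left.fiberToSpecResidueField (h.left.base u)
  let φ : ↥(V.left.residueField (h.left.base u)) →+* K := @algebraMap _ K _ _ hA
  have HR : IsPullback (h.left.fiberι (h.left.base u)) g h.left
      (V.left.fromSpecResidueField (h.left.base u)) := IsPullback.of_hasPullback _ _
  have HL : IsPullback (FBase.bcπ g K) (FBase.bcStr g K) g (Spec.map (CommRingCat.ofHom φ)) :=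
    IsPullback.of_hasPullback g (Spec.map (CommRingCat.ofHom φ))
  have H₀ := HL.paste_horiz HR
  let T : Over S := Over.mk (Spec.map (CommRingCat.ofHom φ) ≫
    (V.left.fromSpecResidueField (h.left.base u) ≫ V.hom))
  let t : T ⟶ V := tOf V (h.left.base u) φ
  let Q : Over S := Over.mk (FBase.bcStr g K ≫ T.hom)
  let q₂ : Q ⟶ T := Over.homMk (FBase.bcStr g K) rfl
  have hw : (FBase.bcπ g K ≫ h.left.fiberι (h.left.base u)) ≫ U.hom = FBase.bcStr g K ≫ T.hom := by
    rw [← Over.w h, ← Category.assoc, H₀.w, Category.assoc]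
    rfl
  let q₁ : Q ⟶ U := Over.homMk (FBase.bcπ g K ≫ h.left.fiberι (h.left.base u)) hw
  have hq : q₁ ≫ h = q₂ ≫ t := Over.OverMorphism.ext H₀.w
  have H : IsPullback q₁.left q₂.left h.left t.left := H₀
  have sq := IsPullback.of_hasPullback f.hom ((yon S).map t ≫ b)
  obtain ⟨q, hqe, hqs⟩ :=
    exists_chart_of_fibre f.hom b pr₁ fV sqV p hpe hps h hh t q₁ q₂ hq H _ _ sq
  have hred : EtaleLocally (fun U => IsReduced U) (pullback f.hom ((yon S).map t ≫ b)) :=
    hgr K φ _ _ _ (by rw [ext_ofPt_eq]; exact sq)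
  have hXk' : IsAlgSpace (pullback f.hom ((yon S).map t ≫ b)) :=
    Groth.Agent.H52.isAlgSpace_of_isPullback sq X.property Y.property (IsAlgSpace.yon_obj _)
  have hQred : IsReduced Q.left := (isReducedSp_iff_of_chart hXk' q hqe hqs).1 hred
  have hQred' : IsReduced (FBase.bc g K) := hQred
  infer_instance

include sqV hpe hps hh in
/-- If the fibre of the chart `h` is geometrically reduced at all points over `v`, then the fibre of
`f` over the image of `v` is geometrically reduced. -/
theorem gr_of_forall_mem_locus [Flat h.left] [LocallyOfFinitePresentation h.left] (v : ↥V.left)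
    (hloc : ∀ u : ↥U.left, h.left.base u = v → u ∈ locus h.left) :
    GR f.hom (FieldPt.ofPt b v) := by
  intro k' _ φ Xk' a b' sq
  let T : Over S := Over.mk (Spec.map (CommRingCat.ofHom φ) ≫
    (V.left.fromSpecResidueField v ≫ V.hom))
  let t : T ⟶ V := tOf V v φ
  have sq' : IsPullback a b' f.hom ((yon S).map t ≫ b) := by
    have e := ext_ofPt_eq b v φ
    rw [e] at sq
    exact sq
  let Q : Over S := Over.mk (pullback.snd h.left t.left ≫ T.hom)
  let q₂ : Q ⟶ T := Over.homMk (pullback.snd h.left t.left) rfl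
  have hw : pullback.fst h.left t.left ≫ U.hom = pullback.snd h.left t.left ≫ T.hom := by
    rw [← Over.w h, ← Category.assoc, pullback.condition, Category.assoc, Over.w t]
  let q₁ : Q ⟶ U := Over.homMk (pullback.fst h.left t.left) hw
  have H : IsPullback q₁.left q₂.left h.left t.left := IsPullback.of_hasPullback _ _
  have hq : q₁ ≫ h = q₂ ≫ t := Over.OverMorphism.ext pullback.condition
  obtain ⟨q, hqe, hqs⟩ :=
    exists_chart_of_fibre f.hom b pr₁ fV sqV p hpe hps h hh t q₁ q₂ hq H a b' sq'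
  refine ⟨Q, q, hqe, hqs, ?_⟩
  change IsReduced (pullback h.left t.left)
  haveI : ∀ z : ↥(pullback h.left t.left),
      _root_.IsReduced ((pullback h.left t.left).presheaf.stalk z) := by
    intro z
    have hu : h.left.base ((pullback.fst h.left t.left).base z) = v := by
      rw [← Scheme.Hom.comp_apply, pullback.condition, Scheme.Hom.comp_apply]
      change (Spec.map (CommRingCat.ofHom φ) ≫ V.left.fromSpecResidueField v).base _ = v
      rw [Scheme.Hom.comp_apply]
      exact Scheme.fromSpecResidueField_apply _ _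
    exact Groth.Agent.Lib.Helper12.GeomRedGeneralize.isReduced_stalk_of_isPullback_of_specializes
      h.left _ ((mem_locus _ _).1 (hloc _ hu)) t.left _ _ H z specializes_rfl
  exact isReduced_of_isReduced_stalk _

include hpe hh in
/-- The locus of geometric reducedness on the chart is saturated for the chart map. -/
theorem locus_saturated (u₁ u₂ : ↥U.left) (he : Points.ofPt p u₁ = Points.ofPt p u₂) :
    u₁ ∈ locus h.left ↔ u₂ ∈ locus h.left := by
  obtain ⟨R, s, t, sqR, -⟩ := Groth.Agent.H53.CodimQF.exists_pullback_charts p p hpe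
  obtain ⟨r, hr1, hr2⟩ := Groth.Agent.H53.CodimQF.exists_point_of_isPullback_yon sqR u₁ u₂ he
  haveI : Etale s.left := hpe.2 p ((yon S).map t) s sqR.flip
  haveI : Etale t.left := hpe.2 p ((yon S).map s) t sqR
  have hst : s ≫ h = t ≫ h := (yon S).map_injective (by
    rw [Functor.map_comp, Functor.map_comp, hh, ← Category.assoc, ← Category.assoc, sqR.w])
  have e3 : s.left ≫ h.left = t.left ≫ h.left := congrArg (fun m => m.left) hst
  have e1 := locus_comp_of_etale s.left h.left
  have e2 := locus_comp_of_etale t.left h.left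
  rw [← hr1, ← hr2]
  change r ∈ s.left.base ⁻¹' locus h.left ↔ r ∈ t.left.base ⁻¹' locus h.left
  rw [← e1, ← e2, e3]

end

end Groth.Agent.Lib.Helper78.GeomRedFibreSp
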