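/-
helper78: geometric reducedness of the fibres of a morphism of algebraic spaces equals geometric
reducedness of the fibres of a chart of the base change (no flatness), for S10683.
-/
import Groth.Agent.Lib.Helper78.GeomRedFibreSp

set_option autoImplicit false
universe u
open CategoryTheory CategoryTheory.Limits AlgebraicGeometry
open AlgSp

namespace Groth.Agent.Lib.Helper78.GeomRedFibreSp

variable {S : Scheme.{u}}

section
variable {X Y : Space S} (f : X ⟶ Y) {V U : Over S} (b : (yon S).obj V ⟶ Y.obj)
  {XV : Sp S} (pr₁ : XV ⟶ X.obj) (fV : XV ⟶ (yon S).obj V) (sqV : IsPullback pr₁ fV f.hom b)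
  (p : (yon S).obj U ⟶ XV) (hpe : RepWith @Etale p) (hps : RepWith @Surjective p)
  (h : U ⟶ V) (hh : (yon S).map h = p ≫ fV)

include sqV hpe hps hh in
theorem gr_iff_geometricallyReduced (v : ↥V.left) :
    GR f.hom (FieldPt.ofPt b v) ↔ GeometricallyReduced (h.left.fiberToSpecResidueField v) := by
  have HR : IsPullback (h.left.fiberι v) (h.left.fiberToSpecResidueField v) h.left
      (V.left.fromSpecResidueField v) := IsPullback.of_hasPullback _ _
  constructor
  · intro hgr
    refine ⟨?_⟩
    intro K _ y Z fst snd HZ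
    let φ : ↥(V.left.residueField v) →+* K := (Spec.preimage y).hom
    have hy : Spec.map (CommRingCat.ofHom φ) = y := by
      change Spec.map (CommRingCat.ofHom (Spec.preimage y).hom) = y
      rw [CommRingCat.ofHom_hom, Spec.map_preimage]
    have H₀ := HZ.paste_horiz HR
    rw [← hy] at H₀
    let T : Over S := Over.mk (Spec.map (CommRingCat.ofHom φ) ≫
      (V.left.fromSpecResidueField v ≫ V.hom))
    let t : T ⟶ V := tOf V v φ
    let Q : Over S := Over.mk (snd ≫ T.hom)
    let q₂ : Q ⟶ T := Over.homMk snd rfl
    have hw : (fst ≫ h.left.fiberι v) ≫ U.hom = snd ≫ T.hom := by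
      rw [← Over.w h, ← Category.assoc, H₀.w, Category.assoc]
      rfl
    let q₁ : Q ⟶ U := Over.homMk (fst ≫ h.left.fiberι v) hw
    have hq : q₁ ≫ h = q₂ ≫ t := Over.OverMorphism.ext H₀.w
    have H : IsPullback q₁.left q₂.left h.left t.left := H₀
    have sq := IsPullback.of_hasPullback f.hom ((yon S).map t ≫ b)
    obtain ⟨q, hqe, hqs⟩ :=
      exists_chart_of_fibre f.hom b pr₁ fV sqV p hpe hps h hh t q₁ q₂ hq H _ _ sq
    have hred : EtaleLocally (fun U => IsReduced U) (pullback f.hom ((yon S).map t ≫ b)) :=
      hgr K φ _ _ _ (by rw [ext_ofPt_eq]; exact sq)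
    have hXk' : IsAlgSpace (pullback f.hom ((yon S).map t ≫ b)) :=
      Groth.Agent.H52.isAlgSpace_of_isPullback sq X.property Y.property (IsAlgSpace.yon_obj _)
    exact (isReducedSp_iff_of_chart hXk' q hqe hqs).1 hred
  · intro hG k' _ φ Xk' a b' sq
    let T : Over S := Over.mk (Spec.map (CommRingCat.ofHom φ) ≫
      (V.left.fromSpecResidueField v ≫ V.hom))
    let t : T ⟶ V := tOf V v φ
    have sq' : IsPullback a b' f.hom ((yon S).map t ≫ b) := by
      have e := ext_ofPt_eq b v φ
      rw [e] at sq
      exact sq
    let Q : Over S := Over.mk (pullback.snd h.left t.left ≫ T.hom)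
    let q₂ : Q ⟶ T := Over.homMk (pullback.snd h.left t.left) rfl
    have hw : pullback.fst h.left t.left ≫ U.hom = pullback.snd h.left t.left ≫ T.hom := by
      rw [← Over.w h, ← Category.assoc, pullback.condition, Category.assoc, Over.w t]
    let q₁ : Q ⟶ U := Over.homMk (pullback.fst h.left t.left) hw
    have H : IsPullback q₁.left q₂.left h.left t.left := IsPullback.of_hasPullback _ _
    have hq : q₁ ≫ h = q₂ ≫ t := Over.OverMorphism.ext pullback.condition
    obtain ⟨q, hqe, hqs⟩ :=
      exists_chart_of_fibre f.hom b pr₁ fV sqV p hpe hps h hh t q₁ q₂ hq H a b' sq'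
    refine ⟨Q, q, hqe, hqs, ?_⟩
    change IsReduced (pullback h.left t.left)
    have hcond : pullback.fst h.left t.left ≫ h.left =
        (pullback.snd h.left t.left ≫ Spec.map (CommRingCat.ofHom φ)) ≫
          V.left.fromSpecResidueField v := by
      rw [pullback.condition, Category.assoc]
      rfl
    let l : pullback h.left t.left ⟶ h.left.fiber v :=
      HR.lift (pullback.fst h.left t.left)
        (pullback.snd h.left t.left ≫ Spec.map (CommRingCat.ofHom φ)) hcond
    have hl1 : l ≫ h.left.fiberι v = pullback.fst h.left t.left := HR.lift_fst _ _ _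
    have hl2 : l ≫ h.left.fiberToSpecResidueField v =
        pullback.snd h.left t.left ≫ Spec.map (CommRingCat.ofHom φ) := HR.lift_snd _ _ _
    have Hbig : IsPullback (l ≫ h.left.fiberι v) (pullback.snd h.left t.left) h.left
        (Spec.map (CommRingCat.ofHom φ) ≫ V.left.fromSpecResidueField v) := by
      rw [hl1]
      exact IsPullback.of_hasPullback h.left t.left
    have sqL : IsPullback l (pullback.snd h.left t.left) (h.left.fiberToSpecResidueField v)
        (Spec.map (CommRingCat.ofHom φ)) := IsPullback.of_right Hbig hl2 HR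
    exact hG.geometrically_isReduced (Spec.map (CommRingCat.ofHom φ)) l _ sqL

end

end Groth.Agent.Lib.Helper78.GeomRedFibreSp
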