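/-
Helper library (helper78): Gorenstein local rings and strict henselizations.
-/
import Groth.Agent.Lib.Helper24.GorenAt
import Groth.Agent.Lib.Helper24.GorenEtaleField
import Groth.Agent.Lib.Helper36.StrictHensWE
import Groth.Agent.Lib.Helper6.WEtFlat
import Groth.Agent.Lib.Helper7.FlatDescent
import Groth.Agent.Lib.Helper9.Hens.NoetherianHens
import Groth.Agent.Lib.Helper9.HensK.StrictUnique
import Groth.Agent.Lib.Helper3.SHensQuot

set_option autoImplicit false
universe u

namespace Groth.Agent.Lib.Helper78.GorenSH

open IsLocalRing Groth.Agent.H46.CMFlatLocal Groth.Agent.Lib.Helper24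

/-- A strict henselization is Gorenstein iff the ring is. -/
theorem gor_iff_of_isStrictHenselization (A R : Type u) [CommRing A] [IsLocalRing A] [CommRing R]
    [IsLocalRing R] [Algebra A R] [IsLocalHom (algebraMap A R)]
    [Hensel.IsStrictHenselization A R] :
    LocCoh.IsGorensteinLocalRing R ↔ LocCoh.IsGorensteinLocalRing A := by
  have hflat : Module.Flat A R := Groth.Agent.Lib.Helper9.HensK.flat_of_isStrictHenselization A R
  have hm : (maximalIdeal A).map (algebraMap A R) = maximalIdeal R :=
    Groth.Agent.Lib.Helper9.HensK.map_maximalIdeal_of_isStrictHenselization A R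
  have hN := Groth.Agent.Lib.Helper9.isNoetherianRing_iff_of_isStrictHenselization A R
  have hF : LocCoh.IsGorensteinLocalRing (EGA4.FibRing A R) :=
    isGorensteinLocalRing_of_ringEquiv (Ideal.quotEquivOfEq hm.symm)
      (isGorensteinLocalRing_of_field (ResidueField R))
  constructor
  · intro hR
    haveI : IsNoetherianRing R := hR.toIsNoetherian
    haveI : IsNoetherianRing A := hN.mpr inferInstance
    exact ((isGorensteinLocalRing_iff_of_flat_local A R).mp hR).1
  · intro hA
    haveI : IsNoetherianRing A := hA.toIsNoetherian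
    haveI : IsNoetherianRing R := hN.mp inferInstance
    exact (isGorensteinLocalRing_iff_of_flat_local A R).mpr ⟨hA, hF⟩

/-- The Gorenstein condition of a local homomorphism read on strict henselizations. -/
theorem flat_gor_iff_sh (A B R' R : Type u) [CommRing A] [IsLocalRing A] [CommRing B]
    [IsLocalRing B] [CommRing R'] [IsLocalRing R'] [CommRing R] [IsLocalRing R]
    [Algebra A R'] [IsLocalHom (algebraMap A R')] [Hensel.IsStrictHenselization A R']
    [Algebra B R] [IsLocalHom (algebraMap B R)] [Hensel.IsStrictHenselization B R]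
    (ψ : A →+* B) [IsLocalHom ψ] (φ : R' →+* R)
    (hφ : φ.comp (algebraMap A R') = (algebraMap B R).comp ψ) :
    (ψ.Flat ∧ LocCoh.IsGorensteinLocalRing (B ⧸ (maximalIdeal A).map ψ)) ↔
      (φ.Flat ∧ LocCoh.IsGorensteinLocalRing (R ⧸ (maximalIdeal R').map φ)) := by
  letI algAB : Algebra A B := ψ.toAlgebra
  letI algR'R : Algebra R' R := φ.toAlgebra
  letI algAR : Algebra A R := ((algebraMap B R).comp ψ).toAlgebra
  haveI : IsScalarTower A B R := IsScalarTower.of_algebraMap_eq (fun _ => rfl)
  haveI : IsScalarTower A R' R :=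
    IsScalarTower.of_algebraMap_eq (fun x => (RingHom.congr_fun hφ x).symm)
  haveI : IsLocalHom (algebraMap A B) := inferInstanceAs (IsLocalHom ψ)
  haveI hflBR : Module.Flat B R := Groth.Agent.Lib.Helper9.HensK.flat_of_isStrictHenselization B R
  haveI hffBR : Module.FaithfullyFlat B R :=
    Groth.Agent.Lib.Helper9.HensK.faithfullyFlat_of_isStrictHenselization B R
  haveI hflAR' : Module.Flat A R' :=
    Groth.Agent.Lib.Helper9.HensK.flat_of_isStrictHenselization A R'
  haveI hwe : Algebra.WeaklyEtale A R' :=
    Groth.Agent.Lib.Helper36.StrictHensWE.weaklyEtale_of_isStrictHenselization A R'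
  have hflat : ψ.Flat ↔ φ.Flat := by
    change Module.Flat A B ↔ Module.Flat R' R
    constructor
    · intro h
      haveI : Module.Flat A R := Module.Flat.trans A B R
      exact Groth.Agent.Lib.Helper6.WEtFlat.flat_of_weaklyEtale_ring A R' R
    · intro h
      haveI : Module.Flat A R := Module.Flat.trans A R' R
      exact Groth.Agent.Lib.Helper7.flat_of_faithfullyFlat_of_flat_comp A B R
  -- the ideals
  have hI : (maximalIdeal A).map (algebraMap A B) ≤ maximalIdeal B :=
    map_maximalIdeal_le (algebraMap A B)
  have hmR' : (maximalIdeal A).map (algebraMap A R') = maximalIdeal R' :=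
    Groth.Agent.Lib.Helper9.HensK.map_maximalIdeal_of_isStrictHenselization A R'
  have hJ : ((maximalIdeal A).map (algebraMap A B)).map (algebraMap B R) =
      (maximalIdeal R').map φ := by
    rw [← hmR', Ideal.map_map, Ideal.map_map, hφ]
    rfl
  haveI hlB := isLocalRing_quot B _ hI
  haveI hlR := isLocalRing_quot R _ (map_le_maximalIdeal B R _ hI)
  haveI hloc := isLocalHom_quot B R _ hI
  haveI hsh : Hensel.IsStrictHenselization (B ⧸ (maximalIdeal A).map (algebraMap A B))
      (R ⧸ ((maximalIdeal A).map (algebraMap A B)).map (algebraMap B R)) :=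
    Groth.Agent.Lib.Helper3.isStrictHenselization_quotient _
  have hgor := gor_iff_of_isStrictHenselization (B ⧸ (maximalIdeal A).map (algebraMap A B))
      (R ⧸ ((maximalIdeal A).map (algebraMap A B)).map (algebraMap B R))
  rw [hflat, ← isGorensteinLocalRing_iff_of_ringEquiv (Ideal.quotEquivOfEq hJ), hgor]
  rfl

end Groth.Agent.Lib.Helper78.GorenSH
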