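/-
helper78: descent of "locally Noetherian" along flat surjective affine base change (e.g. a field
extension), for schemes and for algebraic spaces; etale ascent.  Used for S10803 / S10804.
-/
import Groth.Agent.H53.NoSpecNoeth
import Groth.Agent.H52.Descent
import Mathlib.AlgebraicGeometry.Morphisms.Flat
import Mathlib.RingTheory.Flat.FaithfullyFlat.Basic

set_option autoImplicit false
universe u
open CategoryTheory CategoryTheory.Limits AlgebraicGeometry TensorProduct Opposite
open AlgSp

namespace Groth.Agent.Lib.Helper78.NoethFibre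

/-- Noetherianity descends along faithfully flat ring maps. -/
theorem isNoetherianRing_of_faithfullyFlat {R A : Type u} [CommRing R] [CommRing A] [Algebra R A]
    [Module.FaithfullyFlat R A] [IsNoetherianRing A] : IsNoetherianRing R := by
  have h : IsNoetherian A (A ⊗[R] R) :=
    isNoetherian_of_linearEquiv (TensorProduct.AlgebraTensorModule.rid R A A).symm
  exact Submodule.IsNoetherian.of_isNoetherian_tensorProduct_of_faithfullyFlat (R := R) (M := R) (A := A) h

/-- Affine case. -/
theorem isLocallyNoetherian_of_flat_surjective_of_isAffine {A B : Scheme.{u}} [IsAffine A]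
    [IsAffine B] (f : A ⟶ B) [Flat f] [Surjective f] [IsLocallyNoetherian A] :
    IsLocallyNoetherian B := by
  have hff : f.appTop.hom.FaithfullyFlat :=
    (Flat.flat_and_surjective_iff_faithfullyFlat_of_isAffine (f := f)).1 ⟨inferInstance, inferInstance⟩
  letI := f.appTop.hom.toAlgebra
  haveI : Module.FaithfullyFlat Γ(B, ⊤) Γ(A, ⊤) := hff
  haveI : IsNoetherianRing Γ(A, ⊤) :=
    IsLocallyNoetherian.component_noetherian ⟨⊤, isAffineOpen_top A⟩
  have hB : IsNoetherianRing Γ(B, ⊤) := isNoetherianRing_of_faithfullyFlat (A := Γ(A, ⊤))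
  exact isLocallyNoetherian_of_affine_cover (S := fun _ : Unit ↦ ⟨⊤, isAffineOpen_top B⟩) (by simp)
    fun _ ↦ hB

/-- "Locally Noetherian" descends along a flat, surjective, affine base change. -/
theorem isLocallyNoetherian_of_isPullback {X' X T' T : Scheme.{u}} {g' : X' ⟶ X} {f' : X' ⟶ T'}
    {f : X ⟶ T} {c : T' ⟶ T} (sq : IsPullback g' f' f c) [Flat c] [Surjective c] [IsAffineHom c]
    [IsLocallyNoetherian X'] : IsLocallyNoetherian X := by
  haveI : Flat g' := MorphismProperty.of_isPullback sq.flip inferInstance
  haveI : Surjective g' := MorphismProperty.of_isPullback sq.flip inferInstance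
  haveI : IsAffineHom g' := MorphismProperty.of_isPullback sq.flip inferInstance
  rw [isLocallyNoetherian_iff_openCover X.affineCover]
  intro i
  haveI : IsAffine (pullback (X.affineCover.f i) g') :=
    isAffine_of_isAffineHom (pullback.fst (X.affineCover.f i) g')
  haveI : IsLocallyNoetherian (pullback (X.affineCover.f i) g') :=
    isLocallyNoetherian_of_isOpenImmersion (pullback.snd (X.affineCover.f i) g')
  exact isLocallyNoetherian_of_flat_surjective_of_isAffine (pullback.fst (X.affineCover.f i) g')

variable {S : Scheme.{u}}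

/-- Etale ascent: an algebraic space with a representable etale map to a locally Noetherian sheaf
is locally Noetherian. -/
theorem isLocNoethSp_of_repWith_etale {P' P : Sp S} (hP' : IsAlgSpace P') (g : P' ⟶ P)
    (hg : RepWith @Etale g) (hP : IsLocNoethSp P) : IsLocNoethSp P' := by
  obtain ⟨U, a, hae, has⟩ := hP'.atlas
  have : (RepWith (S := S) @Etale).IsMultiplicative := repWith_isMultiplicative _
  exact ⟨U, a, hae, has, Groth.Agent.H53.isLocallyNoetherian_of_etale_chart hP (a ≫ g)
    ((RepWith (S := S) @Etale).comp_mem _ _ hae hg)⟩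

/-- Descent for algebraic spaces: if the base change of `Q ⟶ h_T` along a flat surjective affine
`T' ⟶ T` is locally Noetherian, so is `Q`. -/
theorem isLocNoethSp_of_isPullback {Q P : Sp S} (hQ : IsAlgSpace Q) {T T' : Over S}
    (m : Q ⟶ (yon S).obj T) (c : T' ⟶ T) [Flat c.left] [Surjective c.left] [IsAffineHom c.left]
    (fst : P ⟶ Q) (snd : P ⟶ (yon S).obj T') (sq : IsPullback fst snd m ((yon S).map c))
    (hP : IsLocNoethSp P) : IsLocNoethSp Q := by
  obtain ⟨U, a, hae, has⟩ := hQ.atlas
  obtain ⟨h, hh⟩ := (yon S).map_surjective (a ≫ m)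
  have sqU : IsPullback ((yon S).map (pullback.fst h c)) ((yon S).map (pullback.snd h c))
      ((yon S).map h) ((yon S).map c) := (IsPullback.of_hasPullback h c).map (yon S)
  have w : ((yon S).map (pullback.fst h c) ≫ a) ≫ m = (yon S).map (pullback.snd h c) ≫
      (yon S).map c := by
    rw [Category.assoc, ← hh, sqU.w]
  have sqL : IsPullback (sq.lift _ _ w) ((yon S).map (pullback.fst h c)) fst a := by
    refine IsPullback.of_right ?_ (sq.lift_fst _ _ w) sq.flip
    rw [sq.lift_snd, ← hh]
    exact sqU.flip
  have ha' : RepWith @Etale (sq.lift _ _ w) := MorphismProperty.of_isPullback sqL.flip hae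
  haveI : IsLocallyNoetherian (pullback h c).left :=
    Groth.Agent.H53.isLocallyNoetherian_of_etale_chart hP _ ha'
  have sch := Groth.Agent.H52.isPullback_left_of_isPullback_yon sqU
  exact ⟨U, a, hae, has, isLocallyNoetherian_of_isPullback sch⟩

end Groth.Agent.Lib.Helper78.NoethFibre
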