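/-
Helper library (helper78): `Dual3.IsGorensteinAt` is invariant under étale squares, hence does not
depend on the chart diagram of a morphism of algebraic spaces.
-/
import Groth.Agent.Lib.Helper24.GorenAt
import Groth.Agent.Lib.Helper24.GorenEtaleField
import Groth.Agent.Lib.Helper24.EtaleAtStalk
import Groth.Agent.Lib.Helper36.WeaklyEtaleStalk
import Groth.Agent.Lib.Helper6.WEtFlat
import Groth.Agent.Lib.Helper7.FlatDescent
import Groth.Agent.Lib.Helper78.NoethFibre
import Groth.Agent.H52.TwoCharts

set_option autoImplicit false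
universe u
open AlgebraicGeometry CategoryTheory Limits

namespace Groth.Agent.Lib.Helper78.GorenSq

open IsLocalRing Groth.Agent.H46.CMFlatLocal Groth.Agent.Lib.Helper24

section Ring

variable (A B C : Type u) [CommRing A] [CommRing B] [CommRing C] [IsLocalRing A] [IsLocalRing B]
  [IsLocalRing C] [Algebra A B] [Algebra B C] [Algebra A C] [IsScalarTower A B C]
  [IsLocalHom (algebraMap A B)] [IsLocalHom (algebraMap B C)]

/-- `A → B → C` local, `B → C` flat, essentially of finite type with `𝔪_B C = 𝔪_C`: the closed
fibre of `A → C` is Gorenstein iff that of `A → B` is. -/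
theorem gor_iff_top [Module.Flat B C] [Algebra.EssFiniteType B C]
    (hm : (maximalIdeal B).map (algebraMap B C) = maximalIdeal C) :
    LocCoh.IsGorensteinLocalRing (C ⧸ (maximalIdeal A).map (algebraMap A C)) ↔
      LocCoh.IsGorensteinLocalRing (B ⧸ (maximalIdeal A).map (algebraMap A B)) := by
  have hI : (maximalIdeal A).map (algebraMap A B) ≤ maximalIdeal B :=
    map_maximalIdeal_le (algebraMap A B)
  have hJ := map_map_maximalIdeal A B C
  have hlB := isLocalRing_quot B _ hI
  have hlC := isLocalRing_quot C _ (map_le_maximalIdeal B C _ hI)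
  have hloc := isLocalHom_quot B C _ hI
  have hfl := flat_quotient B C ((maximalIdeal A).map (algebraMap A B))
  have hfield : LocCoh.IsGorensteinLocalRing (C ⧸ (maximalIdeal B).map (algebraMap B C)) :=
    isGorensteinLocalRing_of_ringEquiv (Ideal.quotEquivOfEq hm.symm)
      (isGorensteinLocalRing_of_field (ResidueField C))
  constructor
  · intro hC
    have hNC0 : IsNoetherianRing (C ⧸ (maximalIdeal A).map (algebraMap A C)) := hC.toIsNoetherian
    have hNC : IsNoetherianRing
        (C ⧸ ((maximalIdeal A).map (algebraMap A B)).map (algebraMap B C)) :=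
      isNoetherianRing_of_ringEquiv _ (Ideal.quotEquivOfEq hJ.symm)
    have hff : Module.FaithfullyFlat (B ⧸ (maximalIdeal A).map (algebraMap A B))
        (C ⧸ ((maximalIdeal A).map (algebraMap A B)).map (algebraMap B C)) :=
      Module.FaithfullyFlat.of_flat_of_isLocalHom
    have hNB : IsNoetherianRing (B ⧸ (maximalIdeal A).map (algebraMap A B)) :=
      Groth.Agent.Lib.Helper78.NoethFibre.isNoetherianRing_of_faithfullyFlat
        (A := C ⧸ ((maximalIdeal A).map (algebraMap A B)).map (algebraMap B C))
    exact (gor_of_comp A B C hC hNB).1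
  · intro hB
    have hNB : IsNoetherianRing (B ⧸ (maximalIdeal A).map (algebraMap A B)) := hB.toIsNoetherian
    have hNC : IsNoetherianRing
        (C ⧸ ((maximalIdeal A).map (algebraMap A B)).map (algebraMap B C)) :=
      Algebra.EssFiniteType.isNoetherianRing (B ⧸ (maximalIdeal A).map (algebraMap A B)) _
    exact gor_comp A B C hB hfield (isNoetherianRing_of_ringEquiv _ (Ideal.quotEquivOfEq hJ))

omit [IsLocalRing C] [IsLocalHom (algebraMap B C)] [IsLocalHom (algebraMap A B)] in
/-- `A → B → C` with `𝔪_A B = 𝔪_B`: the closed fibres of `A → C` and `B → C` agree. -/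
theorem gor_iff_bot (hm : (maximalIdeal A).map (algebraMap A B) = maximalIdeal B) :
    LocCoh.IsGorensteinLocalRing (C ⧸ (maximalIdeal A).map (algebraMap A C)) ↔
      LocCoh.IsGorensteinLocalRing (C ⧸ (maximalIdeal B).map (algebraMap B C)) := by
  have hJ := map_map_maximalIdeal A B C
  rw [hm] at hJ
  exact isGorensteinLocalRing_iff_of_ringEquiv (Ideal.quotEquivOfEq hJ.symm)

omit [IsLocalRing A] [IsLocalRing B] [IsLocalRing C] [IsLocalHom (algebraMap A B)]
  [IsLocalHom (algebraMap B C)] in
/-- flatness over a weakly étale extension -/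
theorem flat_iff_bot [Algebra.WeaklyEtale A B] : Module.Flat A C ↔ Module.Flat B C := by
  constructor
  · intro h
    exact Groth.Agent.Lib.Helper6.WEtFlat.flat_of_weaklyEtale_ring A B C
  · intro h
    exact Module.Flat.trans A B C

omit [IsLocalRing A] [IsLocalHom (algebraMap A B)] in
/-- flatness under a flat local extension -/
theorem flat_iff_top [Module.Flat B C] : Module.Flat A C ↔ Module.Flat A B := by
  have : Module.FaithfullyFlat B C := Module.FaithfullyFlat.of_flat_of_isLocalHom
  constructor
  · intro h
    exact Groth.Agent.Lib.Helper7.flat_of_faithfullyFlat_of_flat_comp A B C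
  · intro h
    exact Module.Flat.trans A B C

end Ring

section Scheme

/-- Precomposing with an étale morphism does not change Gorenstein-ness at a point. -/
theorem isGorensteinAt_etale_comp_iff {U' U V : Scheme.{u}} (a : U' ⟶ U) [Etale a] (h : U ⟶ V)
    (u' : U') : Dual3.IsGorensteinAt (a ≫ h) u' ↔ Dual3.IsGorensteinAt h (a u') := by
  rw [isGorensteinAt_iff, isGorensteinAt_iff]
  have hcomp : ((a ≫ h).stalkMap u') = h.stalkMap (a u') ≫ a.stalkMap u' :=
    Scheme.Hom.stalkMap_comp a h u'
  let algAB : Algebra (V.presheaf.stalk (h.base (a.base u'))) (U.presheaf.stalk (a.base u')) :=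
    (h.stalkMap (a.base u')).hom.toAlgebra
  let algBC : Algebra (U.presheaf.stalk (a.base u')) (U'.presheaf.stalk u') :=
    (a.stalkMap u').hom.toAlgebra
  let algAC : Algebra (V.presheaf.stalk (h.base (a.base u'))) (U'.presheaf.stalk u') :=
    ((a.stalkMap u').hom.comp (h.stalkMap (a.base u')).hom).toAlgebra
  have : IsScalarTower (V.presheaf.stalk (h.base (a.base u'))) (U.presheaf.stalk (a.base u'))
      (U'.presheaf.stalk u') := IsScalarTower.of_algebraMap_eq (fun _ => rfl)
  have : IsLocalHom (algebraMap (V.presheaf.stalk (h.base (a.base u')))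
      (U.presheaf.stalk (a.base u'))) :=
    inferInstanceAs (IsLocalHom (h.stalkMap (a.base u')).hom)
  have : IsLocalHom (algebraMap (U.presheaf.stalk (a.base u')) (U'.presheaf.stalk u')) :=
    inferInstanceAs (IsLocalHom (a.stalkMap u').hom)
  have : Module.Flat (U.presheaf.stalk (a.base u')) (U'.presheaf.stalk u') :=
    Flat.stalkMap a u'
  have : Algebra.EssFiniteType (U.presheaf.stalk (a.base u')) (U'.presheaf.stalk u') := by
    rw [← RingHom.essFiniteType_algebraMap, RingHom.algebraMap_toAlgebra]
    exact LocallyOfFiniteType.stalkMap a u'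
  have hm : (maximalIdeal (U.presheaf.stalk (a.base u'))).map
      (algebraMap (U.presheaf.stalk (a.base u')) (U'.presheaf.stalk u')) =
      maximalIdeal (U'.presheaf.stalk u') :=
    ((formallyUnramified_stalkMap_iff_residue a u').mp (FormallyUnramified.stalkMap a u')).1
  have hmapeq : ((a ≫ h).stalkMap u').hom =
      (a.stalkMap u').hom.comp (h.stalkMap (a.base u')).hom := by
    rw [hcomp]; rfl
  have hideal : Ideal.map ((a ≫ h).stalkMap u').hom
      (maximalIdeal (V.presheaf.stalk ((a ≫ h).base u'))) =
      Ideal.map (algebraMap (V.presheaf.stalk (h.base (a.base u'))) (U'.presheaf.stalk u'))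
        (maximalIdeal (V.presheaf.stalk (h.base (a.base u')))) := by
    rw [hmapeq]; rfl
  have hflat : ((a ≫ h).stalkMap u').hom.Flat ↔ (h.stalkMap (a.base u')).hom.Flat := by
    rw [hmapeq]
    exact flat_iff_top (V.presheaf.stalk (h.base (a.base u'))) (U.presheaf.stalk (a.base u'))
      (U'.presheaf.stalk u')
  have hgor := gor_iff_top (V.presheaf.stalk (h.base (a.base u'))) (U.presheaf.stalk (a.base u'))
    (U'.presheaf.stalk u') hm
  rw [hflat, isGorensteinLocalRing_iff_of_ringEquiv (Ideal.quotEquivOfEq hideal), hgor]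
  rfl

/-- Postcomposing with an étale morphism does not change Gorenstein-ness at a point. -/
theorem isGorensteinAt_comp_etale_iff {U V V' : Scheme.{u}} (h : U ⟶ V) (b : V ⟶ V') [Etale b]
    (u : U) : Dual3.IsGorensteinAt (h ≫ b) u ↔ Dual3.IsGorensteinAt h u := by
  rw [isGorensteinAt_iff, isGorensteinAt_iff]
  have hcomp : ((h ≫ b).stalkMap u) = b.stalkMap (h u) ≫ h.stalkMap u :=
    Scheme.Hom.stalkMap_comp h b u
  let algAB : Algebra (V'.presheaf.stalk (b.base (h.base u))) (V.presheaf.stalk (h.base u)) :=
    (b.stalkMap (h.base u)).hom.toAlgebra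
  let algBC : Algebra (V.presheaf.stalk (h.base u)) (U.presheaf.stalk u) :=
    (h.stalkMap u).hom.toAlgebra
  let algAC : Algebra (V'.presheaf.stalk (b.base (h.base u))) (U.presheaf.stalk u) :=
    ((h.stalkMap u).hom.comp (b.stalkMap (h.base u)).hom).toAlgebra
  have : IsScalarTower (V'.presheaf.stalk (b.base (h.base u))) (V.presheaf.stalk (h.base u))
      (U.presheaf.stalk u) := IsScalarTower.of_algebraMap_eq (fun _ => rfl)
  have : IsLocalHom (algebraMap (V'.presheaf.stalk (b.base (h.base u)))
      (V.presheaf.stalk (h.base u))) :=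
    inferInstanceAs (IsLocalHom (b.stalkMap (h.base u)).hom)
  have : IsLocalHom (algebraMap (V.presheaf.stalk (h.base u)) (U.presheaf.stalk u)) :=
    inferInstanceAs (IsLocalHom (h.stalkMap u).hom)
  have : Algebra.WeaklyEtale (V'.presheaf.stalk (b.base (h.base u)))
      (V.presheaf.stalk (h.base u)) :=
    Groth.Agent.Lib.Helper36.WE.weaklyEtale_stalkMap b (h.base u)
  have hm : (maximalIdeal (V'.presheaf.stalk (b.base (h.base u)))).map
      (algebraMap (V'.presheaf.stalk (b.base (h.base u))) (V.presheaf.stalk (h.base u))) =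
      maximalIdeal (V.presheaf.stalk (h.base u)) :=
    ((formallyUnramified_stalkMap_iff_residue b (h.base u)).mp
      (FormallyUnramified.stalkMap b (h.base u))).1
  have hmapeq : ((h ≫ b).stalkMap u).hom =
      (h.stalkMap u).hom.comp (b.stalkMap (h.base u)).hom := by
    rw [hcomp]; rfl
  have hideal : Ideal.map ((h ≫ b).stalkMap u).hom
      (maximalIdeal (V'.presheaf.stalk ((h ≫ b).base u))) =
      Ideal.map (algebraMap (V'.presheaf.stalk (b.base (h.base u))) (U.presheaf.stalk u))
        (maximalIdeal (V'.presheaf.stalk (b.base (h.base u)))) := by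
    rw [hmapeq]; rfl
  have hflat : ((h ≫ b).stalkMap u).hom.Flat ↔ (h.stalkMap u).hom.Flat := by
    rw [hmapeq]
    exact flat_iff_bot (V'.presheaf.stalk (b.base (h.base u))) (V.presheaf.stalk (h.base u))
      (U.presheaf.stalk u)
  have hgor := gor_iff_bot (V'.presheaf.stalk (b.base (h.base u))) (V.presheaf.stalk (h.base u))
    (U.presheaf.stalk u) hm
  rw [hflat, isGorensteinLocalRing_iff_of_ringEquiv (Ideal.quotEquivOfEq hideal), hgor]
  rfl

/-- Gorenstein-ness at a point is invariant under étale squares. -/
theorem isEtaleSquareInvariant_isGorensteinAt :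
    Groth.Agent.H52.IsEtaleSquareInvariant.{u} (fun {_ _} h u => Dual3.IsGorensteinAt h u) := by
  intro U U' V V' h h' a b ha hb comm u'
  haveI := ha
  haveI := hb
  apply propext
  change Dual3.IsGorensteinAt h (a u') ↔ Dual3.IsGorensteinAt h' u'
  rw [← isGorensteinAt_etale_comp_iff a h u', ← comm, isGorensteinAt_comp_etale_iff h' b u']

end Scheme

end Groth.Agent.Lib.Helper78.GorenSq
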