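/-
Helper library (helper78): Gorenstein morphisms of algebraic spaces: independence of the chart
diagram, locally Noetherian fibres of chart morphisms, Gorenstein charts.
-/
import Groth.Agent.Lib.Helper78.GorenSq
import Groth.Agent.Lib.Helper78.FibreChart
import Groth.Agent.H53.NoSpecNoeth
import Groth.Agent.H53.SpTop
import Groth.Agent.Lib.Helper54.UnivBddCompSp
import Groth.Agent.H52.DimLocal
import Groth.Prelude.Def_AlgSpMor5

set_option autoImplicit false
universe u
open CategoryTheory CategoryTheory.Limits AlgebraicGeometry Opposite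

namespace Groth.Agent.Lib.Helper78.GorenSp

open AlgSp Groth.Agent.Lib.Helper24

variable {S : Scheme.{u}}

/-- `f` is Gorenstein at `x` iff the top arrow of one (any) chart diagram through `x` is. -/
theorem locPAt_gor_iff {X Y : Sp S} (f : X ⟶ Y) {U V : Over S}
    (a : (yon S).obj U ⟶ X) (b : (yon S).obj V ⟶ Y) (h : U ⟶ V) (ha : RepWith @Etale a)
    (hb : RepWith @Etale b) (comm : a ≫ f = (yon S).map h ≫ b) (u : ↥U.left) :
    LocPAt (fun h u => Dual3.IsGorensteinAt h u) f (Points.ofPt a u) ↔
      Dual3.IsGorensteinAt h.left u := by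
  constructor
  · intro H
    exact H a b h u ha hb comm rfl
  · intro H U' V' a' b' h' u' ha' hb' comm' hu'
    have key := Groth.Agent.H52.IsEtaleSquareInvariant.eq_of_two_charts
      GorenSq.isEtaleSquareInvariant_isGorensteinAt f a' b' h' ha' hb' comm' a b h ha hb comm
      u' u hu'
    change Dual3.IsGorensteinAt h'.left u'
    have key' : Dual3.IsGorensteinAt h'.left u' = Dual3.IsGorensteinAt h.left u := key
    rw [key']
    exact H

/-- variant with an arbitrary point -/
theorem locPAt_gor_iff' {X Y : Sp S} (f : X ⟶ Y) {U V : Over S}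
    (a : (yon S).obj U ⟶ X) (b : (yon S).obj V ⟶ Y) (h : U ⟶ V) (ha : RepWith @Etale a)
    (hb : RepWith @Etale b) (comm : a ≫ f = (yon S).map h ≫ b) (u : ↥U.left) (x : Points X)
    (hu : Points.ofPt a u = x) :
    LocPAt (fun h u => Dual3.IsGorensteinAt h u) f x ↔ Dual3.IsGorensteinAt h.left u := by
  subst hu
  exact locPAt_gor_iff f a b h ha hb comm u

/-- The scheme-theoretic fibres of the top arrow of a chart diagram of a morphism with locally
Noetherian fibres are locally Noetherian. -/
theorem isLocallyNoetherian_fiber_of_chart {X Y : Sp S} (hX : IsAlgSpace X) (hY : IsAlgSpace Y)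
    (f : X ⟶ Y)
    (hf : ∀ (k : FieldPt Y) (Xk : Sp S) (a : Xk ⟶ X) (b : Xk ⟶ (yon S).obj k.pt),
      IsPullback a b f k.toHom → IsLocNoethSp Xk)
    {U V : Over S} (a : (yon S).obj U ⟶ X) (b : (yon S).obj V ⟶ Y) (h : U ⟶ V)
    (ha : RepWith @Etale a) (hb : RepWith @Etale b) (comm : a ≫ f = (yon S).map h ≫ b)
    (v : ↥V.left) : IsLocallyNoetherian (h.left.fiber v) := by
  let k : FieldPt Y := FieldPt.ofPt b v
  let ι : k.pt ⟶ V := Over.homMk (V.left.fromSpecResidueField v) rfl
  have hk : k.toHom = (yon S).map ι ≫ b := FieldPt.toHom_ofPt b v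
  have hP : IsLocNoethSp (pullback f ((yon S).map ι ≫ b)) := by
    refine hf k _ (pullback.fst _ _) (pullback.snd _ _) ?_
    rw [hk]
    exact IsPullback.of_hasPullback _ _
  let Uv : Over S := Over.mk (h.left.fiberι v ≫ U.hom)
  let iU : Uv ⟶ U := Over.homMk (h.left.fiberι v) rfl
  have hw : h.left.fiberToSpecResidueField v ≫ k.pt.hom = Uv.hom := by
    change h.left.fiberToSpecResidueField v ≫ V.left.fromSpecResidueField v ≫ V.hom =
      h.left.fiberι v ≫ U.hom
    rw [← Category.assoc, ← Scheme.Hom.fiber_fac, Category.assoc, Over.w h]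
  let tU : Uv ⟶ k.pt := Over.homMk (h.left.fiberToSpecResidueField v) hw
  have e : tU ≫ ι = iU ≫ h := by
    apply Over.OverMorphism.ext
    exact (Scheme.Hom.fiber_fac h.left v).symm
  have sqL : IsPullback tU.left iU.left ι.left h.left :=
    (IsPullback.of_hasPullback h.left (V.left.fromSpecResidueField v)).flip
  have sq : IsPullback ((yon S).map tU) ((yon S).map iU) ((yon S).map ι) ((yon S).map h) :=
    Groth.Agent.Lib.Helper54.isPullback_yon_of_isPullback_left e sqL
  let aw : (yon S).obj Uv ⟶ pullback f ((yon S).map ι ≫ b) :=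
    pullback.lift ((yon S).map iU ≫ a) ((yon S).map tU) (by
      rw [Category.assoc, comm, ← Category.assoc, ← sq.w, Category.assoc])
  have haw : RepWith @Etale aw :=
    Groth.Agent.Lib.Helper78.FibreChart.repWith_etale_lift hX hY f a ha b hb h comm ι iU tU sq aw
      (pullback.lift_fst _ _ _) (pullback.lift_snd _ _ _)
  exact Groth.Agent.H53.isLocallyNoetherian_of_etale_chart hP aw haw

/-- Gorenstein-ness of local rings descends along flat morphisms of locally Noetherian schemes. -/
theorem isGorensteinLocalRing_stalk_descend {W U : Scheme.{u}} (k : W ⟶ U) [Flat k]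
    [IsLocallyNoetherian W] [IsLocallyNoetherian U] (w : W)
    (h : LocCoh.IsGorensteinLocalRing (W.presheaf.stalk w)) :
    LocCoh.IsGorensteinLocalRing (U.presheaf.stalk (k w)) := by
  have hfl : (k.stalkMap w).hom.Flat := Flat.stalkMap k w
  algebraize [(k.stalkMap w).hom]
  have : IsLocalHom (algebraMap (U.presheaf.stalk (k.base w)) (W.presheaf.stalk w)) :=
    inferInstanceAs (IsLocalHom (k.stalkMap w).hom)
  exact ((isGorensteinLocalRing_iff_of_flat_local (U.presheaf.stalk (k.base w))
    (W.presheaf.stalk w)).mp h).1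

/-- Every scheme étale over a Gorenstein algebraic space is a Gorenstein scheme. -/
theorem isGorenstein_of_etale_chart {X : Sp S} (hX : EtaleLocally Dual3.IsGorenstein X)
    {U : Over S} (a : (yon S).obj U ⟶ X) (ha : RepWith @Etale a) : Dual3.IsGorenstein U.left := by
  obtain ⟨G, p, hpe, hps, hG1, hG2⟩ := hX
  have hUN : IsLocallyNoetherian U.left :=
    Groth.Agent.H53.isLocallyNoetherian_of_etale_chart ⟨G, p, hpe, hps, hG1⟩ a ha
  refine ⟨hUN, fun u => ?_⟩
  obtain ⟨g, hg⟩ := Groth.Agent.H53.surjective_ofPt_of_surjective p hps (Points.ofPt a u)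
  obtain ⟨W, k, k', w, hk, hk', hku, hkg, -⟩ :=
    Groth.Agent.H52.exists_common_refinement a p ha hpe u g hg.symm
  haveI := hk
  haveI := hk'
  haveI : IsLocallyNoetherian G.left := hG1
  haveI : IsLocallyNoetherian W.left := LocallyOfFiniteType.isLocallyNoetherian k'.left
  have hW : LocCoh.IsGorensteinLocalRing (W.left.presheaf.stalk w) :=
    isGorensteinLocalRing_stalk_of_etale k'.left w (hG2 (k'.left w))
  have := isGorensteinLocalRing_stalk_descend k.left w hW
  rwa [hku] at this

/-- A chart of a fibre: general form of `FibreChart.repWith_etale_lift` for a base-change stable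
property `P`. -/
theorem repWith_fibre_lift (P : MorphismProperty Scheme.{u}) [P.IsStableUnderBaseChange]
    {A Z : Sp S} (g : A ⟶ Z) {U W K Uw : Over S} (c : (yon S).obj W ⟶ Z)
    (q : (yon S).obj U ⟶ pullback g c) (hq : RepWith P q) (φ : U ⟶ W)
    (hφ : q ≫ pullback.snd g c = (yon S).map φ)
    (ι : K ⟶ W) (iU : Uw ⟶ U) (tU : Uw ⟶ K)
    (sq : IsPullback ((yon S).map tU) ((yon S).map iU) ((yon S).map ι) ((yon S).map φ))
    (aw : (yon S).obj Uw ⟶ pullback g ((yon S).map ι ≫ c))
    (h1 : aw ≫ pullback.fst g ((yon S).map ι ≫ c) = (yon S).map iU ≫ q ≫ pullback.fst g c)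
    (h2 : aw ≫ pullback.snd g ((yon S).map ι ≫ c) = (yon S).map tU) :
    RepWith P aw := by
  have sqW := IsPullback.of_hasPullback g c
  have sqz := IsPullback.of_hasPullback g ((yon S).map ι ≫ c)
  let ρ : pullback g ((yon S).map ι ≫ c) ⟶ pullback g c :=
    pullback.lift (pullback.fst g ((yon S).map ι ≫ c))
      (pullback.snd g ((yon S).map ι ≫ c) ≫ (yon S).map ι)
      (by rw [Category.assoc]; exact pullback.condition)
  have hρ1 : ρ ≫ pullback.fst g c = pullback.fst g ((yon S).map ι ≫ c) := pullback.lift_fst _ _ _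
  have hρ2 : ρ ≫ pullback.snd g c = pullback.snd g ((yon S).map ι ≫ c) ≫ (yon S).map ι :=
    pullback.lift_snd _ _ _
  have sqR : IsPullback ρ (pullback.snd g ((yon S).map ι ≫ c)) (pullback.snd g c)
      ((yon S).map ι) := by
    refine IsPullback.of_right ?_ hρ2 sqW
    rw [hρ1]
    exact sqz
  have hcomm : aw ≫ ρ = (yon S).map iU ≫ q := by
    apply pullback.hom_ext
    · rw [Category.assoc, hρ1, h1, Category.assoc]
    · rw [Category.assoc, hρ2, ← Category.assoc, h2, Category.assoc, hφ, sq.w]
  have sqL : IsPullback aw ((yon S).map iU) ρ q := by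
    refine IsPullback.of_right ?_ hcomm sqR.flip
    rw [h2, hφ]
    exact sq
  exact MorphismProperty.of_isPullback (P := RepWith (S := S) P) sqL.flip hq

/-- The scheme-theoretic fibre of the top arrow `h` of a chart of `X ×_Y V` over a point `v` of
`V` is an étale chart of the fibre of `f` over the residue field point of `v`; it is surjective if
the chart of `X ×_Y V` is. -/
theorem exists_fibre_chart {X Y : Sp S} (f : X ⟶ Y) {U V : Over S} (b : (yon S).obj V ⟶ Y)
    (q : (yon S).obj U ⟶ pullback f b) (hqe : RepWith @Etale q) (h : U ⟶ V)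
    (hh : q ≫ pullback.snd f b = (yon S).map h) (v : ↥V.left) {Xv : Sp S} (a' : Xv ⟶ X)
    (c' : Xv ⟶ (yon S).obj (Over.mk (V.left.fromSpecResidueField v ≫ V.hom)))
    (sqv : IsPullback a' c' f ((yon S).map (Over.homMk (V.left.fromSpecResidueField v) rfl :
      Over.mk (V.left.fromSpecResidueField v ≫ V.hom) ⟶ V) ≫ b)) :
    ∃ p : (yon S).obj (Over.mk (h.left.fiberι v ≫ U.hom)) ⟶ Xv,
      RepWith @Etale p ∧ (RepWith @Surjective q → RepWith @Surjective p) := by
  let K : Over S := Over.mk (V.left.fromSpecResidueField v ≫ V.hom)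
  let ι : K ⟶ V := Over.homMk (V.left.fromSpecResidueField v) rfl
  let Uv : Over S := Over.mk (h.left.fiberι v ≫ U.hom)
  let iU : Uv ⟶ U := Over.homMk (h.left.fiberι v) rfl
  have hw : h.left.fiberToSpecResidueField v ≫ K.hom = Uv.hom := by
    change h.left.fiberToSpecResidueField v ≫ V.left.fromSpecResidueField v ≫ V.hom =
      h.left.fiberι v ≫ U.hom
    rw [← Category.assoc, ← Scheme.Hom.fiber_fac, Category.assoc, Over.w h]
  let tU : Uv ⟶ K := Over.homMk (h.left.fiberToSpecResidueField v) hw
  have e : tU ≫ ι = iU ≫ h := by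
    apply Over.OverMorphism.ext
    exact (Scheme.Hom.fiber_fac h.left v).symm
  have sqL : IsPullback tU.left iU.left ι.left h.left :=
    (IsPullback.of_hasPullback h.left (V.left.fromSpecResidueField v)).flip
  have sq : IsPullback ((yon S).map tU) ((yon S).map iU) ((yon S).map ι) ((yon S).map h) :=
    Groth.Agent.Lib.Helper54.isPullback_yon_of_isPullback_left e sqL
  let aw : (yon S).obj Uv ⟶ pullback f ((yon S).map ι ≫ b) :=
    pullback.lift ((yon S).map iU ≫ q ≫ pullback.fst f b) ((yon S).map tU) (by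
      rw [Category.assoc, Category.assoc, pullback.condition, ← Category.assoc q, hh,
        ← Category.assoc, ← sq.w, Category.assoc])
  have h1 : aw ≫ pullback.fst f ((yon S).map ι ≫ b) = (yon S).map iU ≫ q ≫ pullback.fst f b :=
    pullback.lift_fst _ _ _
  have h2 : aw ≫ pullback.snd f ((yon S).map ι ≫ b) = (yon S).map tU := pullback.lift_snd _ _ _
  have hawe : RepWith @Etale aw :=
    repWith_fibre_lift @Etale f b q hqe h hh ι iU tU sq aw h1 h2
  have haws : RepWith @Surjective q → RepWith @Surjective aw := fun hqs =>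
    repWith_fibre_lift @Surjective f b q hqs h hh ι iU tU sq aw h1 h2
  refine ⟨aw ≫ sqv.isoPullback.inv, ?_, fun hqs => ?_⟩
  · exact (MorphismProperty.cancel_right_of_respectsIso (RepWith (S := S) @Etale) aw
      sqv.isoPullback.inv).mpr hawe
  · exact (MorphismProperty.cancel_right_of_respectsIso (RepWith (S := S) @Surjective) aw
      sqv.isoPullback.inv).mpr (haws hqs)

/-- If `h` is Gorenstein at all points over `v` and the fibre is locally Noetherian, the fibre is a
Gorenstein scheme. -/
theorem isGorenstein_fiber_of_forall {U V : Scheme.{u}} (h : U ⟶ V) (v : V)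
    (hN : IsLocallyNoetherian (h.fiber v))
    (H : ∀ y : ↥(h.fiber v), Dual3.IsGorensteinAt h (h.fiberι v y)) :
    Dual3.IsGorenstein (h.fiber v) := by
  refine ⟨hN, fun y => ?_⟩
  have := (isGorensteinAt_iff h (h.fiberι v y)).mp (H y)
  exact isGorensteinLocalRing_of_ringEquiv (Groth.Agent.H46.CMAt.fibreStalkEquiv h v y) this.2

end Groth.Agent.Lib.Helper78.GorenSp
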