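import Mathlib

set_option autoImplicit false
universe u v

namespace Groth.Agent.Lib.Helper78.HomQuot

variable {R : Type u} [CommRing R]

/-- `Hom_R(R/I, R/J) ≃ R/I` when `J : I` is generated by `c` modulo `J` and `(J : c) = I`. -/
noncomputable def homQuotEquiv (I J : Ideal R) (c : R) (h1 : ∀ x, c * x ∈ J ↔ x ∈ I)
    (h2 : ∀ r, (∀ a ∈ I, a * r ∈ J) → ∃ x, r = c * x) :
    ((R ⧸ I) →ₗ[R] (R ⧸ J)) ≃ₗ[R] (R ⧸ I) := by
  -- θ : R/I → R/J, ȳ ↦ class of c y
  let θ : (R ⧸ I) →ₗ[R] (R ⧸ J) :=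
    Submodule.liftQ I (c • Submodule.mkQ J) (by
      intro a ha
      rw [LinearMap.mem_ker, LinearMap.smul_apply, Submodule.mkQ_apply, ← Submodule.Quotient.mk_smul,
        Submodule.Quotient.mk_eq_zero, smul_eq_mul]
      exact (h1 a).mpr ha)
  have hθ : ∀ y : R, θ (Submodule.Quotient.mk y) = Submodule.Quotient.mk (c * y) := fun y => rfl
  let ψ : (R ⧸ I) →ₗ[R] ((R ⧸ I) →ₗ[R] (R ⧸ J)) :=
    Submodule.liftQ I (LinearMap.toSpanSingleton R _ θ) (by
      intro a ha
      rw [LinearMap.mem_ker, LinearMap.toSpanSingleton_apply]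
      apply LinearMap.ext
      intro y
      obtain ⟨y, rfl⟩ := Submodule.Quotient.mk_surjective _ y
      rw [LinearMap.smul_apply, LinearMap.zero_apply, hθ, ← Submodule.Quotient.mk_smul,
        Submodule.Quotient.mk_eq_zero, smul_eq_mul, ← mul_assoc, mul_comm a c, mul_assoc]
      exact (h1 _).mpr (I.mul_mem_right y ha))
  have hψ : ∀ x y : R, ψ (Submodule.Quotient.mk x) (Submodule.Quotient.mk y) =
      Submodule.Quotient.mk (x * (c * y)) := fun x y => rfl
  refine (LinearEquiv.ofBijective ψ ⟨?_, ?_⟩).symm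
  · rw [← LinearMap.ker_eq_bot, Submodule.eq_bot_iff]
    intro x hx
    obtain ⟨x, rfl⟩ := Submodule.Quotient.mk_surjective _ x
    rw [LinearMap.mem_ker] at hx
    have := LinearMap.congr_fun hx (Submodule.Quotient.mk 1)
    rw [hψ, LinearMap.zero_apply, Submodule.Quotient.mk_eq_zero, mul_one, mul_comm] at this
    rw [Submodule.Quotient.mk_eq_zero]
    exact (h1 x).mp this
  · intro f
    obtain ⟨r, hr⟩ := Submodule.Quotient.mk_surjective _ (f (Submodule.Quotient.mk 1))
    have hr2 : ∀ a ∈ I, a * r ∈ J := by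
      intro a ha
      rw [← smul_eq_mul, ← Submodule.Quotient.mk_eq_zero, Submodule.Quotient.mk_smul, hr,
        ← map_smul, ← Submodule.Quotient.mk_smul, smul_eq_mul, mul_one,
        (Submodule.Quotient.mk_eq_zero I).mpr ha, map_zero]
    obtain ⟨x, rfl⟩ := h2 r hr2
    refine ⟨Submodule.Quotient.mk x, ?_⟩
    apply LinearMap.ext
    intro y
    obtain ⟨y, rfl⟩ := Submodule.Quotient.mk_surjective _ y
    rw [hψ]
    have : (Submodule.Quotient.mk y : R ⧸ I) = y • Submodule.Quotient.mk 1 := by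
      rw [← Submodule.Quotient.mk_smul, smul_eq_mul, mul_one]
    rw [this, map_smul, ← hr, ← Submodule.Quotient.mk_smul, smul_eq_mul]
    congr 1
    ring

end Groth.Agent.Lib.Helper78.HomQuot
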