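import Mathlib.AlgebraicGeometry.ValuativeCriterion
import Mathlib.AlgebraicGeometry.Morphisms.Immersion
import Mathlib.AlgebraicGeometry.Morphisms.UniversallyInjective
import Mathlib.AlgebraicGeometry.ResidueField
import Mathlib.RingTheory.TensorProduct.Basic

/-!
# Monomorphisms of schemes induce isomorphisms on residue fields
-/

set_option autoImplicit false
set_option linter.style.haveILetI false
universe u
open CategoryTheory CategoryTheory.Limits AlgebraicGeometry TensorProduct

namespace Groth.Agent.Lib.Helper78

/-- If the two inclusions `L → L ⊗[k] L` agree (i.e. `k → L` is an epimorphism of rings) for a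
field extension `L / k`, then `k → L` is surjective. -/
theorem field_surjective_of_tmul_eq {k L : Type u} [Field k] [Field L] [Algebra k L]
    (h : ∀ a : L, a ⊗ₜ[k] (1 : L) = (1 : L) ⊗ₜ[k] a) :
    Function.Surjective (algebraMap k L) := by
  obtain ⟨lam, hlam⟩ := LinearMap.exists_leftInverse_of_injective (Algebra.linearMap k L)
    (LinearMap.ker_eq_bot.mpr (algebraMap k L).injective)
  intro a
  refine ⟨lam a, ?_⟩
  have h1 : lam 1 = 1 := by
    have := LinearMap.congr_fun hlam 1
    simpa using this
  have key := congrArg (TensorProduct.lift ((LinearMap.lsmul k L).comp lam)) (h a)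
  simp only [TensorProduct.lift.tmul, LinearMap.comp_apply, LinearMap.lsmul_apply, h1,
    one_smul] at key
  rw [Algebra.algebraMap_eq_smul_one]
  exact key

/-- A monomorphism of schemes induces surjections (hence bijections) on residue fields. -/
theorem residueFieldMap_surjective_of_mono {X Y : Scheme.{u}} (f : X ⟶ Y) [Mono f] (x : X) :
    Function.Surjective (f.residueFieldMap x).hom := by
  letI : Algebra (Y.residueField (f x)) (X.residueField x) := (f.residueFieldMap x).hom.toAlgebra
  have hρ : algebraMap (Y.residueField (f x)) (X.residueField x) = (f.residueFieldMap x).hom := rfl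
  rw [← hρ]
  apply field_surjective_of_tmul_eq
  let ι₁ : X.residueField x ⟶
      CommRingCat.of (X.residueField x ⊗[Y.residueField (f x)] X.residueField x) :=
    CommRingCat.ofHom (Algebra.TensorProduct.includeLeft (R := Y.residueField (f x))
      (S := Y.residueField (f x))
      (A := X.residueField x) (B := X.residueField x)).toRingHom
  let ι₂ : X.residueField x ⟶
      CommRingCat.of (X.residueField x ⊗[Y.residueField (f x)] X.residueField x) :=
    CommRingCat.ofHom (Algebra.TensorProduct.includeRight (R := Y.residueField (f x))
      (A := X.residueField x) (B := X.residueField x)).toRingHom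
  have hι : f.residueFieldMap x ≫ ι₁ = f.residueFieldMap x ≫ ι₂ := by
    ext a
    change (algebraMap (Y.residueField (f x)) (X.residueField x) a) ⊗ₜ[Y.residueField (f x)]
      (1 : X.residueField x) = (1 : X.residueField x) ⊗ₜ[Y.residueField (f x)]
      (algebraMap (Y.residueField (f x)) (X.residueField x) a)
    rw [Algebra.algebraMap_eq_smul_one, TensorProduct.smul_tmul]
  have h2 : Spec.map ι₁ ≫ X.fromSpecResidueField x = Spec.map ι₂ ≫ X.fromSpecResidueField x := by
    rw [← cancel_mono f, Category.assoc, Category.assoc,
      ← Scheme.Hom.SpecMap_residueFieldMap_fromSpecResidueField, ← Spec.map_comp_assoc,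
      ← Spec.map_comp_assoc, hι]
  have h3 : ι₁ = ι₂ := by
    rw [cancel_mono] at h2
    exact Spec.map_injective h2
  intro a
  exact congrArg (fun φ : X.residueField x ⟶
      CommRingCat.of (X.residueField x ⊗[Y.residueField (f x)] X.residueField x) => φ.hom a) h3

theorem residueFieldMap_bijective_of_mono {X Y : Scheme.{u}} (f : X ⟶ Y) [Mono f] (x : X) :
    Function.Bijective (f.residueFieldMap x).hom :=
  ⟨(f.residueFieldMap x).hom.injective, residueFieldMap_surjective_of_mono f x⟩

instance isIso_residueFieldMap_of_mono {X Y : Scheme.{u}} (f : X ⟶ Y) [Mono f] (x : X) :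
    IsIso (f.residueFieldMap x) :=
  (ConcreteCategory.isIso_iff_bijective _).mpr (residueFieldMap_bijective_of_mono f x)

end Groth.Agent.Lib.Helper78
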