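import Mathlib
import Groth.Prelude.Def_W4c2arithlefschetzNode

/-!
# Basic facts on `ArLef.NodeAlg B π = B[[x,y]]/(xy - π)` (helper78)

* `pi_mul_eq_zero` : `π` is a nonzerodivisor on `NodeAlg B π` when `B` is a domain and `π ≠ 0`;
* `toResidue` : the ring hom `NodeAlg B π → B/π` killing `t`, `e`.
-/

set_option autoImplicit false
universe u

namespace Groth.Agent.Lib.Helper78.NodeAlgBasic

open MvPowerSeries ArLef

variable {B : Type u} [CommRing B]

/-- the exponent `(1,1)` -/
noncomputable abbrev one1 : Fin 2 →₀ ℕ := Finsupp.single 0 1 + Finsupp.single 1 1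

theorem X0_mul_X1 : (X 0 * X 1 : MvPowerSeries (Fin 2) B) = monomial one1 1 := by
  rw [X_def, X_def, monomial_mul_monomial, mul_one]

theorem coeff_add_X0X1_mul (n : Fin 2 →₀ ℕ) (g : MvPowerSeries (Fin 2) B) :
    coeff (one1 + n) (X 0 * X 1 * g) = coeff n g := by
  rw [X0_mul_X1, coeff_add_monomial_mul, one_mul]

/-- Key divisibility lemma: if `π f = (xy - π) g` then `f` is a multiple of `xy - π`. -/
theorem exists_mul_of_C_mul_eq [IsDomain B] (π : B) (hπ : π ≠ 0)
    (f g : MvPowerSeries (Fin 2) B) (h : C π * f = (X 0 * X 1 - C π) * g) :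
    ∃ g', f = (X 0 * X 1 - C π) * g' := by
  -- `g = π g'` with `g'` the shift of `f + g`
  let g' : MvPowerSeries (Fin 2) B := fun n => coeff (one1 + n) (f + g)
  have hg' : ∀ n, coeff n g' = coeff (one1 + n) (f + g) := fun n => rfl
  have hg : g = C π * g' := by
    ext n
    rw [coeff_C_mul, hg', map_add, mul_add]
    have := congrArg (coeff (one1 + n)) h
    rw [coeff_C_mul, sub_mul, map_sub, coeff_add_X0X1_mul, coeff_C_mul] at this
    rw [this]; ring
  refine ⟨g', ?_⟩
  ext n
  have h2 : C π * f = C π * ((X 0 * X 1 - C π) * g') := by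
    rw [h, hg]; ring
  have := congrArg (coeff n) h2
  rw [coeff_C_mul, coeff_C_mul] at this
  exact mul_left_cancel₀ hπ this

theorem algebraMap_eq (π b : B) :
    algebraMap B (NodeAlg B π) b = Ideal.Quotient.mk _ (C b : MvPowerSeries (Fin 2) B) := rfl

theorem t_mul_e (π : B) : NodeAlg.t π * NodeAlg.e π = algebraMap B (NodeAlg B π) π := by
  rw [algebraMap_eq, ← map_mul, Ideal.Quotient.eq]
  exact Ideal.subset_span rfl

/-- `π` is a nonzerodivisor on the node algebra. -/
theorem pi_mul_eq_zero [IsDomain B] (π : B) (hπ : π ≠ 0) (z : NodeAlg B π)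
    (hz : algebraMap B (NodeAlg B π) π * z = 0) : z = 0 := by
  obtain ⟨f, rfl⟩ := Ideal.Quotient.mk_surjective z
  rw [algebraMap_eq, ← map_mul, Ideal.Quotient.eq_zero_iff_mem, Ideal.mem_span_singleton] at hz
  obtain ⟨g, hg⟩ := hz
  obtain ⟨g', rfl⟩ := exists_mul_of_C_mul_eq π hπ f g hg
  rw [Ideal.Quotient.eq_zero_iff_mem, Ideal.mem_span_singleton]
  exact dvd_mul_right _ _

theorem pi_pow_mul_eq_zero [IsDomain B] (π : B) (hπ : π ≠ 0) (j : ℕ) (z : NodeAlg B π)
    (hz : algebraMap B (NodeAlg B π) (π ^ j) * z = 0) : z = 0 := by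
  induction j with
  | zero => simpa using hz
  | succ j ih =>
    apply ih
    apply pi_mul_eq_zero π hπ
    rw [← mul_assoc, ← map_mul, ← pow_succ']
    exact hz

/-- The ring hom `B[[x,y]]/(xy - π) → B/π`. -/
noncomputable def toResidue (π : B) : NodeAlg B π →+* B ⧸ Ideal.span {π} :=
  Ideal.Quotient.lift _ ((Ideal.Quotient.mk (Ideal.span {π})).comp constantCoeff) (by
    intro a ha
    rw [Ideal.mem_span_singleton] at ha
    obtain ⟨c, rfl⟩ := ha
    rw [RingHom.comp_apply, map_mul, map_mul]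
    have : (Ideal.Quotient.mk (Ideal.span {π}))
        (constantCoeff (X 0 * X 1 - C π : MvPowerSeries (Fin 2) B)) = 0 := by
      rw [map_sub, map_mul, constantCoeff_X, zero_mul, zero_sub, constantCoeff_C, map_neg,
        Ideal.Quotient.eq_zero_iff_mem.mpr (Ideal.mem_span_singleton_self π), neg_zero]
    rw [this, zero_mul])

theorem toResidue_t (π : B) : toResidue π (NodeAlg.t π) = 0 := by
  change (Ideal.Quotient.mk (Ideal.span {π})) (constantCoeff (X 0)) = 0
  rw [constantCoeff_X, map_zero]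

theorem toResidue_e (π : B) : toResidue π (NodeAlg.e π) = 0 := by
  change (Ideal.Quotient.mk (Ideal.span {π})) (constantCoeff (X 1)) = 0
  rw [constantCoeff_X, map_zero]

theorem toResidue_algebraMap (π b : B) :
    toResidue π (algebraMap B (NodeAlg B π) b) = Ideal.Quotient.mk _ b := by
  change (Ideal.Quotient.mk (Ideal.span {π})) (constantCoeff (C b)) = _
  rw [constantCoeff_C]

end Groth.Agent.Lib.Helper78.NodeAlgBasic
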