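import Groth.Agent.Lib.Helper78.NodeAlgLength

/-!
# Lengths via colon ideals (helper78)

* `length_quot_eq_add_of_colon` : `L(A/J) = L(A/(J:x)) + L(A/(J+(x)))`;
* `mul_mem_span_pair_iff` : a prime nonzerodivisor `x ∤ b` is regular modulo `b`;
* `length_quot_span_pair_pow`, `length_quot_span_pow_mul_pow`;
* `length_G`, `length_G'` : the two length computations for the stabilizing case of the node algebra;
* `fixIdeal_stab` : generators of the fixed-point ideal in the stabilizing case.
-/

set_option autoImplicit false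
universe u

namespace Groth.Agent.Lib.Helper78.NodeAlgBasic

open MvPowerSeries ArLef

section General
variable {A : Type u} [CommRing A]

/-- the colon exact sequence `0 → A/(J:x) → A/J → A/(J+(x)) → 0`. -/
theorem length_quot_eq_add_of_colon (J J' J'' : Ideal A) (x : A)
    (h1 : ∀ y, x * y ∈ J ↔ y ∈ J') (h2 : J ⊔ Ideal.span {x} = J'') :
    Module.length A (A ⧸ J) = Module.length A (A ⧸ J') + Module.length A (A ⧸ J'') := by
  subst h2
  have hle1 : J' ≤ Submodule.comap (LinearMap.mulLeft A x) J := fun y hy => (h1 y).mpr hy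
  let f : (A ⧸ J') →ₗ[A] (A ⧸ J) := Submodule.mapQ J' J (LinearMap.mulLeft A x) hle1
  let g : (A ⧸ J) →ₗ[A] (A ⧸ (J ⊔ Ideal.span {x})) :=
    Submodule.mapQ J _ LinearMap.id (by simp)
  have hf : ∀ a, f (Submodule.Quotient.mk a) = Submodule.Quotient.mk (x * a) := fun a => rfl
  have hg : ∀ a, g (Submodule.Quotient.mk a) = Submodule.Quotient.mk a := fun a => rfl
  apply Module.length_eq_add_of_exact f g
  · rw [← LinearMap.ker_eq_bot, LinearMap.ker_eq_bot']
    intro y hy
    obtain ⟨a, rfl⟩ := Submodule.Quotient.mk_surjective _ y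
    rw [hf, Submodule.Quotient.mk_eq_zero] at hy
    exact (Submodule.Quotient.mk_eq_zero _).mpr ((h1 a).mp hy)
  · intro y
    obtain ⟨a, rfl⟩ := Submodule.Quotient.mk_surjective _ y
    exact ⟨Submodule.Quotient.mk a, hg a⟩
  · intro y
    obtain ⟨a, rfl⟩ := Submodule.Quotient.mk_surjective _ y
    rw [hg, Submodule.Quotient.mk_eq_zero]
    constructor
    · intro h
      obtain ⟨u, hu, w, hw, rfl⟩ := Submodule.mem_sup.mp h
      obtain ⟨c, rfl⟩ := Ideal.mem_span_singleton'.mp hw
      refine ⟨Submodule.Quotient.mk c, ?_⟩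
      rw [hf, Submodule.Quotient.eq]
      have : x * c - (u + c * x) = -u := by ring
      rw [this]
      exact J.neg_mem hu
    · rintro ⟨z, hz⟩
      obtain ⟨c, rfl⟩ := Submodule.Quotient.mk_surjective _ z
      rw [hf] at hz
      have h3 : x * c - a ∈ J := (Submodule.Quotient.eq _).mp hz
      have : a = -(x * c - a) + c * x := by ring
      rw [this]
      exact Submodule.add_mem_sup (J.neg_mem h3) (Ideal.mem_span_singleton'.mpr ⟨c, rfl⟩)

/-- a prime nonzerodivisor `x` not dividing `b` is regular modulo `b`. -/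
theorem mul_mem_span_pair_iff (x : A) (hx : Prime x) (hx0 : ∀ z : A, x * z = 0 → z = 0)
    (b c y : A) (hb : ¬ x ∣ b) :
    x * y ∈ Ideal.span ({b, x * c} : Set A) ↔ y ∈ Ideal.span ({b, c} : Set A) := by
  rw [Ideal.mem_span_pair, Ideal.mem_span_pair]
  constructor
  · rintro ⟨p, q, h⟩
    have h1 : x ∣ p * b := ⟨y - q * c, by linear_combination h⟩
    rcases hx.dvd_or_dvd h1 with ⟨p', rfl⟩ | h2
    · refine ⟨p', q, ?_⟩
      have : x * (p' * b + q * c - y) = 0 := by linear_combination h
      exact sub_eq_zero.mp (hx0 _ this)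
    · exact absurd h2 hb
  · rintro ⟨p, q, rfl⟩
    exact ⟨x * p, q, by ring⟩

theorem span_pair_sup_span_mul (x b c : A) :
    Ideal.span ({b, x * c} : Set A) ⊔ Ideal.span {x} = Ideal.span {b, x} := by
  apply le_antisymm
  · rw [sup_le_iff, Ideal.span_le, Ideal.span_le]
    refine ⟨?_, ?_⟩
    · rintro z (rfl | rfl)
      · exact Ideal.subset_span (by simp)
      · exact Ideal.mul_mem_right _ _ (Ideal.subset_span (by simp))
    · rintro z rfl
      exact Ideal.subset_span (by simp)
  · rw [Ideal.span_le]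
    rintro z (rfl | rfl)
    · exact Ideal.mem_sup_left (Ideal.subset_span (by simp))
    · exact Ideal.mem_sup_right (Ideal.mem_span_singleton_self _)

/-- `L(A/(b, x c)) = L(A/(b, c)) + L(A/(b, x))` for a prime nonzerodivisor `x ∤ b`. -/
theorem length_quot_span_pair_mul (x : A) (hx : Prime x) (hx0 : ∀ z : A, x * z = 0 → z = 0)
    (b c : A) (hb : ¬ x ∣ b) :
    Module.length A (A ⧸ Ideal.span ({b, x * c} : Set A)) =
      Module.length A (A ⧸ Ideal.span ({b, c} : Set A)) +
        Module.length A (A ⧸ Ideal.span ({b, x} : Set A)) :=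
  length_quot_eq_add_of_colon _ _ _ x (fun y => mul_mem_span_pair_iff x hx hx0 b c y hb)
    (span_pair_sup_span_mul x b c)

theorem span_pair_one (b : A) : Ideal.span ({b, 1} : Set A) = ⊤ :=
  (Ideal.eq_top_iff_one _).mpr (Ideal.subset_span (by simp))

theorem length_quot_top : Module.length A (A ⧸ (⊤ : Ideal A)) = 0 := by
  rw [Module.length_eq_zero_iff]
  infer_instance

/-- `L(A/(b, x^n)) = n L(A/(b, x))`. -/
theorem length_quot_span_pair_pow (x : A) (hx : Prime x) (hx0 : ∀ z : A, x * z = 0 → z = 0)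
    (b : A) (n : ℕ) (hb : n ≠ 0 → ¬ x ∣ b) :
    Module.length A (A ⧸ Ideal.span ({b, x ^ n} : Set A)) =
      (n : ℕ∞) * Module.length A (A ⧸ Ideal.span ({b, x} : Set A)) := by
  induction n with
  | zero => rw [pow_zero, span_pair_one, length_quot_top]; simp
  | succ n ih =>
    have hb' : ¬ x ∣ b := hb (Nat.succ_ne_zero n)
    rw [pow_succ', length_quot_span_pair_mul x hx hx0 b _ hb', ih (fun _ => hb')]
    push_cast
    ring

end General


section DVR
variable {B : Type u} [CommRing B] [IsDomain B] [IsDiscreteValuationRing B] (π : B)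

theorem t_prime (hπ : Irreducible π) : Prime (NodeAlg.t π) :=
  v_prime π hπ.prime (s := 1) (s' := 0) (by decide)

theorem e_prime (hπ : Irreducible π) : Prime (NodeAlg.e π) :=
  v_prime π hπ.prime (s := 0) (s' := 1) (by decide)

theorem t_mul_eq_zero (hπ : Irreducible π) (z : NodeAlg B π) (hz : NodeAlg.t π * z = 0) : z = 0 :=
  v_mul_eq_zero π hπ.ne_zero (s := 1) (s' := 0) (by decide) z hz

theorem e_mul_eq_zero (hπ : Irreducible π) (z : NodeAlg B π) (hz : NodeAlg.e π * z = 0) : z = 0 :=
  v_mul_eq_zero π hπ.ne_zero (s := 0) (s' := 1) (by decide) z hz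

theorem t_pow_mul_e_pow_mul_eq_zero (hπ : Irreducible π) (m n : ℕ) (z : NodeAlg B π)
    (hz : NodeAlg.t π ^ m * NodeAlg.e π ^ n * z = 0) : z = 0 := by
  induction m with
  | zero =>
    induction n with
    | zero => simpa using hz
    | succ n ih =>
      apply ih
      apply e_mul_eq_zero π hπ
      rw [← hz]; ring
  | succ m ih =>
    apply ih
    apply t_mul_eq_zero π hπ
    rw [← hz]; ring

/-- `L(N/(b, t^m e^n)) = m L(N/(b,t)) + n L(N/(b,e))`. -/
theorem length_quot_span_pow_mul_pow (hπ : Irreducible π) (b : NodeAlg B π)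
    (htb : ¬ NodeAlg.t π ∣ b) (m n : ℕ) (heb : n ≠ 0 → ¬ NodeAlg.e π ∣ b) :
    Module.length (NodeAlg B π) (NodeAlg B π ⧸
        Ideal.span ({b, NodeAlg.t π ^ m * NodeAlg.e π ^ n} : Set (NodeAlg B π))) =
      (m : ℕ∞) * Module.length (NodeAlg B π) (NodeAlg B π ⧸
        Ideal.span ({b, NodeAlg.t π} : Set (NodeAlg B π))) +
      (n : ℕ∞) * Module.length (NodeAlg B π) (NodeAlg B π ⧸
        Ideal.span ({b, NodeAlg.e π} : Set (NodeAlg B π))) := by
  induction m with
  | zero =>
    rw [pow_zero, one_mul, length_quot_span_pair_pow _ (e_prime π hπ) (e_mul_eq_zero π hπ) b n heb]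
    simp
  | succ m ih =>
    rw [pow_succ', mul_assoc, length_quot_span_pair_mul _ (t_prime π hπ) (t_mul_eq_zero π hπ) b _ htb,
      ih]
    push_cast
    ring

/-- **Length computation G**: `L(N/(ta, eb, t^{m+1} e^{n+1})) = 1 + (m+1) L(N/(t,b)) + (n+1) L(N/(e,a))`
when `a + α b = γ' t^m e^n` with units `α, γ'`, `e ∤ a`, `t ∤ b`. -/
theorem length_G (hπ : Irreducible π) (a b α γ' : NodeAlg B π) (hα : IsUnit α) (hγ' : IsUnit γ')
    (m n : ℕ) (hrel : a + α * b = γ' * (NodeAlg.t π ^ m * NodeAlg.e π ^ n))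
    (hea : ¬ NodeAlg.e π ∣ a) (htb : ¬ NodeAlg.t π ∣ b) :
    Module.length (NodeAlg B π) (NodeAlg B π ⧸
        Ideal.span ({NodeAlg.t π * a, NodeAlg.e π * b,
          NodeAlg.t π ^ (m + 1) * NodeAlg.e π ^ (n + 1)} : Set (NodeAlg B π))) =
      1 + ((m + 1 : ℕ) : ℕ∞) * Module.length (NodeAlg B π) (NodeAlg B π ⧸
        Ideal.span ({NodeAlg.t π, b} : Set (NodeAlg B π))) +
      ((n + 1 : ℕ) : ℕ∞) * Module.length (NodeAlg B π) (NodeAlg B π ⧸
        Ideal.span ({NodeAlg.e π, a} : Set (NodeAlg B π))) := by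
  set t := NodeAlg.t π with htdef
  set e := NodeAlg.e π with hedef
  have htp : Prime t := t_prime π hπ
  have hep : Prime e := e_prime π hπ
  have ht0 : ∀ z, t * z = 0 → z = 0 := t_mul_eq_zero π hπ
  have he0 : ∀ z, e * z = 0 → z = 0 := e_mul_eq_zero π hπ
  have hte : ¬ t ∣ e := t_not_dvd_e π hπ.not_isUnit
  have het : ¬ e ∣ t := e_not_dvd_t π hπ.not_isUnit
  obtain ⟨γi, hγi⟩ := hγ'.exists_left_inv
  obtain ⟨αi, hαi⟩ := hα.exists_left_inv
  -- step 1: colon by `t`
  have step1 : Module.length (NodeAlg B π) (NodeAlg B π ⧸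
        Ideal.span ({t * a, e * b, t ^ (m + 1) * e ^ (n + 1)} : Set (NodeAlg B π))) =
      Module.length (NodeAlg B π) (NodeAlg B π ⧸ Ideal.span ({a, e * b} : Set (NodeAlg B π))) +
      Module.length (NodeAlg B π) (NodeAlg B π ⧸ Ideal.span ({t, e * b} : Set (NodeAlg B π))) := by
    apply length_quot_eq_add_of_colon _ _ _ t
    · intro y
      rw [Submodule.mem_span_triple, Ideal.mem_span_pair]
      constructor
      · rintro ⟨p, q, r, h⟩
        simp only [smul_eq_mul] at h
        have h1 : t ∣ q * (e * b) :=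
          ⟨y - p * a - r * (t ^ m * e ^ (n + 1)), by rw [pow_succ] at h; linear_combination h⟩
        have h2 : t ∣ q := by
          rcases htp.dvd_or_dvd h1 with h3 | h3
          · exact h3
          · rcases htp.dvd_or_dvd h3 with h4 | h4
            · exact absurd h4 hte
            · exact absurd h4 htb
        obtain ⟨q', rfl⟩ := h2
        have h5 : t * (y - (p * a + q' * (e * b) + r * (t ^ m * e ^ (n + 1)))) = 0 := by
          rw [pow_succ] at h; linear_combination -h
        have h6 := sub_eq_zero.mp (ht0 _ h5)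
        have h7 : t ^ m * e ^ (n + 1) = (γi * e) * a + (γi * α) * (e * b) := by
          have : t ^ m * e ^ (n + 1) = γi * γ' * (e * (t ^ m * e ^ n)) := by
            rw [hγi, pow_succ]; ring
          rw [this]
          linear_combination (-(γi * e)) * hrel
        refine ⟨p + r * (γi * e), q' + r * (γi * α), ?_⟩
        rw [h6, h7]; ring
      · rintro ⟨p, q, rfl⟩
        exact ⟨p, t * q, 0, by simp only [smul_eq_mul]; ring⟩
    · apply le_antisymm
      · rw [sup_le_iff, Ideal.span_le, Ideal.span_le]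
        refine ⟨?_, ?_⟩
        · rintro z (rfl | rfl | rfl)
          · exact Ideal.mul_mem_right _ _ (Ideal.subset_span (by simp))
          · exact Ideal.subset_span (by simp)
          · rw [pow_succ', mul_assoc]
            exact Ideal.mul_mem_right _ _ (Ideal.subset_span (by simp))
        · rintro z rfl
          exact Ideal.subset_span (by simp)
      · rw [Ideal.span_le]
        rintro z (rfl | rfl)
        · exact Ideal.mem_sup_right (Ideal.mem_span_singleton_self _)
        · exact Ideal.mem_sup_left (Ideal.subset_span (by simp))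
  -- step 2
  have step2 : Module.length (NodeAlg B π) (NodeAlg B π ⧸ Ideal.span ({t, e * b} : Set (NodeAlg B π))) =
      Module.length (NodeAlg B π) (NodeAlg B π ⧸ Ideal.span ({t, b} : Set (NodeAlg B π))) + 1 := by
    rw [length_quot_span_pair_mul e hep he0 t b het, length_quot_span_t_e π hπ]
  -- step 3
  have step3 : Module.length (NodeAlg B π) (NodeAlg B π ⧸ Ideal.span ({a, e * b} : Set (NodeAlg B π))) =
      Module.length (NodeAlg B π) (NodeAlg B π ⧸ Ideal.span ({a, b} : Set (NodeAlg B π))) +
      Module.length (NodeAlg B π) (NodeAlg B π ⧸ Ideal.span ({e, a} : Set (NodeAlg B π))) := by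
    rw [length_quot_span_pair_mul e hep he0 a b hea, Set.pair_comm a e]
  -- step 4
  have hab : Ideal.span ({a, b} : Set (NodeAlg B π)) = Ideal.span {b, t ^ m * e ^ n} := by
    apply le_antisymm
    · rw [Ideal.span_le]
      rintro z (rfl | rfl)
      · rw [SetLike.mem_coe, Ideal.mem_span_pair]
        exact ⟨-α, γ', by linear_combination -hrel⟩
      · exact Ideal.subset_span (by simp)
    · rw [Ideal.span_le]
      rintro z (rfl | rfl)
      · exact Ideal.subset_span (by simp)
      · rw [SetLike.mem_coe, Ideal.mem_span_pair]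
        refine ⟨γi, γi * α, ?_⟩
        have : t ^ m * e ^ n = γi * γ' * (t ^ m * e ^ n) := by rw [hγi, one_mul]
        rw [this]
        linear_combination (γi) * hrel
  have heb : n ≠ 0 → ¬ e ∣ b := by
    intro hn hdvd
    apply hea
    obtain ⟨n', rfl⟩ := Nat.exists_eq_succ_of_ne_zero hn
    obtain ⟨c, rfl⟩ := hdvd
    exact ⟨γ' * (t ^ m * e ^ n') - α * c, by rw [pow_succ] at hrel; linear_combination hrel⟩
  have step4 : Module.length (NodeAlg B π) (NodeAlg B π ⧸ Ideal.span ({a, b} : Set (NodeAlg B π))) =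
      (m : ℕ∞) * Module.length (NodeAlg B π) (NodeAlg B π ⧸ Ideal.span ({t, b} : Set (NodeAlg B π))) +
      (n : ℕ∞) * Module.length (NodeAlg B π) (NodeAlg B π ⧸ Ideal.span ({e, a} : Set (NodeAlg B π))) := by
    rw [hab, length_quot_span_pow_mul_pow π hπ b htb m n heb, Set.pair_comm b t]
    congr 1
    rcases Nat.eq_zero_or_pos n with rfl | hn
    · simp
    · obtain ⟨n', rfl⟩ := Nat.exists_eq_succ_of_ne_zero hn.ne'
      have : Ideal.span ({b, e} : Set (NodeAlg B π)) = Ideal.span {e, a} := by
        apply le_antisymm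
        · rw [Ideal.span_le]
          rintro z (rfl | rfl)
          · rw [SetLike.mem_coe, Ideal.mem_span_pair]
            refine ⟨αi * γ' * (t ^ m * e ^ n'), -αi, ?_⟩
            have : z = αi * α * z := by rw [hαi, one_mul]
            rw [this, pow_succ] at *
            linear_combination (-αi) * hrel
          · exact Ideal.subset_span (by simp)
        · rw [Ideal.span_le]
          rintro z (rfl | rfl)
          · exact Ideal.subset_span (by simp)
          · rw [SetLike.mem_coe, Ideal.mem_span_pair]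
            exact ⟨-α, γ' * (t ^ m * e ^ n'), by rw [pow_succ] at hrel; linear_combination -hrel⟩
      rw [this]
  rw [step1, step2, step3, step4]
  push_cast
  ring

end DVR


section DVR2
variable {B : Type u} [CommRing B] [IsDomain B] [IsDiscreteValuationRing B] (π : B)

/-- **Length computation G'**: `L(N/(ta, b, t^{m+1})) + m = (m+1) L(N/(t,b))`
when `e a + α b = γ' t^m` with units `α, γ'` and `t ∤ b`. -/
theorem length_G' (hπ : Irreducible π) (a b α γ' : NodeAlg B π) (hα : IsUnit α) (hγ' : IsUnit γ')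
    (m : ℕ) (hrel : NodeAlg.e π * a + α * b = γ' * NodeAlg.t π ^ m)
    (htb : ¬ NodeAlg.t π ∣ b) :
    Module.length (NodeAlg B π) (NodeAlg B π ⧸
        Ideal.span ({NodeAlg.t π * a, b, NodeAlg.t π ^ (m + 1)} : Set (NodeAlg B π))) + (m : ℕ∞) =
      ((m + 1 : ℕ) : ℕ∞) * Module.length (NodeAlg B π) (NodeAlg B π ⧸
        Ideal.span ({NodeAlg.t π, b} : Set (NodeAlg B π))) := by
  set t := NodeAlg.t π with htdef
  set e := NodeAlg.e π with hedef
  have htp : Prime t := t_prime π hπ
  have hep : Prime e := e_prime π hπ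
  have ht0 : ∀ z, t * z = 0 → z = 0 := t_mul_eq_zero π hπ
  have he0 : ∀ z, e * z = 0 → z = 0 := e_mul_eq_zero π hπ
  have het : ¬ e ∣ t := e_not_dvd_t π hπ.not_isUnit
  obtain ⟨γi, hγi⟩ := hγ'.exists_left_inv
  obtain ⟨αi, hαi⟩ := hα.exists_left_inv
  have hb_eq : b = αi * γ' * t ^ m - αi * e * a := by
    have : b = αi * α * b := by rw [hαi, one_mul]
    rw [this]
    linear_combination αi * hrel
  -- step 1: colon by `t`
  have step1 : Module.length (NodeAlg B π) (NodeAlg B π ⧸
        Ideal.span ({t * a, b, t ^ (m + 1)} : Set (NodeAlg B π))) =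
      Module.length (NodeAlg B π) (NodeAlg B π ⧸ Ideal.span ({a, t ^ m} : Set (NodeAlg B π))) +
      Module.length (NodeAlg B π) (NodeAlg B π ⧸ Ideal.span ({t, b} : Set (NodeAlg B π))) := by
    apply length_quot_eq_add_of_colon _ _ _ t
    · intro y
      rw [Submodule.mem_span_triple, Ideal.mem_span_pair]
      constructor
      · rintro ⟨p, q, r, h⟩
        simp only [smul_eq_mul] at h
        have h1 : t ∣ q * b :=
          ⟨y - p * a - r * t ^ m, by rw [pow_succ] at h; linear_combination h⟩
        have h2 : t ∣ q := by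
          rcases htp.dvd_or_dvd h1 with h3 | h3
          · exact h3
          · exact absurd h3 htb
        obtain ⟨q', rfl⟩ := h2
        have h5 : t * (y - (p * a + q' * b + r * t ^ m)) = 0 := by
          rw [pow_succ] at h; linear_combination -h
        have h6 := sub_eq_zero.mp (ht0 _ h5)
        refine ⟨p - q' * (αi * e), r + q' * (αi * γ'), ?_⟩
        rw [h6]
        conv_rhs => rw [hb_eq]
        ring
      · rintro ⟨p, q, rfl⟩
        exact ⟨p, 0, q, by simp only [smul_eq_mul]; ring⟩
    · apply le_antisymm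
      · rw [sup_le_iff, Ideal.span_le, Ideal.span_le]
        refine ⟨?_, ?_⟩
        · rintro z (rfl | rfl | rfl)
          · exact Ideal.mul_mem_right _ _ (Ideal.subset_span (by simp))
          · exact Ideal.subset_span (by simp)
          · rw [pow_succ']
            exact Ideal.mul_mem_right _ _ (Ideal.subset_span (by simp))
        · rintro z rfl
          exact Ideal.subset_span (by simp)
      · rw [Ideal.span_le]
        rintro z (rfl | rfl)
        · exact Ideal.mem_sup_right (Ideal.mem_span_singleton_self _)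
        · exact Ideal.mem_sup_left (Ideal.subset_span (by simp))
  rw [step1]
  rcases Nat.eq_zero_or_pos m with rfl | hm
  · rw [pow_zero, span_pair_one, length_quot_top]
    simp
  · obtain ⟨m', rfl⟩ := Nat.exists_eq_succ_of_ne_zero hm.ne'
    have hta : ¬ t ∣ a := by
      intro hdvd
      apply htb
      obtain ⟨c, rfl⟩ := hdvd
      rw [hb_eq]
      exact ⟨αi * γ' * t ^ m' - αi * e * c, by rw [pow_succ]; ring⟩
    have hspan : Ideal.span ({t, b} : Set (NodeAlg B π)) = Ideal.span {t, e * a} := by
      apply le_antisymm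
      · rw [Ideal.span_le]
        rintro z (rfl | rfl)
        · exact Ideal.subset_span (by simp)
        · rw [SetLike.mem_coe, Ideal.mem_span_pair]
          refine ⟨αi * γ' * t ^ m', -αi, ?_⟩
          conv_rhs => rw [hb_eq]
          rw [pow_succ]; ring
      · rw [Ideal.span_le]
        rintro z (rfl | rfl)
        · exact Ideal.subset_span (by simp)
        · rw [SetLike.mem_coe, Ideal.mem_span_pair]
          exact ⟨γ' * t ^ m', -α, by rw [pow_succ] at hrel; linear_combination -hrel⟩
    rw [hspan, length_quot_span_pair_mul e hep he0 t a het, length_quot_span_t_e π hπ,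
      length_quot_span_pair_pow t htp ht0 a (m' + 1) (fun _ => hta), Set.pair_comm a t]
    push_cast
    ring

/-- **Generators of the fixed-point ideal in the stabilizing case.** -/
theorem fixIdeal_stab (hπ : Irreducible π) (j : ℕ) (hj : 1 ≤ j) (γ : B) (hγ : IsUnit γ)
    (σ : NodeAlg B π ≃+* NodeAlg B π)
    (hσB : ∀ c : B, σ (algebraMap B (NodeAlg B π) c) - algebraMap B (NodeAlg B π) c ∈
      Ideal.span ({algebraMap B (NodeAlg B π) (π ^ j)} : Set (NodeAlg B π)))
    (hσπ : σ (algebraMap B (NodeAlg B π) π) = algebraMap B (NodeAlg B π) (π + γ * π ^ j))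
    (α β : NodeAlg B π) (ht : σ (NodeAlg.t π) = α * NodeAlg.t π)
    (he : σ (NodeAlg.e π) = β * NodeAlg.e π) :
    ArLef.fixIdeal σ = Ideal.span {(α - 1) * NodeAlg.t π, (β - 1) * NodeAlg.e π,
        NodeAlg.t π ^ j * NodeAlg.e π ^ j} ∧
      (α - 1) + α * (β - 1) = algebraMap B (NodeAlg B π) γ *
        (NodeAlg.t π ^ (j - 1) * NodeAlg.e π ^ (j - 1)) := by
  have hπ0 : π ≠ 0 := hπ.ne_zero
  have hπu : ¬ IsUnit π := hπ.not_isUnit
  have hte := t_mul_e π
  have hpow : ∀ k : ℕ, algebraMap B (NodeAlg B π) (π ^ k) = NodeAlg.t π ^ k * NodeAlg.e π ^ k := by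
    intro k; rw [map_pow, ← hte, mul_pow]
  constructor
  · apply le_antisymm
    · apply fixIdeal_le π hπu
      · rw [ht]
        have : α * NodeAlg.t π - NodeAlg.t π = (α - 1) * NodeAlg.t π := by ring
        rw [this]; exact Ideal.subset_span (by simp)
      · rw [he]
        have : β * NodeAlg.e π - NodeAlg.e π = (β - 1) * NodeAlg.e π := by ring
        rw [this]; exact Ideal.subset_span (by simp)
      · intro c
        have hle : Ideal.span ({algebraMap B (NodeAlg B π) (π ^ j)} : Set (NodeAlg B π)) ≤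
            Ideal.span {(α - 1) * NodeAlg.t π, (β - 1) * NodeAlg.e π,
              NodeAlg.t π ^ j * NodeAlg.e π ^ j} := by
          rw [Ideal.span_le, Set.singleton_subset_iff, hpow]
          exact Ideal.subset_span (by simp)
        exact hle (hσB c)
    · rw [Ideal.span_le]
      rintro z (rfl | rfl | rfl)
      · have : (α - 1) * NodeAlg.t π = σ (NodeAlg.t π) - NodeAlg.t π := by rw [ht]; ring
        rw [this]; exact sub_mem_fixIdeal _ _
      · have : (β - 1) * NodeAlg.e π = σ (NodeAlg.e π) - NodeAlg.e π := by rw [he]; ring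
        rw [this]; exact sub_mem_fixIdeal _ _
      · have h1 : σ (algebraMap B (NodeAlg B π) π) - algebraMap B (NodeAlg B π) π ∈
            ArLef.fixIdeal σ := sub_mem_fixIdeal _ _
        rw [hσπ, map_add, add_sub_cancel_left, map_mul] at h1
        rw [SetLike.mem_coe, ← hpow]
        exact (Ideal.unit_mul_mem_iff_mem _ (hγ.map (algebraMap B (NodeAlg B π)))).mp h1
  · obtain ⟨i, rfl⟩ : ∃ i, j = i + 1 := ⟨j - 1, by omega⟩
    simp only [Nat.add_sub_cancel]
    have h1 : σ (NodeAlg.t π * NodeAlg.e π) = algebraMap B (NodeAlg B π) π *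
        (1 + algebraMap B (NodeAlg B π) γ * (NodeAlg.t π ^ i * NodeAlg.e π ^ i)) := by
      rw [hte, hσπ, ← hpow, ← map_mul, ← map_one (algebraMap B (NodeAlg B π)), ← map_add, ← map_mul]
      congr 1
      ring
    rw [map_mul, ht, he] at h1
    have h2 : algebraMap B (NodeAlg B π) π * ((α - 1) + α * (β - 1) -
        algebraMap B (NodeAlg B π) γ * (NodeAlg.t π ^ i * NodeAlg.e π ^ i)) = 0 := by
      rw [← hte] at h1 ⊢
      linear_combination h1
    exact sub_eq_zero.mp (pi_mul_eq_zero π hπ0 _ h2)

end DVR2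

end Groth.Agent.Lib.Helper78.NodeAlgBasic
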