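import Groth.Agent.Lib.Helper78.NodeAlgPrime

/-!
# Fixed-point ideals of automorphisms of `ArLef.NodeAlg B π = B[[x,y]]/(xy - π)` (helper78)

* `exists_eq_algebraMap_add` : every `z` is `b + t z₁ + e z₂`;
* `isLocalRing`, noetherianity;
* `sub_mem_of_gens` : if `σ t - t`, `σ e - e`, `σ b - b` (`b ∈ B`) lie in an ideal `J` then so do all `σ z - z`
  (continuity of abstract automorphisms + Krull intersection);
* `fixIdeal_le_iff`.
-/

set_option autoImplicit false
universe u

namespace Groth.Agent.Lib.Helper78.NodeAlgBasic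

open MvPowerSeries ArLef

variable {B : Type u} [CommRing B]

/-- every two-variable power series is `f(0) + x f₁ + y f₂`. -/
theorem exists_eq_C_add (f : MvPowerSeries (Fin 2) B) :
    ∃ f₁ f₂ : MvPowerSeries (Fin 2) B, f = C (constantCoeff f) + X 0 * f₁ + X 1 * f₂ := by
  classical
  -- `g₂` : the part of `f - f(0)` of `x`-degree zero
  let g₂ : MvPowerSeries (Fin 2) B := fun m => if m 0 = 0 ∧ m ≠ 0 then coeff m f else 0
  have hg₂ : ∀ m, coeff m g₂ = if m 0 = 0 ∧ m ≠ 0 then coeff m f else 0 := fun m => rfl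
  have h2 : (X 1 : MvPowerSeries (Fin 2) B) ∣ g₂ := by
    rw [X_dvd_iff]
    intro m hm
    rw [hg₂]
    split_ifs with h
    · exfalso
      apply h.2
      ext k
      fin_cases k
      · exact h.1
      · exact hm
    · rfl
  have h1 : (X 0 : MvPowerSeries (Fin 2) B) ∣ f - C (constantCoeff f) - g₂ := by
    rw [X_dvd_iff]
    intro m hm
    rw [map_sub, map_sub, hg₂, coeff_C]
    by_cases h0 : m = 0
    · subst h0
      simp
    · rw [if_neg h0, if_pos ⟨hm, h0⟩]
      simp
  obtain ⟨f₁, hf₁⟩ := h1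
  obtain ⟨f₂, hf₂⟩ := h2
  refine ⟨f₁, f₂, ?_⟩
  rw [← hf₁, ← hf₂]
  ring

section
variable (π : B)

/-- every element of the node algebra is `b + t z₁ + e z₂`. -/
theorem exists_eq_algebraMap_add (z : NodeAlg B π) :
    ∃ (b : B) (z₁ z₂ : NodeAlg B π),
      z = algebraMap B (NodeAlg B π) b + NodeAlg.t π * z₁ + NodeAlg.e π * z₂ := by
  obtain ⟨f, rfl⟩ := Ideal.Quotient.mk_surjective z
  obtain ⟨f₁, f₂, hf⟩ := exists_eq_C_add f
  refine ⟨constantCoeff f, Ideal.Quotient.mk _ f₁, Ideal.Quotient.mk _ f₂, ?_⟩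
  conv_lhs => rw [hf]
  rw [map_add, map_add, map_mul, map_mul]
  rfl

theorem toResidue_surjective : Function.Surjective (toResidue π) := by
  intro y
  obtain ⟨b, rfl⟩ := Ideal.Quotient.mk_surjective y
  exact ⟨algebraMap B _ b, toResidue_algebraMap π b⟩

/-- the kernel of `N → B/π` is `(t, e)`. -/
theorem mem_span_t_e_of_toResidue_eq_zero (z : NodeAlg B π) (hz : toResidue π z = 0) :
    z ∈ Ideal.span ({NodeAlg.t π, NodeAlg.e π} : Set (NodeAlg B π)) := by
  obtain ⟨b, z₁, z₂, rfl⟩ := exists_eq_algebraMap_add π z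
  rw [map_add, map_add, map_mul, map_mul, toResidue_t, toResidue_e, zero_mul, zero_mul, add_zero,
    add_zero, toResidue_algebraMap, Ideal.Quotient.eq_zero_iff_mem, Ideal.mem_span_singleton] at hz
  obtain ⟨c, rfl⟩ := hz
  have ht : NodeAlg.t π ∈ Ideal.span ({NodeAlg.t π, NodeAlg.e π} : Set (NodeAlg B π)) :=
    Ideal.subset_span (by simp)
  have he : NodeAlg.e π ∈ Ideal.span ({NodeAlg.t π, NodeAlg.e π} : Set (NodeAlg B π)) :=
    Ideal.subset_span (by simp)
  refine Ideal.add_mem _ (Ideal.add_mem _ ?_ (Ideal.mul_mem_right _ _ ht)) (Ideal.mul_mem_right _ _ he)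
  rw [map_mul, ← t_mul_e, mul_assoc]
  exact Ideal.mul_mem_right _ _ ht

theorem toResidue_eq_zero_of_mem (z : NodeAlg B π)
    (hz : z ∈ Ideal.span ({NodeAlg.t π, NodeAlg.e π} : Set (NodeAlg B π))) : toResidue π z = 0 := by
  have : Ideal.span ({NodeAlg.t π, NodeAlg.e π} : Set (NodeAlg B π)) ≤ RingHom.ker (toResidue π) := by
    rw [Ideal.span_le]
    rintro x (rfl | rfl)
    · exact toResidue_t π
    · exact toResidue_e π
  exact this hz

theorem ker_toResidue :
    RingHom.ker (toResidue π) = Ideal.span ({NodeAlg.t π, NodeAlg.e π} : Set (NodeAlg B π)) :=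
  le_antisymm (fun z hz => mem_span_t_e_of_toResidue_eq_zero π z hz)
    (fun z hz => toResidue_eq_zero_of_mem π z hz)

end

section Local
variable [IsLocalRing B] (π : B)

theorem nontrivial_of_not_isUnit (hπ : ¬ IsUnit π) : Nontrivial (NodeAlg B π) := by
  haveI : Nontrivial (B ⧸ Ideal.span {π}) :=
    Ideal.Quotient.nontrivial_iff.mpr (by rwa [Ne, Ideal.span_singleton_eq_top])
  exact (toResidue π).domain_nontrivial

theorem isLocalRing (hπ : ¬ IsUnit π) : IsLocalRing (NodeAlg B π) := by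
  haveI := nontrivial_of_not_isUnit π hπ
  exact IsLocalRing.of_surjective' (Ideal.Quotient.mk _) Ideal.Quotient.mk_surjective

end Local


section Krull
variable {A : Type u} [CommRing A]

/-- Krull: in a noetherian local ring every ideal is closed (same as helper75's
`S19595.mem_of_forall_mem_sup_pow`). -/
theorem mem_of_forall_mem_sup_pow [IsNoetherianRing A] [IsLocalRing A] (J : Ideal A) (x : A)
    (h : ∀ N : ℕ, x ∈ J ⊔ IsLocalRing.maximalIdeal A ^ N) : x ∈ J := by
  have h0 := Ideal.iInf_pow_smul_eq_bot_of_isLocalRing (R := A) (M := A ⧸ J)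
    (IsLocalRing.maximalIdeal A) (Ideal.IsPrime.ne_top inferInstance)
  have h1 : (Submodule.Quotient.mk x : A ⧸ J) ∈
      (⨅ i : ℕ, IsLocalRing.maximalIdeal A ^ i • ⊤ : Submodule A (A ⧸ J)) := by
    rw [Submodule.mem_iInf]
    intro N
    obtain ⟨a, ha, b, hb, rfl⟩ := Submodule.mem_sup.mp (h N)
    have : (Submodule.Quotient.mk (a + b) : A ⧸ J) = b • (Submodule.Quotient.mk (1 : A) : A ⧸ J) := by
      rw [← Submodule.Quotient.mk_smul, Submodule.Quotient.eq]
      simpa using ha
    rw [this]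
    exact Submodule.smul_mem_smul hb Submodule.mem_top
  rw [h0, Submodule.mem_bot] at h1
  exact (Submodule.Quotient.mk_eq_zero _).mp h1

/-- a ring automorphism of a local ring preserves the powers of the maximal ideal. -/
theorem map_mem_maximalIdeal_pow [IsLocalRing A] (σ : A ≃+* A) (n : ℕ) {x : A}
    (hx : x ∈ IsLocalRing.maximalIdeal A ^ n) : σ x ∈ IsLocalRing.maximalIdeal A ^ n := by
  have hle : IsLocalRing.maximalIdeal A ≤ Ideal.comap (σ : A →+* A) (IsLocalRing.maximalIdeal A) := by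
    intro y hy
    rw [Ideal.mem_comap, IsLocalRing.mem_maximalIdeal, mem_nonunits_iff]
    rw [IsLocalRing.mem_maximalIdeal, mem_nonunits_iff] at hy
    intro hu
    apply hy
    have := hu.map σ.symm
    simpa using this
  have h2 : IsLocalRing.maximalIdeal A ^ n ≤
      Ideal.comap (σ : A →+* A) (IsLocalRing.maximalIdeal A ^ n) :=
    (Ideal.pow_right_mono hle n).trans (Ideal.le_comap_pow _ n)
  exact h2 hx

end Krull

section Fix
variable [IsNoetherianRing B] [IsLocalRing B] (π : B)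

theorem t_mem_maximalIdeal (hπ : ¬ IsUnit π) :
    haveI := isLocalRing π hπ
    NodeAlg.t π ∈ IsLocalRing.maximalIdeal (NodeAlg B π) := by
  haveI := isLocalRing π hπ
  rw [IsLocalRing.mem_maximalIdeal, mem_nonunits_iff]
  intro hu
  haveI : Nontrivial (B ⧸ Ideal.span {π}) :=
    Ideal.Quotient.nontrivial_iff.mpr (by rwa [Ne, Ideal.span_singleton_eq_top])
  have := hu.map (toResidue π)
  rw [toResidue_t] at this
  exact not_isUnit_zero this

theorem e_mem_maximalIdeal (hπ : ¬ IsUnit π) :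
    haveI := isLocalRing π hπ
    NodeAlg.e π ∈ IsLocalRing.maximalIdeal (NodeAlg B π) := by
  haveI := isLocalRing π hπ
  rw [IsLocalRing.mem_maximalIdeal, mem_nonunits_iff]
  intro hu
  haveI : Nontrivial (B ⧸ Ideal.span {π}) :=
    Ideal.Quotient.nontrivial_iff.mpr (by rwa [Ne, Ideal.span_singleton_eq_top])
  have := hu.map (toResidue π)
  rw [toResidue_e] at this
  exact not_isUnit_zero this

/-- **Generators of the fixed-point ideal**: if `σ t - t`, `σ e - e` and all `σ b - b` (`b ∈ B`)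
lie in an ideal `J`, so do all `σ z - z`. -/
theorem sub_mem_of_gens (hπ : ¬ IsUnit π) (σ : NodeAlg B π ≃+* NodeAlg B π) (J : Ideal (NodeAlg B π))
    (ht : σ (NodeAlg.t π) - NodeAlg.t π ∈ J) (he : σ (NodeAlg.e π) - NodeAlg.e π ∈ J)
    (hB : ∀ b : B, σ (algebraMap B (NodeAlg B π) b) - algebraMap B (NodeAlg B π) b ∈ J)
    (z : NodeAlg B π) : σ z - z ∈ J := by
  haveI := isLocalRing π hπ
  apply mem_of_forall_mem_sup_pow
  intro n
  induction n generalizing z with
  | zero => simp
  | succ n ih =>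
    obtain ⟨b, z₁, z₂, rfl⟩ := exists_eq_algebraMap_add π z
    have key : ∀ (w y : NodeAlg B π), w ∈ IsLocalRing.maximalIdeal (NodeAlg B π) → σ w - w ∈ J →
        σ (w * y) - w * y ∈ J ⊔ IsLocalRing.maximalIdeal (NodeAlg B π) ^ (n + 1) := by
      intro w y hw hwJ
      have e1 : σ (w * y) - w * y = (σ w - w) * σ y + w * (σ y - y) := by
        rw [map_mul]; ring
      rw [e1]
      obtain ⟨a, ha, c, hc, hac⟩ := Submodule.mem_sup.mp (ih y)
      rw [← hac, mul_add]
      have h1 : (σ w - w) * σ y + w * a ∈ J :=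
        J.add_mem (J.mul_mem_right _ hwJ) (J.mul_mem_left _ ha)
      have h2 : w * c ∈ IsLocalRing.maximalIdeal (NodeAlg B π) ^ (n + 1) := by
        rw [pow_succ']
        exact Ideal.mul_mem_mul hw hc
      rw [← add_assoc]
      exact Submodule.add_mem_sup h1 h2
    have e2 : σ (algebraMap B (NodeAlg B π) b + NodeAlg.t π * z₁ + NodeAlg.e π * z₂) -
        (algebraMap B (NodeAlg B π) b + NodeAlg.t π * z₁ + NodeAlg.e π * z₂) =
        (σ (algebraMap B (NodeAlg B π) b) - algebraMap B (NodeAlg B π) b) +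
        (σ (NodeAlg.t π * z₁) - NodeAlg.t π * z₁) + (σ (NodeAlg.e π * z₂) - NodeAlg.e π * z₂) := by
      rw [map_add, map_add]; ring
    rw [e2]
    refine Ideal.add_mem _ (Ideal.add_mem _ (Ideal.mem_sup_left (hB b)) ?_) ?_
    · exact key _ _ (t_mem_maximalIdeal π hπ) ht
    · exact key _ _ (e_mem_maximalIdeal π hπ) he

/-- the fixed-point ideal is contained in `J` as soon as the generators are. -/
theorem fixIdeal_le (hπ : ¬ IsUnit π) (σ : NodeAlg B π ≃+* NodeAlg B π) (J : Ideal (NodeAlg B π))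
    (ht : σ (NodeAlg.t π) - NodeAlg.t π ∈ J) (he : σ (NodeAlg.e π) - NodeAlg.e π ∈ J)
    (hB : ∀ b : B, σ (algebraMap B (NodeAlg B π) b) - algebraMap B (NodeAlg B π) b ∈ J) :
    ArLef.fixIdeal σ ≤ J := by
  rw [ArLef.fixIdeal, Ideal.span_le]
  rintro _ ⟨z, rfl⟩
  exact sub_mem_of_gens π hπ σ J ht he hB z

theorem sub_mem_fixIdeal {A : Type u} [Ring A] (σ : A → A) (r : A) : σ r - r ∈ ArLef.fixIdeal σ :=
  Ideal.subset_span ⟨r, rfl⟩

end Fix

end Groth.Agent.Lib.Helper78.NodeAlgBasic
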