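import Groth.Agent.Lib.Helper78.NodeAlgSwitch

/-!
# Lengths of quotients of `ArLef.NodeAlg B π` (helper78)

* `K P f n = (P^n, f)` and `length_K : length A/(P^n, f) = n * length A/(P, f)` when `P` is a
  nonzerodivisor which is regular modulo `f` (this is helper75's `S19595.length_K`, with `IsDomain`
  weakened to `P` being a nonzerodivisor);
* `(t, e)` is the maximal ideal of the node algebra and `N/(t,e)` has length one.
-/

set_option autoImplicit false
universe u

namespace Groth.Agent.Lib.Helper78.NodeAlgBasic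

open MvPowerSeries ArLef

section General
variable {A : Type u} [CommRing A] (P f : A)

/-- The ideal `(P^n, f)`. -/
def K (n : ℕ) : Ideal A := Ideal.span {P ^ n, f}

lemma K_zero : K P f 0 = ⊤ := by
  rw [K, pow_zero, Ideal.eq_top_iff_one]
  exact Ideal.subset_span (by simp)

lemma mulP_le (n : ℕ) : K P f n ≤ Submodule.comap (LinearMap.mulLeft A P) (K P f (n + 1)) := by
  rw [K, Ideal.span_le]
  intro x hx
  rcases hx with h | h
  · show P * x ∈ K P f (n + 1)
    rw [h, ← pow_succ']
    exact Ideal.subset_span (by simp)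
  · show P * x ∈ K P f (n + 1)
    rw [Set.mem_singleton_iff.mp h]
    exact Ideal.mul_mem_left _ _ (Ideal.subset_span (by simp))

/-- multiplication by `P`: `A/(P^n,f) → A/(P^{n+1},f)`. -/
noncomputable def mulP (n : ℕ) : (A ⧸ K P f n) →ₗ[A] (A ⧸ K P f (n + 1)) :=
  Submodule.mapQ (K P f n) (K P f (n + 1)) (LinearMap.mulLeft A P) (mulP_le P f n)

lemma mulP_mk (n : ℕ) (a : A) :
    mulP P f n (Submodule.Quotient.mk a) = Submodule.Quotient.mk (P * a) := by
  rw [mulP, Submodule.mapQ_apply]
  rfl

lemma K_succ_le (n : ℕ) : K P f (n + 1) ≤ K P f 1 := by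
  rw [K, Ideal.span_le]
  intro x hx
  rcases hx with h | h
  · rw [h, pow_succ']
    exact Ideal.mul_mem_right _ _ (Ideal.subset_span (by simp))
  · rw [Set.mem_singleton_iff.mp h]
    exact Ideal.subset_span (by simp)

noncomputable def proj (n : ℕ) : (A ⧸ K P f (n + 1)) →ₗ[A] (A ⧸ K P f 1) :=
  Submodule.mapQ (K P f (n + 1)) (K P f 1) LinearMap.id (by simpa using K_succ_le P f n)

lemma proj_mk (n : ℕ) (a : A) :
    proj P f n (Submodule.Quotient.mk a) = Submodule.Quotient.mk a := by
  rw [proj, Submodule.mapQ_apply]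
  rfl

lemma proj_surjective (n : ℕ) : Function.Surjective (proj P f n) := by
  intro y
  obtain ⟨a, rfl⟩ := Submodule.Quotient.mk_surjective _ y
  exact ⟨Submodule.Quotient.mk a, proj_mk P f n a⟩

variable (hP : ∀ z : A, P * z = 0 → z = 0) (hreg : ∀ v : A, P ∣ f * v → P ∣ v)

include hP hreg in
lemma mulP_injective (n : ℕ) : Function.Injective (mulP P f n) := by
  rw [← LinearMap.ker_eq_bot, LinearMap.ker_eq_bot']
  intro y hy
  obtain ⟨a, rfl⟩ := Submodule.Quotient.mk_surjective _ y
  have h1 : P * a ∈ K P f (n + 1) := by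
    rw [mulP_mk] at hy
    exact (Submodule.Quotient.mk_eq_zero _).mp hy
  rw [K, Ideal.mem_span_pair] at h1
  obtain ⟨u, v, huv⟩ := h1
  -- u * P^(n+1) + v * f = P * a
  have h2 : P ∣ f * v := by
    have : f * v = P * (a - u * P ^ n) := by
      rw [pow_succ'] at huv
      linear_combination huv
    exact ⟨_, this⟩
  obtain ⟨w, rfl⟩ := hreg v h2
  have h3 : a = u * P ^ n + w * f := by
    have : P * (a - (u * P ^ n + w * f)) = 0 := by
      rw [pow_succ'] at huv
      linear_combination -huv
    exact sub_eq_zero.mp (hP _ this)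
  rw [Submodule.Quotient.mk_eq_zero, K, Ideal.mem_span_pair]
  exact ⟨u, w, h3.symm⟩

lemma exact_mulP_proj (n : ℕ) : Function.Exact (mulP P f n) (proj P f n) := by
  intro y
  obtain ⟨a, rfl⟩ := Submodule.Quotient.mk_surjective _ y
  constructor
  · intro h
    have h1 : a ∈ K P f 1 := by
      rw [proj_mk] at h
      exact (Submodule.Quotient.mk_eq_zero _).mp h
    rw [K, Ideal.mem_span_pair, pow_one] at h1
    obtain ⟨u, v, rfl⟩ := h1
    refine ⟨Submodule.Quotient.mk u, ?_⟩
    rw [mulP_mk, Submodule.Quotient.eq]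
    have : P * u - (u * P + v * f) = -v * f := by ring
    rw [this]
    exact Ideal.mul_mem_left _ _ (Ideal.subset_span (by simp))
  · rintro ⟨x, hx⟩
    obtain ⟨u, rfl⟩ := Submodule.Quotient.mk_surjective _ x
    rw [← hx]
    rw [mulP_mk, proj_mk, Submodule.Quotient.mk_eq_zero]
    exact Ideal.mul_mem_right _ _ (Ideal.subset_span (by simp))

include hP hreg in
/-- `length A/(P^n, f) = n * length A/(P, f)`. -/
lemma length_K (n : ℕ) :
    Module.length A (A ⧸ K P f n) = (n : ℕ∞) * Module.length A (A ⧸ K P f 1) := by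
  induction n with
  | zero =>
    rw [K_zero]
    simp
  | succ n ih =>
    rw [Module.length_eq_add_of_exact (mulP P f n) (proj P f n) (mulP_injective P f hP hreg n)
      (proj_surjective P f n) (exact_mulP_proj P f n), ih]
    push_cast
    rw [add_mul, one_mul]

end General

section DVR
variable {B : Type u} [CommRing B] [IsDomain B] [IsDiscreteValuationRing B] (π : B)

theorem isMaximal_span_t_e (hπ : Irreducible π) :
    (Ideal.span ({NodeAlg.t π, NodeAlg.e π} : Set (NodeAlg B π))).IsMaximal := by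
  have hm : IsLocalRing.maximalIdeal B = Ideal.span {π} := hπ.maximalIdeal_eq
  haveI : (Ideal.span {π} : Ideal B).IsMaximal := hm ▸ IsLocalRing.maximalIdeal.isMaximal B
  letI : Field (B ⧸ Ideal.span {π}) := Ideal.Quotient.field _
  rw [← ker_toResidue]
  exact RingHom.ker_isMaximal_of_surjective (toResidue π) (toResidue_surjective π)

theorem maximalIdeal_eq_span_t_e (hπ : Irreducible π) :
    haveI := isLocalRing π hπ.not_isUnit
    IsLocalRing.maximalIdeal (NodeAlg B π) =
      Ideal.span ({NodeAlg.t π, NodeAlg.e π} : Set (NodeAlg B π)) := by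
  haveI := isLocalRing π hπ.not_isUnit
  exact (IsLocalRing.eq_maximalIdeal (isMaximal_span_t_e π hπ)).symm

theorem length_quot_span_t_e (hπ : Irreducible π) :
    Module.length (NodeAlg B π)
      (NodeAlg B π ⧸ Ideal.span ({NodeAlg.t π, NodeAlg.e π} : Set (NodeAlg B π))) = 1 := by
  haveI := isMaximal_span_t_e π hπ
  rw [Module.length_eq_one_iff]
  exact isSimpleModule_iff_isCoatom.mpr (Ideal.isMaximal_def.mp inferInstance)

end DVR

end Groth.Agent.Lib.Helper78.NodeAlgBasic
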