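import Groth.Agent.Lib.Helper78.NodeAlgBasic

set_option autoImplicit false
universe u

namespace Groth.Agent.Lib.Helper78.NodeAlgBasic

open MvPowerSeries ArLef

variable {B : Type u} [CommRing B]

/-- Restriction of a two-variable power series to the `s`-axis (the other variable is set to 0). -/
noncomputable def axis (s : Fin 2) : MvPowerSeries (Fin 2) B →+* PowerSeries B where
  toFun f := PowerSeries.mk fun j => coeff (Finsupp.single s j) f
  map_one' := by
    ext j
    rw [PowerSeries.coeff_mk, coeff_one, PowerSeries.coeff_one]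
    simp only [Finsupp.single_eq_zero]
  map_mul' f g := by
    classical
    ext j
    rw [PowerSeries.coeff_mk, MvPowerSeries.coeff_mul, Finsupp.antidiagonal_single, Finset.sum_map,
      PowerSeries.coeff_mul]
    simp [PowerSeries.coeff_mk]
  map_zero' := by ext; simp
  map_add' f g := by ext; simp

theorem coeff_axis (s : Fin 2) (f : MvPowerSeries (Fin 2) B) (j : ℕ) :
    PowerSeries.coeff j (axis s f) = coeff (Finsupp.single s j) f := by
  simp [axis]

theorem axis_X_self (s : Fin 2) : axis s (X s : MvPowerSeries (Fin 2) B) = PowerSeries.X := by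
  classical
  ext j
  rw [coeff_axis, PowerSeries.coeff_X, coeff_X]
  by_cases hj : j = 1
  · subst hj; simp
  · rw [if_neg hj, if_neg]
    intro h
    exact hj (by simpa using (Finsupp.single_injective s) h)

theorem axis_X_other {s s' : Fin 2} (h : s ≠ s') : axis s (X s' : MvPowerSeries (Fin 2) B) = 0 := by
  classical
  ext j
  rw [coeff_axis, coeff_X, map_zero, if_neg]
  intro h'
  have := DFunLike.congr_fun h' s'
  simp [h] at this

theorem axis_C (s : Fin 2) (b : B) : axis s (C b : MvPowerSeries (Fin 2) B) = PowerSeries.C b := by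
  classical
  ext j
  rw [coeff_axis, coeff_C, PowerSeries.coeff_C]
  simp only [Finsupp.single_eq_zero]


section
variable (π : B)

/-- the class of the variable `X s` in the node algebra (`v 0 = t`, `v 1 = e`). -/
noncomputable abbrev v (s : Fin 2) : NodeAlg B π := Ideal.Quotient.mk _ (X s)

theorem v_zero : v π 0 = NodeAlg.t π := rfl
theorem v_one : v π 1 = NodeAlg.e π := rfl

theorem v_mul_v {s s' : Fin 2} (h : s ≠ s') :
    v π s * v π s' = algebraMap B (NodeAlg B π) π := by
  have h01 : v π 0 * v π 1 = algebraMap B (NodeAlg B π) π := t_mul_e π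
  fin_cases s <;> fin_cases s' <;> first | exact absurd rfl h | exact h01 | (rw [mul_comm]; exact h01)

theorem fin2_eq_or {s s' : Fin 2} (h : s ≠ s') (k : Fin 2) : k = s ∨ k = s' := by
  fin_cases s <;> fin_cases s' <;> fin_cases k <;> simp_all

/-- the hom `N → (B/π)[[Y]]` restricting to the `s`-axis -/
noncomputable def toAxis (s : Fin 2) : NodeAlg B π →+* PowerSeries (B ⧸ Ideal.span {π}) :=
  Ideal.Quotient.lift _ ((PowerSeries.map (Ideal.Quotient.mk (Ideal.span {π}))).comp (axis s)) (by
    intro a ha
    rw [Ideal.mem_span_singleton] at ha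
    obtain ⟨c, rfl⟩ := ha
    have h0 : (PowerSeries.map (Ideal.Quotient.mk (Ideal.span {π})))
        (axis s (X 0 * X 1 - C π : MvPowerSeries (Fin 2) B)) = 0 := by
      have hC : (PowerSeries.map (Ideal.Quotient.mk (Ideal.span {π}))) (PowerSeries.C π) = 0 := by
        rw [PowerSeries.map_C, Ideal.Quotient.eq_zero_iff_mem.mpr (Ideal.mem_span_singleton_self π),
          map_zero]
      rw [map_sub, map_mul, axis_C, map_sub, hC, sub_zero]
      rcases fin2_eq_or (by decide : (0 : Fin 2) ≠ 1) s with rfl | rfl
      · rw [axis_X_other (s := 0) (s' := 1) (by decide), mul_zero, map_zero]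
      · rw [axis_X_other (s := 1) (s' := 0) (by decide), zero_mul, map_zero]
    rw [RingHom.comp_apply, map_mul, map_mul, h0, zero_mul])

theorem toAxis_mk (s : Fin 2) (f : MvPowerSeries (Fin 2) B) :
    toAxis π s (Ideal.Quotient.mk _ f) =
      PowerSeries.map (Ideal.Quotient.mk (Ideal.span {π})) (axis s f) := rfl

theorem toAxis_v_self (s : Fin 2) : toAxis π s (v π s) = PowerSeries.X := by
  rw [toAxis_mk, axis_X_self, PowerSeries.map_X]

theorem toAxis_v_other {s s' : Fin 2} (h : s ≠ s') : toAxis π s (v π s') = 0 := by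
  rw [toAxis_mk, axis_X_other h, map_zero]

/-- The kernel of `toAxis s` is generated by the other variable. -/
theorem dvd_of_toAxis_eq_zero {s s' : Fin 2} (h : s ≠ s') (z : NodeAlg B π)
    (hz : toAxis π s z = 0) : v π s' ∣ z := by
  classical
  obtain ⟨f, rfl⟩ := Ideal.Quotient.mk_surjective z
  rw [toAxis_mk] at hz
  have hdiv : ∀ j, π ∣ coeff (Finsupp.single s j) f := by
    intro j
    have := congrArg (PowerSeries.coeff j) hz
    rw [PowerSeries.coeff_map, coeff_axis, map_zero, Ideal.Quotient.eq_zero_iff_mem,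
      Ideal.mem_span_singleton] at this
    exact this
  -- split off the part divisible by `X s'`
  let f₁ : MvPowerSeries (Fin 2) B := fun n => coeff (n + Finsupp.single s' 1) f
  have hf₁ : ∀ n, coeff n f₁ = coeff (n + Finsupp.single s' 1) f := fun n => rfl
  have hXf₁ : ∀ m, coeff m (X s' * f₁) = if m s' = 0 then 0 else coeff m f := by
    intro m
    rw [X_def, coeff_monomial_mul, one_mul, hf₁]
    by_cases hm : m s' = 0
    · rw [if_pos hm, if_neg]
      intro hle
      have := hle s'
      simp [hm] at this
    · rw [if_neg hm, if_pos, tsub_add_cancel_of_le]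
      all_goals
        intro k
        by_cases hk : k = s'
        · subst hk; simp; omega
        · simp [Ne.symm hk]
  have hf₀ : ∀ m, π ∣ coeff m (f - X s' * f₁) := by
    intro m
    rw [map_sub, hXf₁]
    by_cases hm : m s' = 0
    · rw [if_pos hm, sub_zero]
      have : m = Finsupp.single s (m s) := by
        ext k
        rcases fin2_eq_or h k with rfl | rfl
        · simp
        · simp [hm, h]
      rw [this]
      exact hdiv _
    · rw [if_neg hm, sub_self]
      exact dvd_zero _
  choose c hc using hf₀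
  let g₀ : MvPowerSeries (Fin 2) B := fun m => c m
  have hg₀ : f - X s' * f₁ = C π * g₀ := by
    ext m
    rw [hc m, coeff_C_mul]
    rfl
  have hf : f = X s' * f₁ + C π * g₀ := by rw [← hg₀]; ring
  rw [hf, map_add, map_mul, map_mul]
  have : (Ideal.Quotient.mk _ (C π) : NodeAlg B π) = v π s' * v π s := by
    rw [v_mul_v π (Ne.symm h)]; rfl
  rw [this]
  exact dvd_add (dvd_mul_right _ _) (Dvd.intro _ (mul_assoc _ _ _).symm)

end


section Domain
variable [IsDomain B] (π : B)

theorem X_ne_zero' (s : Fin 2) : (X s : MvPowerSeries (Fin 2) B) ≠ 0 := by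
  classical
  intro h
  have := congrArg (coeff (Finsupp.single s 1)) h
  rw [coeff_X, if_pos rfl, map_zero] at this
  exact one_ne_zero this

/-- Each variable is a nonzerodivisor on the node algebra. -/
theorem v_mul_eq_zero (hπ : π ≠ 0) {s s' : Fin 2} (h : s ≠ s') (z : NodeAlg B π)
    (hz : v π s' * z = 0) : z = 0 := by
  classical
  obtain ⟨f, rfl⟩ := Ideal.Quotient.mk_surjective z
  rw [← map_mul, Ideal.Quotient.eq_zero_iff_mem, Ideal.mem_span_singleton] at hz
  obtain ⟨g, hg⟩ := hz
  have h01 : (X 0 * X 1 : MvPowerSeries (Fin 2) B) = X s' * X s := by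
    rcases fin2_eq_or h 0 with h0 | h0 <;> rcases fin2_eq_or h 1 with h1 | h1
    · exact absurd (h0.trans h1.symm) (by decide)
    · rw [← h0, ← h1, mul_comm]
    · rw [← h0, ← h1]
    · exact absurd (h0.trans h1.symm) (by decide)
  -- `g` is divisible by `X s'`
  have hgdiv : (X s' : MvPowerSeries (Fin 2) B) ∣ g := by
    rw [X_dvd_iff]
    intro m hm
    have h1 := congrArg (coeff m) hg
    have h2 : coeff m (X s' * f) = 0 := (X_dvd_iff.mp (dvd_mul_right _ _)) m hm
    have h3 : coeff m (X 0 * X 1 * g) = 0 := by
      rw [h01, mul_assoc]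
      exact (X_dvd_iff.mp (dvd_mul_right _ _)) m hm
    rw [h2, sub_mul, map_sub, h3, zero_sub, coeff_C_mul] at h1
    have : π * coeff m g = 0 := by rw [← neg_eq_zero]; exact h1.symm
    exact (mul_eq_zero.mp this).resolve_left hπ
  obtain ⟨g₁, rfl⟩ := hgdiv
  have : X s' * f = X s' * ((X 0 * X 1 - C π) * g₁) := by rw [hg]; ring
  have hf := mul_left_cancel₀ (X_ne_zero' s') this
  rw [hf, Ideal.Quotient.eq_zero_iff_mem, Ideal.mem_span_singleton]
  exact dvd_mul_right _ _

end Domain


section Prime
variable [IsDomain B] (π : B)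

theorem v_prime (hπ : Prime π) {s s' : Fin 2} (h : s ≠ s') : Prime (v π s') := by
  have hπ0 : π ≠ 0 := hπ.ne_zero
  haveI : (Ideal.span {π}).IsPrime := (Ideal.span_singleton_prime hπ0).mpr hπ
  refine ⟨?_, ?_, ?_⟩
  · intro h0
    have := congrArg (toAxis π s') h0
    rw [toAxis_v_self, map_zero] at this
    exact PowerSeries.X_ne_zero this
  · intro hu
    have := hu.map (toAxis π s)
    rw [toAxis_v_other π h] at this
    exact not_isUnit_zero this
  · intro a b hab
    have h0 : toAxis π s (a * b) = 0 := by
      obtain ⟨c, hc⟩ := hab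
      rw [hc, map_mul, toAxis_v_other π h, zero_mul]
    rw [map_mul] at h0
    rcases mul_eq_zero.mp h0 with ha | hb
    · exact Or.inl (dvd_of_toAxis_eq_zero π h a ha)
    · exact Or.inr (dvd_of_toAxis_eq_zero π h b hb)

end Prime

end Groth.Agent.Lib.Helper78.NodeAlgBasic
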