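import Groth.Agent.Lib.Helper78.NodeAlgFix

/-!
# The switching case for automorphisms of `ArLef.NodeAlg B π` (helper78)
-/

set_option autoImplicit false
universe u

namespace Groth.Agent.Lib.Helper78.NodeAlgBasic

open MvPowerSeries ArLef

variable {B : Type u} [CommRing B]

section
variable (π : B)

theorem v_not_dvd_v (hπ : ¬ IsUnit π) {s s' : Fin 2} (h : s ≠ s') : ¬ v π s ∣ v π s' := by
  haveI : Nontrivial (B ⧸ Ideal.span {π}) :=
    Ideal.Quotient.nontrivial_iff.mpr (by rwa [Ne, Ideal.span_singleton_eq_top])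
  rintro ⟨c, hc⟩
  have := congrArg (toAxis π s') hc
  rw [map_mul, toAxis_v_self, toAxis_v_other π (Ne.symm h), zero_mul] at this
  exact PowerSeries.X_ne_zero this

theorem t_not_dvd_e (hπ : ¬ IsUnit π) : ¬ NodeAlg.t π ∣ NodeAlg.e π :=
  v_not_dvd_v π hπ (s := 0) (s' := 1) (by decide)

theorem e_not_dvd_t (hπ : ¬ IsUnit π) : ¬ NodeAlg.e π ∣ NodeAlg.t π :=
  v_not_dvd_v π hπ (s := 1) (s' := 0) (by decide)

/-- elements of `(t,e)^2` restrict to multiples of `X^2` on each axis. -/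
theorem X_sq_dvd_toAxis_of_mem_sq (s : Fin 2) (z : NodeAlg B π)
    (hz : z ∈ (Ideal.span ({NodeAlg.t π, NodeAlg.e π} : Set (NodeAlg B π))) ^ 2) :
    (PowerSeries.X : PowerSeries (B ⧸ Ideal.span {π})) ^ 2 ∣ toAxis π s z := by
  have h1 : Ideal.span ({NodeAlg.t π, NodeAlg.e π} : Set (NodeAlg B π)) ≤
      Ideal.comap (toAxis π s) (Ideal.span {PowerSeries.X}) := by
    rw [Ideal.span_le]
    have h01 : (0 : Fin 2) ≠ 1 := by decide
    rintro x (rfl | rfl)
    · rw [SetLike.mem_coe, Ideal.mem_comap, Ideal.mem_span_singleton]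
      rcases fin2_eq_or h01 s with rfl | rfl
      · exact (toAxis_v_self π 0) ▸ dvd_rfl
      · rw [show NodeAlg.t π = v π 0 from rfl, toAxis_v_other π h01.symm]; exact dvd_zero _
    · rw [SetLike.mem_coe, Ideal.mem_comap, Ideal.mem_span_singleton]
      rcases fin2_eq_or h01 s with rfl | rfl
      · rw [show NodeAlg.e π = v π 1 from rfl, toAxis_v_other π h01]; exact dvd_zero _
      · exact (toAxis_v_self π 1) ▸ dvd_rfl
  have h2 := (Ideal.pow_right_mono h1 2).trans (Ideal.le_comap_pow _ 2)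
  have h3 := h2 hz
  rw [Ideal.mem_comap, Ideal.span_singleton_pow, Ideal.mem_span_singleton] at h3
  exact h3

/-- `α e - t ∉ (t,e)^2`. -/
theorem mul_e_sub_t_not_mem_sq (hπ : ¬ IsUnit π) (α : NodeAlg B π) :
    α * NodeAlg.e π - NodeAlg.t π ∉
      (Ideal.span ({NodeAlg.t π, NodeAlg.e π} : Set (NodeAlg B π))) ^ 2 := by
  haveI : Nontrivial (B ⧸ Ideal.span {π}) :=
    Ideal.Quotient.nontrivial_iff.mpr (by rwa [Ne, Ideal.span_singleton_eq_top])
  intro hmem
  have h := X_sq_dvd_toAxis_of_mem_sq π 0 _ hmem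
  have h01 : (0 : Fin 2) ≠ 1 := by decide
  rw [map_sub, map_mul, show NodeAlg.e π = v π 1 from rfl, toAxis_v_other π h01, mul_zero, zero_sub,
    show NodeAlg.t π = v π 0 from rfl, toAxis_v_self, dvd_neg, PowerSeries.X_pow_dvd_iff] at h
  have := h 1 (by norm_num)
  rw [PowerSeries.coeff_one_X] at this
  exact one_ne_zero this

end

section Domain
variable [IsDomain B] (π : B)

theorem t_not_dvd_mul_e_sub_t (hπ : Prime π) (α : NodeAlg B π) (hα : IsUnit α) :
    ¬ NodeAlg.t π ∣ α * NodeAlg.e π - NodeAlg.t π := by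
  have h10 : (1 : Fin 2) ≠ 0 := by decide
  have htp : Prime (NodeAlg.t π) := v_prime π hπ h10
  intro h
  have h1 : NodeAlg.t π ∣ α * NodeAlg.e π := by
    have := dvd_add h (dvd_refl (NodeAlg.t π))
    rwa [sub_add_cancel] at this
  rcases htp.dvd_or_dvd h1 with h2 | h2
  · exact htp.not_isUnit (isUnit_of_dvd_unit h2 hα)
  · exact t_not_dvd_e π hπ.not_isUnit h2

theorem e_not_dvd_mul_e_sub_t (hπ : Prime π) (α : NodeAlg B π) :
    ¬ NodeAlg.e π ∣ α * NodeAlg.e π - NodeAlg.t π := by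
  intro h
  have h1 : NodeAlg.e π ∣ NodeAlg.t π := by
    have := dvd_sub (dvd_mul_left (NodeAlg.e π) α) h
    rwa [sub_sub_cancel] at this
  exact e_not_dvd_t π hπ.not_isUnit h1

/-- `e` is regular modulo any `h` not divisible by `e`. -/
theorem mem_span_of_e_mul_mem (hπ : Prime π) (h : NodeAlg B π) (he : ¬ NodeAlg.e π ∣ h)
    (z : NodeAlg B π) (hz : NodeAlg.e π * z ∈ Ideal.span ({h} : Set (NodeAlg B π))) :
    z ∈ Ideal.span ({h} : Set (NodeAlg B π)) := by
  have h01 : (0 : Fin 2) ≠ 1 := by decide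
  have hep : Prime (NodeAlg.e π) := v_prime π hπ h01
  rw [Ideal.mem_span_singleton] at hz ⊢
  obtain ⟨c, hc⟩ := hz
  have h1 : NodeAlg.e π ∣ h * c := ⟨z, hc.symm⟩
  rcases hep.dvd_or_dvd h1 with h2 | ⟨c₁, rfl⟩
  · exact absurd h2 he
  · refine ⟨c₁, ?_⟩
    have : NodeAlg.e π * (z - h * c₁) = 0 := by rw [mul_sub, hc]; ring
    exact sub_eq_zero.mp (v_mul_eq_zero π hπ.ne_zero h01 _ this)

/-- `t` is regular modulo any `h` not divisible by `t`. -/
theorem mem_span_of_t_mul_mem (hπ : Prime π) (h : NodeAlg B π) (ht : ¬ NodeAlg.t π ∣ h)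
    (z : NodeAlg B π) (hz : NodeAlg.t π * z ∈ Ideal.span ({h} : Set (NodeAlg B π))) :
    z ∈ Ideal.span ({h} : Set (NodeAlg B π)) := by
  have h10 : (1 : Fin 2) ≠ 0 := by decide
  have htp : Prime (NodeAlg.t π) := v_prime π hπ h10
  rw [Ideal.mem_span_singleton] at hz ⊢
  obtain ⟨c, hc⟩ := hz
  have h1 : NodeAlg.t π ∣ h * c := ⟨z, hc.symm⟩
  rcases htp.dvd_or_dvd h1 with h2 | ⟨c₁, rfl⟩
  · exact absurd h2 ht
  · refine ⟨c₁, ?_⟩
    have : NodeAlg.t π * (z - h * c₁) = 0 := by rw [mul_sub, hc]; ring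
    exact sub_eq_zero.mp (v_mul_eq_zero π hπ.ne_zero h10 _ this)

/-- `π` is regular modulo any `h` divisible neither by `t` nor by `e`. -/
theorem mem_span_of_pi_mul_mem (hπ : Prime π) (h : NodeAlg B π) (ht : ¬ NodeAlg.t π ∣ h)
    (he : ¬ NodeAlg.e π ∣ h)
    (z : NodeAlg B π) (hz : algebraMap B (NodeAlg B π) π * z ∈ Ideal.span ({h} : Set (NodeAlg B π))) :
    z ∈ Ideal.span ({h} : Set (NodeAlg B π)) := by
  rw [← t_mul_e, mul_assoc] at hz
  exact mem_span_of_e_mul_mem π hπ h he z (mem_span_of_t_mul_mem π hπ h ht _ hz)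

end Domain

end Groth.Agent.Lib.Helper78.NodeAlgBasic
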