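import Mathlib
import Groth.Agent.S9690
import Groth.Agent.S2351
import Groth.Agent.Lib.Helper78.SmoothNormalField

/-!
# Comparing the normalization of an integral scheme with relative normalizations

If `h : Z ⟶ X` is a qcqs morphism from a normal scheme all of whose irreducible components dominate
the integral scheme `X`, and the generic point `Spec K(X) ⟶ X` factors through a dominant morphism
`Spec K(X) ⟶ Z`, then the relative normalization of `X` in `Z` is the normalization of `X`.
Everything is stated for Mathlib's `(X.fromSpecStalk (genericPoint X)).normalization`, which is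
what `Curv2.normalization X` unfolds to.
-/

set_option autoImplicit false
universe u
open CategoryTheory CategoryTheory.Limits AlgebraicGeometry

namespace Groth.Agent.Lib.Helper78.NormCompare

theorem isReduced_of_isNormalScheme {Z : Scheme.{u}} (hZ : Pi1.IsNormalScheme Z) : IsReduced Z := by
  have : ∀ x : Z, _root_.IsReduced (Z.presheaf.stalk x) := fun x => by
    have := (hZ x).1; infer_instance
  exact isReduced_of_isReduced_stalk Z

/-- `Spec` of a field is a normal scheme. -/
theorem isNormalScheme_Spec_field (K : Type u) [Field K] :
    Pi1.IsNormalScheme (Spec (CommRingCat.of K)) :=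
  fun s => Groth.Agent.Lib.Helper78.isIntegrallyClosed_stalk_Spec_field K s

variable (X : Scheme.{u}) [IsIntegral X] [QuasiCompact (X.fromSpecStalk (genericPoint X))]
  [QuasiSeparated (X.fromSpecStalk (genericPoint X))]

/-- The universal property of the normalization (S9690), in Mathlib's terms. -/
theorem lift_existsUnique {Z : Scheme.{u}} (g : Z ⟶ X) (hZ : Pi1.IsNormalScheme Z)
    (hdom : ∀ z : Z, closure {z} ∈ irreducibleComponents ↥Z → g.base z = genericPoint X) :
    ∃! h : Z ⟶ (X.fromSpecStalk (genericPoint X)).normalization,
      h ≫ (X.fromSpecStalk (genericPoint X)).fromNormalization = g :=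
  Groth.Agent.S9690.result X g hZ hdom

/-- Lifts of the generic point to the normalization are unique. -/
theorem generic_lift_unique
    (a b : Spec (X.presheaf.stalk (genericPoint X)) ⟶
      (X.fromSpecStalk (genericPoint X)).normalization)
    (ha : a ≫ (X.fromSpecStalk (genericPoint X)).fromNormalization =
      X.fromSpecStalk (genericPoint X))
    (hb : b ≫ (X.fromSpecStalk (genericPoint X)).fromNormalization =
      X.fromSpecStalk (genericPoint X)) : a = b := by
  have hN : Pi1.IsNormalScheme (Spec (X.presheaf.stalk (genericPoint X))) :=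
    isNormalScheme_Spec_field X.functionField
  have hdom : ∀ z : Spec (X.presheaf.stalk (genericPoint X)),
      closure {z} ∈ irreducibleComponents ↥(Spec (X.presheaf.stalk (genericPoint X))) →
        (X.fromSpecStalk (genericPoint X)).base z = genericPoint X := by
    intro z _
    have h1 : (X.fromSpecStalk (genericPoint X)).base z ∈
        Set.range (X.fromSpecStalk (genericPoint X)).base := ⟨z, rfl⟩
    rw [Scheme.range_fromSpecStalk] at h1
    exact (h1.antisymm (genericPoint_specializes _)).eq
  obtain ⟨c, -, hc⟩ := lift_existsUnique X (X.fromSpecStalk (genericPoint X)) hN hdom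
  rw [hc a ha, hc b hb]

/-- The comparison isomorphism. -/
theorem exists_iso_normalization {Z : Scheme.{u}} (h : Z ⟶ X) [QuasiCompact h] [QuasiSeparated h]
    (hZ : Pi1.IsNormalScheme Z)
    (hdom : ∀ z : Z, closure {z} ∈ irreducibleComponents ↥Z → h.base z = genericPoint X)
    (ψ : Spec (X.presheaf.stalk (genericPoint X)) ⟶ Z) [IsDominant ψ]
    (hψ : ψ ≫ h = X.fromSpecStalk (genericPoint X)) :
    ∃ a : (X.fromSpecStalk (genericPoint X)).normalization ≅ h.normalization,
      a.hom ≫ h.fromNormalization = (X.fromSpecStalk (genericPoint X)).fromNormalization := by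
  have : IsReduced Z := isReduced_of_isNormalScheme hZ
  obtain ⟨h₁, hh₁, -⟩ := lift_existsUnique X h hZ hdom
  have hh₁' : h = h₁ ≫ (X.fromSpecStalk (genericPoint X)).fromNormalization := hh₁.symm
  let β : h.normalization ⟶ (X.fromSpecStalk (genericPoint X)).normalization :=
    h.normalizationDesc h₁ (X.fromSpecStalk (genericPoint X)).fromNormalization hh₁'
  have hβ1 : h.toNormalization ≫ β = h₁ := h.toNormalization_normalizationDesc _ _ hh₁'
  have hβ2 : β ≫ (X.fromSpecStalk (genericPoint X)).fromNormalization = h.fromNormalization :=
    h.normalizationDesc_comp _ _ hh₁'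
  have hφ : X.fromSpecStalk (genericPoint X) =
      (ψ ≫ h.toNormalization) ≫ h.fromNormalization := by
    rw [Category.assoc, h.toNormalization_fromNormalization, hψ]
  let α : (X.fromSpecStalk (genericPoint X)).normalization ⟶ h.normalization :=
    (X.fromSpecStalk (genericPoint X)).normalizationDesc (ψ ≫ h.toNormalization)
      h.fromNormalization hφ
  have hα1 : (X.fromSpecStalk (genericPoint X)).toNormalization ≫ α = ψ ≫ h.toNormalization :=
    (X.fromSpecStalk (genericPoint X)).toNormalization_normalizationDesc _ _ hφ
  have hα2 : α ≫ h.fromNormalization = (X.fromSpecStalk (genericPoint X)).fromNormalization :=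
    (X.fromSpecStalk (genericPoint X)).normalizationDesc_comp _ _ hφ
  have hψh₁ : ψ ≫ h₁ = (X.fromSpecStalk (genericPoint X)).toNormalization := by
    apply generic_lift_unique X
    · rw [Category.assoc, hh₁, hψ]
    · exact (X.fromSpecStalk (genericPoint X)).toNormalization_fromNormalization
  have hαβ : α ≫ β = 𝟙 _ := by
    refine Scheme.Hom.normalization.hom_ext (X.fromSpecStalk (genericPoint X)) (α ≫ β) (𝟙 _)
      (X.fromSpecStalk (genericPoint X)).fromNormalization ?_ ?_ ?_
    · rw [Category.comp_id, reassoc_of% hα1, hβ1, hψh₁]
    · rw [Category.assoc, hβ2, hα2]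
    · exact Category.id_comp _
  have hβα : β ≫ α = 𝟙 _ := by
    refine Scheme.Hom.normalization.hom_ext h (β ≫ α) (𝟙 _) h.fromNormalization ?_ ?_ ?_
    · rw [Category.comp_id, reassoc_of% hβ1]
      refine ext_of_isDominant_of_isSeparated h.fromNormalization ?_ ψ ?_
      · rw [Category.assoc, hα2, h.toNormalization_fromNormalization]; exact hh₁
      · rw [reassoc_of% hψh₁, hα1]
    · rw [Category.assoc, hα2, hβ2]
    · exact Category.id_comp _
  exact ⟨⟨α, β, hαβ, hβα⟩, hα2⟩

end Groth.Agent.Lib.Helper78.NormCompare
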