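import Mathlib

set_option autoImplicit false
set_option linter.style.haveILetI false
universe u v

open TensorProduct

namespace Groth.Agent.Lib.Helper78.PicNilpotent

variable {R : Type u} {A : Type u} [CommRing R] [CommRing A] [Algebra R A]

/-- Lemma K: the kernel of `Q → A ⊗ Q` is `I Q` for `A = R / I`. -/
theorem mem_smul_top_of_tmul_eq_zero (hsurj : Function.Surjective (algebraMap R A))
    {Q : Type v} [AddCommGroup Q] [Module R Q] (x : Q)
    (hx : (1 : A) ⊗ₜ[R] x = 0) :
    x ∈ (RingHom.ker (algebraMap R A)) • (⊤ : Submodule R Q) := by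
  have hsurj' : Function.Surjective (Algebra.ofId R A) := hsurj
  let e := Ideal.quotientKerAlgEquivOfSurjective hsurj'
  have h1 : (e.toLinearEquiv.rTensor Q) ((1 : R ⧸ RingHom.ker (Algebra.ofId R A)) ⊗ₜ[R] x) =
      (1 : A) ⊗ₜ[R] x := by
    rw [LinearEquiv.rTensor_tmul]
    congr 1
    exact map_one e
  rw [hx] at h1
  have h2 : ((1 : R ⧸ RingHom.ker (Algebra.ofId R A)) ⊗ₜ[R] x) = 0 := by
    apply (e.toLinearEquiv.rTensor Q).injective
    rw [h1, map_zero]
  have h3 := congrArg (TensorProduct.quotTensorEquivQuotSMul Q (RingHom.ker (Algebra.ofId R A))) h2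
  rw [TensorProduct.quotTensorEquivQuotSMul_mk_one_tmul, map_zero,
    Submodule.Quotient.mk_eq_zero] at h3
  exact h3

theorem ker_le_jacobson (hnil : IsNilpotent (RingHom.ker (algebraMap R A))) :
    RingHom.ker (algebraMap R A) ≤ Ideal.jacobson ⊥ := by
  obtain ⟨n, hn⟩ := hnil
  intro x hx
  have hx' : IsNilpotent x := ⟨n, by
    have : x ^ n ∈ (RingHom.ker (algebraMap R A)) ^ n := Ideal.pow_mem_pow hx n
    rw [hn] at this
    exact this⟩
  have : x ∈ nilradical R := (mem_nilradical).mpr hx'
  rw [Ideal.jacobson_bot]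
  exact (nilradical_le_jacobson R) this

theorem isNilpotent_of_mem_ker (hnil : IsNilpotent (RingHom.ker (algebraMap R A))) {x : R}
    (hx : algebraMap R A x = 0) : IsNilpotent x := by
  obtain ⟨n, hn⟩ := hnil
  refine ⟨n, ?_⟩
  have : x ^ n ∈ (RingHom.ker (algebraMap R A)) ^ n := Ideal.pow_mem_pow hx n
  rw [hn] at this
  exact this


/-- Lemma Z: a finite projective `R`-module whose base change to `A = R/I` (`I` nilpotent) is free
of rank one is free of rank one. -/
theorem nonempty_linearEquiv_of_baseChange (hsurj : Function.Surjective (algebraMap R A))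
    (hnil : IsNilpotent (RingHom.ker (algebraMap R A)))
    {Q : Type v} [AddCommGroup Q] [Module R Q] [Module.Finite R Q] [Module.Projective R Q]
    (φ : A ⊗[R] Q ≃ₗ[A] A) : Nonempty (Q ≃ₗ[R] R) := by
  obtain ⟨q, hq⟩ := TensorProduct.mk_surjective R Q A hsurj (φ.symm 1)
  have hq' : φ ((1 : A) ⊗ₜ[R] q) = 1 := by
    change (TensorProduct.mk R A Q 1) q = _ at hq
    rw [TensorProduct.mk_apply] at hq
    rw [hq, LinearEquiv.apply_symm_apply]
  let g : R →ₗ[R] Q := LinearMap.toSpanSingleton R Q q
  have hg : ∀ r, g r = r • q := fun r => rfl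
  -- surjectivity by Nakayama
  have hgsurj : Function.Surjective g := by
    rw [← LinearMap.range_eq_top, eq_top_iff]
    apply Submodule.le_of_le_smul_of_le_jacobson_bot Module.Finite.fg_top (ker_le_jacobson hnil)
    intro x _
    obtain ⟨a, ha⟩ := hsurj (φ ((1 : A) ⊗ₜ[R] x))
    have h0 : (1 : A) ⊗ₜ[R] (x - a • q) = 0 := by
      apply φ.injective
      rw [map_zero, TensorProduct.tmul_sub, map_sub, TensorProduct.tmul_smul,
        ← algebraMap_smul A a ((1 : A) ⊗ₜ[R] q), map_smul, hq', smul_eq_mul, mul_one, ha, sub_self]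
    have h1 := mem_smul_top_of_tmul_eq_zero hsurj _ h0
    have : x = g a + (x - a • q) := by rw [hg]; abel
    rw [this]
    exact Submodule.add_mem_sup (LinearMap.mem_range_self g a) h1
  -- a section
  obtain ⟨s, hs⟩ := Module.projective_lifting_property g LinearMap.id hgsurj
  have hs' : ∀ y, g (s y) = y := fun y => LinearMap.congr_fun hs y
  -- `d = s q` is an idempotent with `1 - d` nilpotent
  set d : R := s q with hd
  have hsg : ∀ r, s (g r) = r * d := by
    intro r
    rw [hg, map_smul, smul_eq_mul]
  have hdd : d * d = d := by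
    have := hsg d
    rw [hg] at this
    -- s (d • q) = d * d, and d • q = g d = g (s q) = q
    have h2 : d • q = q := by
      have := hs' q
      rwa [hg] at this
    rw [h2] at this
    exact this.symm
  have hc : algebraMap R A (1 - d) = 0 := by
    have h2 : (1 - d) • q = 0 := by
      have := hs' q
      rw [hg] at this
      rw [sub_smul, one_smul, this, sub_self]
    have h3 : algebraMap R A (1 - d) = φ ((1 : A) ⊗ₜ[R] ((1 - d) • q)) := by
      rw [TensorProduct.tmul_smul, ← algebraMap_smul A (1 - d) ((1 : A) ⊗ₜ[R] q), map_smul, hq',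
        smul_eq_mul, mul_one]
    rw [h3, h2, TensorProduct.tmul_zero, map_zero]
  have hcnil : IsNilpotent (1 - d) := isNilpotent_of_mem_ker hnil hc
  have hcidem : IsIdempotentElem (1 - d) := (IsIdempotentElem.one_sub_iff).mpr hdd
  have hc0 : 1 - d = 0 := by
    obtain ⟨n, hn⟩ := hcnil
    cases n with
    | zero =>
      rw [pow_zero] at hn
      have : (1 - d) = (1 - d) * 1 := (mul_one _).symm
      rw [this, hn, mul_zero]
    | succ n => rw [← hcidem.pow_succ_eq n, hn]
  have hd1 : d = 1 := (sub_eq_zero.mp hc0).symm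
  have hginj : Function.Injective g := by
    rw [← LinearMap.ker_eq_bot, Submodule.eq_bot_iff]
    intro r hr
    rw [LinearMap.mem_ker] at hr
    have := hsg r
    rw [hr, map_zero, hd1, mul_one] at this
    exact this.symm
  exact ⟨(LinearEquiv.ofBijective g ⟨hginj, hgsurj⟩).symm⟩


/-- A matrix with entries in a nilpotent ideal is nilpotent. -/
theorem isNilpotent_matrix_of_mem_ker (hnil : IsNilpotent (RingHom.ker (algebraMap R A))) {n : ℕ}
    (M : Matrix (Fin n) (Fin n) R) (hM : (algebraMap R A).mapMatrix M = 0) : IsNilpotent M := by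
  obtain ⟨N, hN⟩ := hnil
  set I := RingHom.ker (algebraMap R A) with hI
  have hM' : ∀ i j, M i j ∈ I := by
    intro i j
    have := congrFun (congrFun hM i) j
    exact RingHom.mem_ker.mpr (by simpa [RingHom.mapMatrix_apply, Matrix.map_apply] using this)
  have key : ∀ k : ℕ, ∀ i j, (M ^ (k + 1)) i j ∈ I ^ (k + 1) := by
    intro k
    induction k with
    | zero => intro i j; simpa using hM' i j
    | succ k ih =>
      intro i j
      rw [pow_succ M (k + 1), Matrix.mul_apply, pow_succ I (k + 1)]
      exact Ideal.sum_mem _ fun l _ => Ideal.mul_mem_mul (ih i l) (hM' l j)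
  refine ⟨N + 1, ?_⟩
  ext i j
  have h1 := key N i j
  have h2 : I ^ (N + 1) ≤ I ^ N := Ideal.pow_le_pow_right (Nat.le_succ N)
  have h3 := h2 h1
  rw [hN] at h3
  exact h3

/-- Lemma S: finite projective modules lift along a surjection with nilpotent kernel. -/
theorem exists_lift_projective (hsurj : Function.Surjective (algebraMap R A))
    (hnil : IsNilpotent (RingHom.ker (algebraMap R A)))
    (P : Type u) [AddCommGroup P] [Module A P] [Module.Finite A P] [Module.Projective A P] :
    ∃ (P' : Type u) (_ : AddCommGroup P') (_ : Module R P') (_ : Module.Finite R P')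
      (_ : Module.Projective R P'), Nonempty (A ⊗[R] P' ≃ₗ[A] P) := by
  classical
  letI : Module R P := Module.compHom P (algebraMap R A)
  haveI : IsScalarTower R A P := ⟨fun r a x => by
    change (r • a) • x = (algebraMap R A r) • (a • x)
    rw [Algebra.smul_def, mul_smul]⟩
  obtain ⟨n, p, i, -, -, hpi⟩ := Module.Finite.exists_comp_eq_id_of_projective A P
  have hpi' : ∀ y, p (i y) = y := fun y => LinearMap.congr_fun hpi y
  -- the idempotent matrix
  let E : Matrix (Fin n) (Fin n) A := LinearMap.toMatrix' (i ∘ₗ p)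
  have hE : IsIdempotentElem E := by
    change E * E = E
    rw [← LinearMap.toMatrix'_mul]
    congr 1
    exact LinearMap.ext fun v => by
      change i (p (i (p v))) = i (p v)
      rw [hpi']
  have hEv : ∀ v, E.mulVec v = i (p v) := fun v => LinearMap.toMatrix'_mulVec _ v
  -- lift it
  have hrange : E ∈ ((algebraMap R A).mapMatrix (m := Fin n)).range := by
    choose M₀ hM₀ using fun a b => hsurj (E a b)
    refine ⟨Matrix.of M₀, ?_⟩
    ext a b
    simp [RingHom.mapMatrix_apply, Matrix.map_apply, hM₀]
  obtain ⟨E', hE', hE'E⟩ := exists_isIdempotentElem_eq_of_ker_isNilpotent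
    ((algebraMap R A).mapMatrix (m := Fin n))
    (fun M hM => isNilpotent_matrix_of_mem_ker hnil M hM) E hrange hE
  let T' : (Fin n → R) →ₗ[R] (Fin n → R) := Matrix.toLin' E'
  have hT'T' : ∀ v, T' (T' v) = T' v := by
    intro v
    change Matrix.toLin' E' (Matrix.toLin' E' v) = Matrix.toLin' E' v
    rw [← LinearMap.comp_apply, ← Matrix.toLin'_mul, hE'.eq]
  -- compatibility of `E'` and `E`
  let mapFun : (Fin n → R) →ₗ[R] (Fin n → A) := (Algebra.linearMap R A).compLeft (Fin n)
  have hmapFun : ∀ v a, mapFun v a = algebraMap R A (v a) := fun v a => rfl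
  have hcompat : ∀ v, mapFun (T' v) = E.mulVec (mapFun v) := by
    intro v
    funext a
    rw [hmapFun, Matrix.toLin'_apply, RingHom.map_mulVec, ← hE'E]
    rfl
  -- the lifted module
  let P' : Submodule R (Fin n → R) := LinearMap.range T'
  have hP'fix : ∀ x : P', T' (x : Fin n → R) = x := by
    rintro ⟨_, v, rfl⟩
    exact hT'T' v
  let proj : (Fin n → R) →ₗ[R] P' := T'.rangeRestrict
  haveI : Module.Projective R P' :=
    Module.Projective.of_split P'.subtype proj
      (LinearMap.ext fun x => Subtype.ext (hP'fix x))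
  -- the comparison map
  let ρ : P' →ₗ[R] P := (p.restrictScalars R) ∘ₗ mapFun ∘ₗ P'.subtype
  have hρ : ∀ x : P', ρ x = p (mapFun (x : Fin n → R)) := fun x => rfl
  let α : A ⊗[R] P' →ₗ[A] P := ρ.liftBaseChange A
  have hα : ∀ x : P', α ((1 : A) ⊗ₜ[R] x) = p (mapFun (x : Fin n → R)) := by
    intro x
    rw [LinearMap.liftBaseChange_tmul, one_smul, hρ]
  have hαsurj : Function.Surjective α := by
    intro y
    choose x hx using fun a => hsurj (i y a)
    refine ⟨(1 : A) ⊗ₜ[R] (proj x), ?_⟩
    rw [hα]
    have : ((proj x : P') : Fin n → R) = T' x := rfl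
    rw [this, hcompat, hEv]
    have : mapFun x = i y := funext fun a => hx a
    rw [this, hpi', hpi']
  have hαinj : Function.Injective α := by
    rw [← LinearMap.ker_eq_bot, Submodule.eq_bot_iff]
    intro z hz
    obtain ⟨x, rfl⟩ := TensorProduct.mk_surjective R P' A hsurj z
    rw [LinearMap.mem_ker, TensorProduct.mk_apply, hα] at hz
    -- all coordinates of `x` are in the kernel
    have h1 : mapFun (x : Fin n → R) = 0 := by
      have := hcompat (x : Fin n → R)
      rw [hP'fix x, hEv, hz, map_zero] at this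
      exact this
    have h2 : ∀ a, algebraMap R A ((x : Fin n → R) a) = 0 := fun a => congrFun h1 a
    -- decompose `x`
    let w : Fin n → P' := fun a => proj (fun b => if a = b then 1 else 0)
    have h3 : x = ∑ a, ((x : Fin n → R) a) • w a := by
      apply Subtype.ext
      rw [Submodule.coe_sum]
      simp only [Submodule.coe_smul]
      conv_lhs => rw [← hP'fix x, LinearMap.pi_apply_eq_sum_univ T' (x : Fin n → R)]
      rfl
    rw [TensorProduct.mk_apply, h3, TensorProduct.tmul_sum]
    apply Finset.sum_eq_zero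
    intro a _
    rw [TensorProduct.tmul_smul, TensorProduct.smul_tmul', Algebra.smul_def, mul_one, h2 a,
      TensorProduct.zero_tmul]
  exact ⟨P', inferInstance, inferInstance, inferInstance, inferInstance,
    ⟨LinearEquiv.ofBijective α ⟨hαinj, hαsurj⟩⟩⟩

end Groth.Agent.Lib.Helper78.PicNilpotent
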