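import Mathlib
import Groth.Agent.Lib.Helper78.Birational
import Groth.Agent.Lib.Helper23.BirationalNormal

/-!
# Proper birational morphisms onto normal schemes (helper78)

`exists_isIso_morphismRestrict_of_valuationRing`: a proper birational morphism of integral schemes
onto a normal scheme is an isomorphism over a neighbourhood of every point whose local ring is a
valuation ring.
-/

set_option autoImplicit false
universe u
open CategoryTheory CategoryTheory.Limits AlgebraicGeometry

namespace Groth.Agent.Lib.Helper78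

theorem bijective_stalkSpecializes_of_eq {X : Scheme.{u}} {x y : X} (h : x = y) :
    Function.Bijective (X.presheaf.stalkSpecializes (specializes_of_eq h)).hom := by
  subst h
  have : X.presheaf.stalkSpecializes (specializes_of_eq (rfl : x = x)) = 𝟙 _ :=
    TopCat.Presheaf.stalkSpecializes_refl _ _
  rw [this]
  exact Function.bijective_id

/-- Variant of `stalkMap_bijective_of_valuationRing` with the birationality hypothesis stated as
bijectivity of the stalk map at the generic point. -/
theorem stalkMap_bijective_of_valuationRing' {X Y : Scheme.{u}} [IsIntegral X] [IsIntegral Y]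
    (f : X ⟶ Y) (e : f (genericPoint X) = genericPoint Y)
    (hbir : Function.Bijective (f.stalkMap (genericPoint X)).hom)
    (x : X) [ValuationRing (Y.presheaf.stalk (f x))] :
    Function.Bijective (f.stalkMap x).hom := by
  refine stalkMap_bijective_of_valuationRing f e ?_ x
  rw [CommRingCat.hom_comp]
  exact hbir.comp (bijective_stalkSpecializes_of_eq e)

/-- If `f ∣_ V` is an isomorphism, the stalk maps of `f` at the points of `f ⁻¹ V` are
isomorphisms. -/
theorem isIso_stalkMap_of_isIso_morphismRestrict {X Y : Scheme.{u}} (f : X ⟶ Y) (V : Y.Opens)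
    [IsIso (f ∣_ V)] (x : X) (hx : x ∈ f ⁻¹ᵁ V) : IsIso (f.stalkMap x) := by
  have h1 : IsOpenImmersion ((f ⁻¹ᵁ V).ι ≫ f) := by
    rw [← morphismRestrict_ι]; infer_instance
  obtain ⟨x', rfl⟩ : ∃ x' : (f ⁻¹ᵁ V).toScheme, (f ⁻¹ᵁ V).ι x' = x := ⟨⟨x, hx⟩, rfl⟩
  have h2 : IsIso (((f ⁻¹ᵁ V).ι ≫ f).stalkMap x') := inferInstance
  rw [Scheme.Hom.stalkMap_comp] at h2
  exact @IsIso.of_isIso_comp_right _ _ _ _ _ (f.stalkMap ((f ⁻¹ᵁ V).ι x'))
    ((f ⁻¹ᵁ V).ι.stalkMap x') inferInstance h2

/-- A morphism of irreducible schemes mapping generic point to generic point is dominant. -/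
theorem isDominant_of_genericPoint {X Y : Scheme.{u}} [IrreducibleSpace X] [IrreducibleSpace Y]
    (f : X ⟶ Y) (e : f (genericPoint X) = genericPoint Y) : IsDominant f := by
  refine ⟨fun y ↦ ?_⟩
  have h1 : y ∈ closure {genericPoint Y} := by
    rw [(genericPoint_spec Y).def]; trivial
  exact closure_mono (by rintro _ rfl; exact ⟨_, e⟩) h1

/-- A proper birational morphism of integral schemes onto a normal scheme is an isomorphism over
a neighbourhood of every point whose local ring is a valuation ring. -/
theorem exists_isIso_morphismRestrict_of_valuationRing {X Y : Scheme.{u}} [IsIntegral X]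
    [IsIntegral Y] [IsLocallyNoetherian X]
    (hN : ∀ y : Y, IsIntegrallyClosed (Y.presheaf.stalk y)) (f : X ⟶ Y) [IsProper f]
    (e : f (genericPoint X) = genericPoint Y)
    (hbir : IsIso (f.stalkMap (genericPoint X)))
    (y : Y) [ValuationRing (Y.presheaf.stalk y)] : ∃ V : Y.Opens, y ∈ V ∧ IsIso (f ∣_ V) := by
  have hbir' : Function.Bijective (f.stalkMap (genericPoint X)).hom :=
    (ConcreteCategory.isIso_iff_bijective _).mp hbir
  have : IsDominant f := isDominant_of_genericPoint f e
  have : Surjective f := inferInstance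
  let W := f.quasiFiniteLocus
  have hW : ∀ x, f x = y → x ∈ W := by
    intro x hx
    subst hx
    change (f.stalkMap x).hom.QuasiFinite
    exact RingHom.QuasiFinite.of_finite (RingHom.Finite.of_surjective _
      (stalkMap_bijective_of_valuationRing' f e hbir' x).2)
  have hηW : genericPoint X ∈ W := by
    change (f.stalkMap _).hom.QuasiFinite
    exact .of_finite (.of_surjective _ hbir'.2)
  have : Nonempty W := ⟨⟨_, hηW⟩⟩
  have hg : IsOpenImmersion (W.ι ≫ f) := by
    have hW1 : W.ι (genericPoint W.toScheme) = genericPoint X :=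
      genericPoint_eq_of_isOpenImmersion W.ι
    have hgen : (W.ι ≫ f) (genericPoint W.toScheme) = genericPoint Y := by
      rw [Scheme.Hom.comp_apply, hW1, e]
    refine Groth.Agent.Lib.Helper23.isOpenImmersion_of_birational_quasiFinite_of_normal hN
      (W.ι ≫ f) hgen ?_
    rw [Scheme.Hom.stalkMap_comp]
    have key : ∀ (z : X), z = genericPoint X → IsIso (f.stalkMap z) := by
      rintro z rfl; exact hbir
    have := key _ hW1
    exact IsIso.comp_isIso' this inferInstance
  have hcl : IsClosed (f '' (W : Set X)ᶜ) := f.isClosedMap _ W.isOpen.isClosed_compl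
  let V : Y.Opens := ⟨(f '' (W : Set X)ᶜ)ᶜ, hcl.isOpen_compl⟩
  have hyV : y ∈ V := by
    rintro ⟨x, hx, rfl⟩
    exact hx (hW x rfl)
  have hVW : f ⁻¹ᵁ V ≤ W := by
    intro x hx
    by_contra hxW
    exact hx ⟨x, hxW, rfl⟩
  refine ⟨V, hyV, ?_⟩
  rw [isIso_iff_isOpenImmersion_and_surjective]
  constructor
  · have h1 : IsOpenImmersion ((f ∣_ V) ≫ V.ι) := by
      rw [morphismRestrict_ι]
      have : (f ⁻¹ᵁ V).ι = X.homOfLE hVW ≫ W.ι := (X.homOfLE_ι hVW).symm
      rw [this, Category.assoc]
      infer_instance
    exact IsOpenImmersion.of_comp (f ∣_ V) V.ι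
  · exact IsZariskiLocalAtTarget.restrict (P := @Surjective) ‹_› V

end Groth.Agent.Lib.Helper78
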