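/-
helper78: geometric core of S10606.  A quasi-compact algebraic space `Q` with a monomorphism to an
affine scheme `Z`, such that the structure sheaf of every `T ⟶ Z` injects into the direct image of
the structure sheaf of `Q ×_Z T`, has an affine etale chart which is flat and surjective over `Z`.
-/
import Groth.Agent.Lib.Helper78.PureMonoAlg
import Groth.Agent.H53.SpBasic
import Groth.Agent.H52.LocPCalc2
import Groth.Agent.H52.QC

set_option autoImplicit false
universe u
open CategoryTheory CategoryTheory.Limits AlgebraicGeometry TensorProduct Opposite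
open AlgSp

namespace Groth.Agent.Lib.Helper78.PureMono

/-- Pullback squares stay pullback squares after composing the cospan with a monomorphism. -/
theorem isPullback_comp_mono {C : Type*} [Category C] {P X Y W Z : C} {fst : P ⟶ X} {snd : P ⟶ Y}
    {f : X ⟶ W} {g : Y ⟶ W} (sq : IsPullback fst snd f g) (i : W ⟶ Z) [Mono i] :
    IsPullback fst snd (f ≫ i) (g ≫ i) :=
  IsPullback.of_isLimit (PullbackCone.isLimitOfCompMono f g i _ sq.isLimit)

theorem isoSpec_inv_appTop (X : Scheme.{u}) [IsAffine X] :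
    X.isoSpec.inv.appTop = (Scheme.ΓSpecIso Γ(X, ⊤)).inv := by
  have h : X.isoSpec.inv.appTop ≫ X.isoSpec.hom.appTop = 𝟙 _ := by
    rw [← Scheme.Hom.comp_appTop, Iso.hom_inv_id]; rfl
  rw [Scheme.isoSpec_hom, Scheme.toSpecΓ_appTop] at h
  exact (Iso.comp_hom_eq_id _).1 h

variable {S : Scheme.{u}}

theorem flat_surjective_chart_of_mono {Q : Sp S} {Z : Over S} [IsAffine Z.left]
    (m : Q ⟶ (yon S).obj Z) [Mono m] (hqc : IsQuasiCompactSp Q)
    (hinj : ∀ (T : Over S) (t : T ⟶ Z) (P : Sp S) (fst : P ⟶ Q) (snd : P ⟶ (yon S).obj T),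
      IsPullback fst snd m ((yon S).map t) →
      ∀ s : Γ(T.left, ⊤), (∀ (W : Over S) (a : (yon S).obj W ⟶ P) (c : W ⟶ T),
        a ≫ snd = (yon S).map c → c.left.appTop s = 0) → s = 0) :
    ∃ (U₂ : Over S) (a₂ : (yon S).obj U₂ ⟶ Q) (h₂ : U₂ ⟶ Z), RepWith @Etale a₂ ∧
      RepWith @Surjective a₂ ∧ a₂ ≫ m = (yon S).map h₂ ∧ Flat h₂.left ∧ Surjective h₂.left := by
  obtain ⟨U₁, a₁, ha₁e, ha₁s, hU₁⟩ := hqc
  haveI : CompactSpace ↥U₁.left := hU₁
  obtain ⟨U', π, hU'aff, hπe, hπs⟩ := Groth.Agent.H53.exists_affine_etale_surjective U₁.left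
  let U₂ : Over S := Over.mk (π ≫ U₁.hom)
  let πo : U₂ ⟶ U₁ := Over.homMk π rfl
  haveI : IsAffine U₂.left := hU'aff
  have : (RepWith (S := S) @Etale).IsMultiplicative := repWith_isMultiplicative _
  have : (RepWith (S := S) @Surjective).IsMultiplicative := repWith_isMultiplicative _
  have ha₂e : RepWith @Etale ((yon S).map πo ≫ a₁) :=
    (RepWith (S := S) @Etale).comp_mem _ _ ((repWith_yon_map_iff _ _).2 hπe) ha₁e
  have ha₂s : RepWith @Surjective ((yon S).map πo ≫ a₁) :=
    (RepWith (S := S) @Surjective).comp_mem _ _ ((repWith_yon_map_iff _ _).2 hπs) ha₁s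
  generalize (yon S).map πo ≫ a₁ = a₂ at ha₂e ha₂s
  obtain ⟨h₂, hh₂⟩ := (yon S).map_surjective (a₂ ≫ m)
  refine ⟨U₂, a₂, h₂, ha₂e, ha₂s, hh₂.symm, ?_⟩
  -- the relation `U₂ ×_Q U₂ = U₂ ×_Z U₂`
  have hrep := ha₂e.rep
  have sqR := hrep.isPullback a₂
  have hr₂e : Etale (hrep.snd a₂).left := ha₂e.property_snd a₂
  obtain ⟨r₁, hr₁⟩ := (yon S).map_surjective (hrep.fst a₂)
  have sqR' : IsPullback ((yon S).map (hrep.snd a₂)) ((yon S).map r₁) a₂ a₂ := by
    rw [hr₁]; exact sqR.flip
  have sqR'' := isPullback_comp_mono sqR' m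
  rw [← hh₂] at sqR''
  have sch := Groth.Agent.H52.isPullback_left_of_isPullback_yon sqR''
  haveI : Flat (hrep.snd a₂).left := inferInstance
  refine flat_surjective_of_univInjective h₂.left _ _ sch ?_
  -- purity
  letI := h₂.left.appTop.hom.toAlgebra
  intro P _ _
  rw [injective_iff_map_eq_zero]
  intro y hy
  obtain ⟨x, rfl⟩ := (TensorProduct.rid Γ(Z.left, ⊤) P).symm.surjective y
  rw [TensorProduct.rid_symm_apply] at hy ⊢
  rw [LinearMap.lTensor_tmul, Algebra.linearMap_apply, map_one] at hy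
  suffices hx0 : x = 0 by rw [hx0, zero_tmul]
  letI : Module Γ(Z.left, ⊤)ᵐᵒᵖ P := Module.compHom _ ((RingHom.id Γ(Z.left, ⊤)).fromOpposite mul_comm)
  haveI : IsCentralScalar Γ(Z.left, ⊤) P := ⟨fun r m => rfl⟩
  let A' := TrivSqZeroExt Γ(Z.left, ⊤) P
  let ψ : Γ(Z.left, ⊤) ⟶ CommRingCat.of A' := CommRingCat.ofHom (algebraMap Γ(Z.left, ⊤) A')
  let t₀ : Spec (CommRingCat.of A') ⟶ Z.left := Spec.map ψ ≫ Z.left.isoSpec.inv
  let T : Over S := Over.mk (t₀ ≫ Z.hom)
  let t : T ⟶ Z := Over.homMk t₀ rfl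
  have ht₀ : t₀.appTop = ψ ≫ (Scheme.ΓSpecIso (CommRingCat.of A')).inv := by
    rw [Scheme.Hom.comp_appTop, isoSpec_inv_appTop, Scheme.ΓSpecIso_inv_naturality]
  have sqP := IsPullback.of_hasPullback m ((yon S).map t)
  let s : Γ(T.left, ⊤) := (Scheme.ΓSpecIso (CommRingCat.of A')).inv (TrivSqZeroExt.inr x)
  have hs : s = 0 := by
    refine hinj T t _ _ _ sqP s (fun W a c hac => ?_)
    obtain ⟨W', e, k, sqW, hee, hes⟩ : ∃ (W' : Over S) (e : W' ⟶ W) (k : W' ⟶ U₂),
        IsPullback ((yon S).map k) ((yon S).map e) a₂ (a ≫ pullback.fst m ((yon S).map t)) ∧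
          Etale e.left ∧ Surjective e.left := by
      obtain ⟨k, hk⟩ := (yon S).map_surjective (hrep.fst (a ≫ pullback.fst m ((yon S).map t)))
      exact ⟨_, hrep.snd _, k, by rw [hk]; exact hrep.isPullback _, ha₂e.property_snd _,
        ha₂s.property_snd _⟩
    have hcomm : k ≫ h₂ = e ≫ c ≫ t := by
      apply (yon S).map_injective
      rw [Functor.map_comp, Functor.map_comp, Functor.map_comp, hh₂, ← Category.assoc, sqW.w,
        Category.assoc, Category.assoc, pullback.condition, ← Category.assoc a, hac]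
    have hcommL : k.left ≫ h₂.left = e.left ≫ c.left ≫ t₀ := by
      have := congrArg (fun φ => φ.left) hcomm
      simp only [Over.comp_left] at this
      exact this
    haveI : Flat e.left := inferInstance
    apply appTop_injective_of_flat_of_surjective e.left
    rw [map_zero]
    have hcat : ψ ≫ (Scheme.ΓSpecIso (CommRingCat.of A')).inv ≫ (e.left ≫ c.left).appTop =
        h₂.left.appTop ≫ k.left.appTop := by
      rw [← Category.assoc, ← ht₀, ← Scheme.Hom.comp_appTop, ← Scheme.Hom.comp_appTop,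
        Category.assoc, ← hcommL]
    have key := map_eq_zero_of_tmul_one_eq_zero (R := Γ(Z.left, ⊤)) (B := Γ(U₂.left, ⊤))
      (A' := A') (Γ := Γ(W'.left, ⊤)) (TrivSqZeroExt.inrHom Γ(Z.left, ⊤) P)
      ((Scheme.ΓSpecIso (CommRingCat.of A')).inv ≫ (e.left ≫ c.left).appTop).hom
      k.left.appTop.hom (by
        ext r
        exact congrArg (fun φ => φ.hom r) hcat) x hy
    rw [Scheme.Hom.comp_appTop] at key
    exact key
  have : TrivSqZeroExt.inr x = (0 : A') := by
    have := congrArg (Scheme.ΓSpecIso (CommRingCat.of A')).hom hs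
    simpa [s] using this
  exact TrivSqZeroExt.inr_injective (by simpa using this)

end Groth.Agent.Lib.Helper78.PureMono
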