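import Groth.Agent.Lib.Helper78.EtNbhdResidue
import Groth.Agent.H53.EtaleResidue
import Mathlib.AlgebraicGeometry.Fiber
import Mathlib.AlgebraicGeometry.Morphisms.Finite
import Mathlib.AlgebraicGeometry.Morphisms.Etale
import Mathlib.FieldTheory.PurelyInseparable.Basic
import Mathlib.Topology.JacobsonSpace

/-!
# Scheme-level input for "injective after étale base change ⇒ universally injective" (helper78)

* `finite_residueFieldMap_of_closed_in_fibre`: a point closed in its fibre of a morphism locally
  of finite type has a finite residue field extension.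
* `finite_residueFieldMap_of_orbit`: if all points of the fibre through `u₂` are related to `u₂`
  by an étale "equivalence relation" compatible with `h`, the residue field extension at `u₂` is finite.
* `exists_etale_nbhd_separating`: for a `K`-point `a` of `U` with finite residue field extension over
  `V₀`, there is an étale neighbourhood `V₁ ⟶ V₀` with a `K`-point `b₁` over `a ≫ h` such that two
  maps `Spec Ω ⟶ Spec K` equalising `b₁` equalise `a` (the residue field of `V₁` is the separable
  closure, over which the residue field of `a` is purely inseparable).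
-/

set_option autoImplicit false
universe u
open CategoryTheory CategoryTheory.Limits AlgebraicGeometry

namespace Groth.Agent.Lib.Helper78.UnivInjEt

theorem finite_residueFieldMap_of_closed_in_fibre {U V : Scheme.{u}} (h : U ⟶ V)
    [LocallyOfFiniteType h] (x : U)
    (hx : ∀ x' : U, x' ∈ closure ({x} : Set U) → h x' = h x → x' = x) :
    (h.residueFieldMap x).hom.Finite := by
  have hcl : IsClosed ({h.asFiber x} : Set (h.fiber (h x))) := by
    refine isClosed_of_closure_subset fun z hz => ?_
    have hz' : h.fiberι (h x) z ∈ closure ({x} : Set U) := by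
      refine map_mem_closure (h.fiberι (h x)).continuous hz ?_
      intro y hy
      rw [Set.mem_singleton_iff] at hy
      rw [hy, Set.mem_singleton_iff]
      exact h.fiberι_asFiber x
    have hz'' : h (h.fiberι (h x) z) = h x := by
      have : h.fiberι (h x) z ∈ Set.range (h.fiberι (h x)) := ⟨z, rfl⟩
      rw [h.range_fiberι] at this
      exact this
    have hzx := hx _ hz' hz''
    rw [Set.mem_singleton_iff]
    apply (h.fiberι (h x)).isEmbedding.injective
    rw [hzx]
    exact (h.fiberι_asFiber x).symm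
  have hci : IsClosedImmersion (h.asFiberHom x) :=
    IsClosedImmersion.of_isPreimmersion _ (by rw [h.range_asFiberHom x]; exact hcl)
  have hl1 : LocallyOfFiniteType (h.fiberToSpecResidueField (h x)) :=
    MorphismProperty.pullback_snd _ _ inferInstance
  have hlft : LocallyOfFiniteType (h.asFiberHom x ≫ h.fiberToSpecResidueField (h x)) :=
    inferInstance
  have hfin : IsFinite (h.asFiberHom x ≫ h.fiberToSpecResidueField (h x)) :=
    (isFinite_iff_locallyOfFiniteType_of_jacobsonSpace
      (f := h.asFiberHom x ≫ h.fiberToSpecResidueField (h x))).mpr hlft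
  rw [h.asFiberHom_fiberToSpecResidueField] at hfin
  exact (IsFinite.SpecMap_iff _).1 hfin

theorem exists_closed_in_fibre {U V : Scheme.{u}} (h : U ⟶ V) [LocallyOfFiniteType h] (u₂ : U) :
    ∃ x : U, h x = h u₂ ∧
      ∀ x' : U, x' ∈ closure ({x} : Set U) → h x' = h x → x' = x := by
  have hne : (Set.univ : Set (h.fiber (h u₂))).Nonempty := ⟨h.asFiber u₂, trivial⟩
  obtain ⟨z, -, hz⟩ := nonempty_inter_closedPoints hne isOpen_univ.isLocallyClosed
  have hzcl : IsClosed ({z} : Set (h.fiber (h u₂))) := hz
  have hzx : h (h.fiberι (h u₂) z) = h u₂ := by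
    have : h.fiberι (h u₂) z ∈ Set.range (h.fiberι (h u₂)) := ⟨z, rfl⟩
    rw [h.range_fiberι] at this
    exact this
  refine ⟨h.fiberι (h u₂) z, hzx, fun x' hx' hx'' => ?_⟩
  have hx'r : x' ∈ Set.range (h.fiberι (h u₂)) := by
    rw [h.range_fiberι]
    exact hx''.trans hzx
  obtain ⟨z', rfl⟩ := hx'r
  have hemb := (h.fiberι (h u₂)).isEmbedding
  have hmem : z' ∈ closure ({z} : Set (h.fiber (h u₂))) := by
    rw [hemb.toIsInducing.closure_eq_preimage_closure_image]
    simpa using hx'
  rw [hzcl.closure_eq, Set.mem_singleton_iff] at hmem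
  rw [hmem]

theorem finite_of_comp_field {A B C : Type*} [Field A] [Field B] [Field C] (f : A →+* B)
    (g : B →+* C) (hgf : (g.comp f).Finite) : f.Finite := by
  algebraize [f, g, g.comp f]
  have : IsNoetherian A C := inferInstance
  exact Module.Finite.of_injective (IsScalarTower.toAlgHom A B C).toLinearMap g.injective

theorem finite_residueFieldMap_of_orbit {U V W : Scheme.{u}} (h : U ⟶ V) [LocallyOfFiniteType h]
    (p p' : W ⟶ U) [Etale p] [Etale p'] (hpp : p ≫ h = p' ≫ h) (u₂ : U)
    (H : ∀ u : U, h u = h u₂ → ∃ w : W, p w = u ∧ p' w = u₂) :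
    (h.residueFieldMap u₂).hom.Finite := by
  obtain ⟨x, hx, hxcl⟩ := exists_closed_in_fibre h u₂
  obtain ⟨w, rfl, rfl⟩ := H x hx
  have h1 : (h.residueFieldMap (p w)).hom.Finite :=
    finite_residueFieldMap_of_closed_in_fibre h _ hxcl
  have h2 : (p.residueFieldMap w).hom.Finite :=
    Groth.Agent.H53.finite_residueField_of_unramified p w
  have h3 : ((p ≫ h).residueFieldMap w).hom.Finite := by
    rw [Scheme.residueFieldMap_comp]
    exact h2.comp h1
  rw [hpp, Scheme.residueFieldMap_comp] at h3
  exact finite_of_comp_field _ _ h3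

theorem exists_etale_nbhd_separating_aux {U V₀ : Scheme.{u}} (h : U ⟶ V₀) {K : Type u} [Field K]
    (u₂ : U) (α₂ : U.residueField u₂ ⟶ CommRingCat.of K)
    (hfin : (h.residueFieldMap u₂).hom.Finite) :
    ∃ (V₁ : Scheme.{u}) (g : V₁ ⟶ V₀) (_ : Etale g) (b₁ : Spec (CommRingCat.of K) ⟶ V₁),
      b₁ ≫ g = (Spec.map α₂ ≫ U.fromSpecResidueField u₂) ≫ h ∧
      ∀ (Ω : Type u) [Field Ω] (t₁ t₂ : Spec (CommRingCat.of Ω) ⟶ Spec (CommRingCat.of K)),
        t₁ ≫ b₁ = t₂ ≫ b₁ →
          t₁ ≫ (Spec.map α₂ ≫ U.fromSpecResidueField u₂) =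
            t₂ ≫ (Spec.map α₂ ≫ U.fromSpecResidueField u₂) := by
  let φ : V₀.residueField (h u₂) →+* U.residueField u₂ := (h.residueFieldMap u₂).hom
  letI : Algebra (V₀.residueField (h u₂)) (U.residueField u₂) := φ.toAlgebra
  haveI : Module.Finite (V₀.residueField (h u₂)) (U.residueField u₂) := hfin
  let E := separableClosure (V₀.residueField (h u₂)) (U.residueField u₂)
  obtain ⟨V₁, g, v₁, hg, hgv, αE, βE, hβα, hfac⟩ :=
    Groth.Agent.Lib.Helper78.exists_etale_nbhd_residue V₀ (h u₂) E
  let ιE : E →+* K := α₂.hom.comp (algebraMap E (U.residueField u₂))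
  refine ⟨V₁, g, hg, Spec.map (CommRingCat.ofHom (ιE.comp βE)) ≫ V₁.fromSpecResidueField v₁, ?_, ?_⟩
  · have e1 : ((ιE.comp βE).comp αE).comp (algebraMap (V₀.residueField (h u₂)) E) =
        α₂.hom.comp φ := by
      ext x
      simp only [RingHom.comp_apply]
      have hx : βE (αE (algebraMap (V₀.residueField (h u₂)) E x)) =
          algebraMap (V₀.residueField (h u₂)) E x := RingHom.congr_fun hβα _
      rw [hx]
      rfl
    have e2 : CommRingCat.ofHom (α₂.hom.comp φ) = h.residueFieldMap u₂ ≫ α₂ := rfl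
    rw [Category.assoc, hfac, ← Spec.map_comp_assoc, ← Spec.map_comp_assoc,
      ← CommRingCat.ofHom_comp, ← CommRingCat.ofHom_comp, e1, e2, Spec.map_comp_assoc,
      Scheme.Hom.SpecMap_residueFieldMap_fromSpecResidueField, ← Category.assoc]
  · intro Ω _ t₁ t₂ ht
    obtain ⟨s₁, rfl⟩ := Spec.map_surjective t₁
    obtain ⟨s₂, rfl⟩ := Spec.map_surjective t₂
    have h1 : Spec.map (CommRingCat.ofHom (ιE.comp βE) ≫ s₁) =
        Spec.map (CommRingCat.ofHom (ιE.comp βE) ≫ s₂) := by
      rw [← cancel_mono (V₁.fromSpecResidueField v₁), Spec.map_comp, Spec.map_comp,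
        Category.assoc, Category.assoc]
      exact ht
    have h2 : CommRingCat.ofHom (ιE.comp βE) ≫ s₁ = CommRingCat.ofHom (ιE.comp βE) ≫ s₂ :=
      Spec.map_injective h1
    have h3 : (s₁.hom.comp α₂.hom).comp (algebraMap E (U.residueField u₂)) =
        (s₂.hom.comp α₂.hom).comp (algebraMap E (U.residueField u₂)) := by
      ext x
      have := congrArg (fun r => r.hom (αE x)) h2
      simp only [CommRingCat.hom_comp, CommRingCat.hom_ofHom, RingHom.comp_apply] at this
      have hx : βE (αE x) = x := RingHom.congr_fun hβα x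
      rw [hx] at this
      exact this
    haveI : Algebra.IsAlgebraic (V₀.residueField (h u₂)) (U.residueField u₂) :=
      Algebra.IsAlgebraic.of_finite _ _
    haveI : IsPurelyInseparable E (U.residueField u₂) :=
      separableClosure.isPurelyInseparable (V₀.residueField (h u₂)) (U.residueField u₂)
    have h4 : s₁.hom.comp α₂.hom = s₂.hom.comp α₂.hom :=
      IsPurelyInseparable.injective_comp_algebraMap E (U.residueField u₂) Ω h3
    have h5 : α₂ ≫ s₁ = α₂ ≫ s₂ := CommRingCat.hom_ext h4
    rw [← Category.assoc, ← Category.assoc, ← Spec.map_comp, ← Spec.map_comp, h5]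

theorem exists_etale_nbhd_separating {U V₀ : Scheme.{u}} (h : U ⟶ V₀) {K : Type u} [Field K]
    (a : Spec (CommRingCat.of K) ⟶ U)
    (hfin : (h.residueFieldMap (a (IsLocalRing.closedPoint K))).hom.Finite) :
    ∃ (V₁ : Scheme.{u}) (g : V₁ ⟶ V₀) (_ : Etale g) (b₁ : Spec (CommRingCat.of K) ⟶ V₁),
      b₁ ≫ g = a ≫ h ∧
      ∀ (Ω : Type u) [Field Ω] (t₁ t₂ : Spec (CommRingCat.of Ω) ⟶ Spec (CommRingCat.of K)),
        t₁ ≫ b₁ = t₂ ≫ b₁ → t₁ ≫ a = t₂ ≫ a := by
  have hα₂ : Spec.map (Scheme.descResidueField (Scheme.stalkClosedPointTo a)) ≫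
      U.fromSpecResidueField (a (IsLocalRing.closedPoint K)) = a :=
    Scheme.descResidueField_stalkClosedPointTo_fromSpecResidueField K U a
  have key := exists_etale_nbhd_separating_aux h (a (IsLocalRing.closedPoint K))
    (Scheme.descResidueField (Scheme.stalkClosedPointTo a)) hfin
  rw [hα₂] at key
  exact key

end Groth.Agent.Lib.Helper78.UnivInjEt
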