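import Groth.Agent.Lib.Helper78.UnivInjEt
import Groth.Agent.H52.UnivInj
import Groth.Agent.H52.FibreProd
import Groth.Agent.H52.Points
import Groth.Agent.H53.CodimQF2

/-!
# Injective on points after every étale base change ⇒ universally injective (helper78)

Sheaf-level part of the argument for `S10601`.
-/

set_option autoImplicit false
universe u
open CategoryTheory CategoryTheory.Limits AlgebraicGeometry Opposite
open AlgSp

namespace Groth.Agent.Lib.Helper78.UnivInjEt

open Groth.Agent.H52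

variable {S : Scheme.{u}}

theorem fieldPtToHom_fieldPtOfHom {F : Sp S} {K : Type u} [Field K]
    (str : Spec (CommRingCat.of K) ⟶ S) (a : (yon S).obj (Over.mk str) ⟶ F) :
    fieldPtToHom (fieldPtOfHom str a) = a := by
  simp only [fieldPtToHom, fieldPtOfHom]
  exact Equiv.symm_apply_apply _ _

/-- If two field valued points with the same image always agree after some field extension, the
morphism is universally injective. -/
theorem isUnivInjectiveMor_of_eq_after_ext {X Y : Sp S} (hX : IsAlgSpace X) (f : X ⟶ Y)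
    (H : ∀ (K : Type u) [Field K] (str : Spec (CommRingCat.of K) ⟶ S)
      (a₁ a₂ : (yon S).obj (Over.mk str) ⟶ X), a₁ ≫ f = a₂ ≫ f →
      ∃ (Ω : Type u) (_ : Field Ω) (w : Spec (CommRingCat.of Ω) ⟶ S)
        (e : Over.mk w ⟶ Over.mk str), (yon S).map e ≫ a₁ = (yon S).map e ≫ a₂) :
    IsUnivInjectiveMor f := by
  refine (kInj_of_isSurjectiveMor_diagonal hX f ?_).isUnivInjectiveMor
  intro z
  induction z using Points.ind with | h p =>
  let a := fieldPtToHom p
  have hcond : (a ≫ pullback.fst f f) ≫ f = (a ≫ pullback.snd f f) ≫ f := by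
    rw [Category.assoc, Category.assoc, pullback.condition]
  obtain ⟨Ω, _, w, e, he⟩ := H p.K p.str (a ≫ pullback.fst f f) (a ≫ pullback.snd f f) hcond
  let e' : Over.mk w ⟶ p.pt := e
  refine ⟨Points.mk (fieldPtOfHom w ((yon S).map e' ≫ a ≫ pullback.fst f f)), ?_⟩
  rw [points_map_mk_ofHom]
  have h1 : ((yon S).map e' ≫ a ≫ pullback.fst f f) ≫ pullback.diagonal f = (yon S).map e' ≫ a := by
    apply pullback.hom_ext
    · simp only [Category.assoc, pullback.diagonal_fst, Category.comp_id]
    · simp only [Category.assoc, pullback.diagonal_snd, Category.comp_id]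
      exact he
  rw [h1]
  have := points_mk_comp (F := pullback f f) p.str w e' a
  rw [this, fieldPtOfHom_toHom]

/-- Field valued points lift along representable surjective morphisms after a field extension. -/
theorem exists_lift_after_ext {F : Sp S} {T : Over S} (g : (yon S).obj T ⟶ F)
    (hg : RepWith @Surjective g) {K : Type u} [Field K] (str : Spec (CommRingCat.of K) ⟶ S)
    (b : (yon S).obj (Over.mk str) ⟶ F) :
    ∃ (Ω : Type u) (_ : Field Ω) (w : Spec (CommRingCat.of Ω) ⟶ S)
      (e : Over.mk w ⟶ Over.mk str) (l : Over.mk w ⟶ T),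
      (yon S).map l ≫ g = (yon S).map e ≫ b := by
  have hrep := hg.rep
  have hsurj : Surjective (hrep.snd b).left := hg.property_snd b
  obtain ⟨z, -⟩ := hsurj.surj (IsLocalRing.closedPoint K)
  let P := hrep.pullback b
  let w : Spec (P.left.residueField z) ⟶ S := P.left.fromSpecResidueField z ≫ P.hom
  let iz : Over.mk w ⟶ P := Over.homMk (P.left.fromSpecResidueField z) rfl
  obtain ⟨l, hl⟩ := (yon S).map_surjective ((yon S).map iz ≫ hrep.fst b)
  refine ⟨P.left.residueField z, inferInstance, w, iz ≫ hrep.snd b, l, ?_⟩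
  rw [hl, Category.assoc, hrep.w b, Functor.map_comp, Category.assoc]

/-- The core: two field valued points of `X` with the same image in `Y` agree after a field
extension, provided the second one lifts to the given chart. -/
theorem eq_after_ext_of_lift {X Y : Sp S} (f : X ⟶ Y)
    (hft : LocP @LocallyOfFiniteType f)
    (hinj : ∀ (V : Over S) (g : (yon S).obj V ⟶ Y), RepWith @Etale g →
      Function.Injective (Points.map (pullback.snd f g)))
    {V₀ : Over S} (q : (yon S).obj V₀ ⟶ Y) (hqe : RepWith @Etale q)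
    {U : Over S} (c : (yon S).obj U ⟶ pullback f q) (hce : RepWith @Etale c)
    {K : Type u} [Field K] (str : Spec (CommRingCat.of K) ⟶ S)
    (a₁ a₂ : (yon S).obj (Over.mk str) ⟶ X) (h12 : a₁ ≫ f = a₂ ≫ f)
    (l : Over.mk str ⟶ U) (hl : (yon S).map l ≫ c ≫ pullback.fst f q = a₂) :
    ∃ (Ω : Type u) (_ : Field Ω) (w : Spec (CommRingCat.of Ω) ⟶ S)
      (e : Over.mk w ⟶ Over.mk str), (yon S).map e ≫ a₁ = (yon S).map e ≫ a₂ := by
  have sq₀ := IsPullback.of_hasPullback f q
  obtain ⟨h, hh⟩ := (yon S).map_surjective (c ≫ pullback.snd f q)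
  have hfst : RepWith @Etale (pullback.fst f q) :=
    (RepWith (S := S) @Etale).of_isPullback sq₀.flip hqe
  have hae : RepWith @Etale (c ≫ pullback.fst f q) :=
    (RepWith (S := S) @Etale).comp_mem _ _ hce hfst
  have hcomm : (c ≫ pullback.fst f q) ≫ f = (yon S).map h ≫ q := by
    rw [hh, Category.assoc, Category.assoc, pullback.condition]
  have hlft : LocallyOfFiniteType h.left := hft _ q h hae hqe hcomm
  have hinj₀ := hinj V₀ q hqe
  -- the étale equivalence relation on `U`
  obtain ⟨W, p, p', sqW, hp⟩ := H53.CodimQF.exists_pullback_charts c c hce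
  have hp' : Etale p'.left := hce.property c _ _ sqW
  have hpp : p ≫ h = p' ≫ h := by
    apply (yon S).map_injective
    rw [Functor.map_comp, Functor.map_comp, hh, ← Category.assoc, ← Category.assoc, sqW.w]
  have hppl : p.left ≫ h.left = p'.left ≫ h.left := by
    have := congrArg (fun t => t.left) hpp
    simpa using this
  -- finiteness of the residue field extension at the point of the lift
  have hfin : (h.left.residueFieldMap (l.left (IsLocalRing.closedPoint K))).hom.Finite := by
    refine finite_residueFieldMap_of_orbit h.left p.left p'.left hppl _ ?_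
    intro u hu
    refine H53.CodimQF.exists_point_of_isPullback_yon sqW u _ (hinj₀ ?_)
    rw [Points.map_ofPt, Points.map_ofPt, ← hh, Points.ofPt_eq_map_ofScheme,
      Points.ofPt_eq_map_ofScheme ((yon S).map h), points_map_ofScheme, points_map_ofScheme, hu]
  obtain ⟨V₁s, g, hg, b₁s, hb₁, Hsep⟩ := exists_etale_nbhd_separating h.left l.left hfin
  let V₁ : Over S := Over.mk (g ≫ V₀.hom)
  let gO : V₁ ⟶ V₀ := Over.homMk g rfl
  have hb₁w : b₁s ≫ V₁.hom = (Over.mk str).hom := by
    change b₁s ≫ g ≫ V₀.hom = str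
    rw [← Category.assoc, hb₁, Category.assoc, Over.w h]
    exact Over.w l
  let b₁ : Over.mk str ⟶ V₁ := Over.homMk b₁s hb₁w
  have hb₁O : b₁ ≫ gO = l ≫ h := by
    ext
    exact hb₁
  have hg₁ : RepWith @Etale ((yon S).map gO ≫ q) :=
    (RepWith (S := S) @Etale).comp_mem _ _ ((repWith_yon_map_iff _ _).2 hg) hqe
  have hinj₁ := hinj V₁ ((yon S).map gO ≫ q) hg₁
  have hcond₂ : a₂ ≫ f = (yon S).map b₁ ≫ (yon S).map gO ≫ q := by
    rw [← Category.assoc, ← Functor.map_comp, hb₁O, Functor.map_comp, Category.assoc, ← hcomm, ← hl]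
    simp only [Category.assoc]
  have hcond₁ : a₁ ≫ f = (yon S).map b₁ ≫ (yon S).map gO ≫ q := h12.trans hcond₂
  let A₁ : (yon S).obj (Over.mk str) ⟶ pullback f ((yon S).map gO ≫ q) :=
    pullback.lift a₁ ((yon S).map b₁) hcond₁
  let A₂ : (yon S).obj (Over.mk str) ⟶ pullback f ((yon S).map gO ≫ q) :=
    pullback.lift a₂ ((yon S).map b₁) hcond₂
  have hpt : Points.mk (fieldPtOfHom str A₁) = Points.mk (fieldPtOfHom str A₂) := by
    apply hinj₁
    rw [points_map_mk_ofHom, points_map_mk_ofHom]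
    simp only [A₁, A₂, pullback.lift_snd]
  rw [Points.mk_eq_mk_iff, fieldPt_rel_iff] at hpt
  obtain ⟨Ω, _, w, τ₁', τ₂', hτ⟩ := hpt
  rw [fieldPtToHom_fieldPtOfHom, fieldPtToHom_fieldPtOfHom] at hτ
  let τ₁ : Over.mk w ⟶ Over.mk str := τ₁'
  let τ₂ : Over.mk w ⟶ Over.mk str := τ₂'
  have hτ' : (yon S).map τ₁ ≫ A₁ = (yon S).map τ₂ ≫ A₂ := hτ
  have E2 : (yon S).map τ₁ ≫ a₁ = (yon S).map τ₂ ≫ a₂ := by
    have := congrArg (fun t => t ≫ pullback.fst f ((yon S).map gO ≫ q)) hτ'
    simpa only [A₁, A₂, Category.assoc, pullback.lift_fst] using this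
  have E3 : τ₁ ≫ b₁ = τ₂ ≫ b₁ := by
    apply (yon S).map_injective
    have := congrArg (fun t => t ≫ pullback.snd f ((yon S).map gO ≫ q)) hτ'
    simpa only [A₁, A₂, Category.assoc, pullback.lift_snd, Functor.map_comp] using this
  have E3l : τ₁.left ≫ b₁s = τ₂.left ≫ b₁s := by
    have := congrArg (fun t => t.left) E3
    simpa [b₁] using this
  have E4l : τ₁.left ≫ l.left = τ₂.left ≫ l.left := Hsep Ω τ₁.left τ₂.left E3l
  have E4 : τ₁ ≫ l = τ₂ ≫ l := by
    ext
    exact E4l
  refine ⟨Ω, inferInstance, w, τ₁, ?_⟩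
  calc (yon S).map τ₁ ≫ a₁ = (yon S).map τ₂ ≫ a₂ := E2
    _ = (yon S).map (τ₂ ≫ l) ≫ c ≫ pullback.fst f q := by
      rw [← hl, Functor.map_comp, Category.assoc]
    _ = (yon S).map (τ₁ ≫ l) ≫ c ≫ pullback.fst f q := by rw [E4]
    _ = (yon S).map τ₁ ≫ a₂ := by rw [← hl, Functor.map_comp, Category.assoc]

/-- Main theorem in `Sp S` form. -/
theorem isUnivInjectiveMor_of_injective_etale {X Y : Sp S} (hX : IsAlgSpace X) (hY : IsAlgSpace Y)
    (f : X ⟶ Y) (hft : LocP @LocallyOfFiniteType f)
    (hinj : ∀ (V : Over S) (g : (yon S).obj V ⟶ Y), RepWith @Etale g →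
      Function.Injective (Points.map (pullback.snd f g))) :
    IsUnivInjectiveMor f := by
  refine isUnivInjectiveMor_of_eq_after_ext hX f ?_
  intro K _ str a₁ a₂ h12
  obtain ⟨V₀, q, hqe, hqs⟩ := hY.atlas
  have sq₀ := IsPullback.of_hasPullback f q
  have hX₀ : IsAlgSpace (pullback f q) :=
    isAlgSpace_of_isPullback sq₀ hX hY (IsAlgSpace.yon_obj _)
  obtain ⟨U, c, hce, hcs⟩ := hX₀.atlas
  have hfsts : RepWith @Surjective (pullback.fst f q) :=
    (RepWith (S := S) @Surjective).of_isPullback sq₀.flip hqs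
  have has : RepWith @Surjective (c ≫ pullback.fst f q) :=
    (RepWith (S := S) @Surjective).comp_mem _ _ hcs hfsts
  obtain ⟨Ω₁, _, w₁, e₁, l, hl⟩ := exists_lift_after_ext (c ≫ pullback.fst f q) has str a₂
  have h12' : ((yon S).map e₁ ≫ a₁) ≫ f = ((yon S).map e₁ ≫ a₂) ≫ f := by
    rw [Category.assoc, Category.assoc, h12]
  obtain ⟨Ω, _, w, e, he⟩ := eq_after_ext_of_lift f hft hinj q hqe c hce w₁
    ((yon S).map e₁ ≫ a₁) ((yon S).map e₁ ≫ a₂) h12' l hl
  refine ⟨Ω, inferInstance, w, e ≫ e₁, ?_⟩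
  rw [Functor.map_comp, Category.assoc, Category.assoc]
  exact he

end Groth.Agent.Lib.Helper78.UnivInjEt
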