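import Groth.Agent.Lib.Helper78.FlatLocusSp
import Groth.Agent.H52.Points
import Groth.Agent.H52.FibreProd

/-!
# Base changes of `X ⟶ Y` over `Z` that are flat
-/

set_option autoImplicit false
universe u
open CategoryTheory CategoryTheory.Limits AlgebraicGeometry Opposite

namespace Groth.Agent.Lib.Helper78.WhereFlat

open AlgSp Groth.Agent.H52 Groth.Agent.Lib.Helper78.FlatLocusSp

variable {S : Scheme.{u}}

theorem locP_flat_iff_forall_isFlatAtMor {F G : Sp S} (f : F ⟶ G) :
    LocP @Flat f ↔ ∀ x, IsFlatAtMor f x := by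
  constructor
  · intro H x U V a b h u ha hb comm _
    haveI : Flat h.left := H a b h ha hb comm
    exact Flat.stalkMap h.left u
  · intro H U V a b h ha hb comm
    exact Flat.of_stalkMap _ (fun u => H (Points.ofPt a u) a b h u ha hb comm rfl)

/-- The base change of `f` along `g` is flat iff `f` is flat at all points of `X` lying over
the image of `|g|`. -/
theorem baseChange_flat_iff {X Y Z X' Y' Z' : Sp S} (hX : IsAlgSpace X)
    (hY : IsAlgSpace Y) (hZ : IsAlgSpace Z) (hY' : IsAlgSpace Y')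
    (hZ' : IsAlgSpace Z') {f : X ⟶ Y} {q : Y ⟶ Z} {g : Z' ⟶ Z} {f' : X' ⟶ Y'} {q' : Y' ⟶ Z'}
    {gX : X' ⟶ X} {gY : Y' ⟶ Y} (sq1 : IsPullback gY q' q g) (sq2 : IsPullback gX f' f gY)
    (hX' : IsAlgSpace X')
    (hfp : LocP @LocallyOfFinitePresentation (f ≫ q)) (hfl : LocP @Flat (f ≫ q))
    (hft : LocP @LocallyOfFiniteType q) :
    LocP @Flat f' ↔ ∀ (z' : Points Z') (x : Points X),
      Points.map (f ≫ q) x = Points.map g z' → IsFlatAtMor f x := by
  rw [locP_flat_iff_forall_isFlatAtMor]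
  have sq12 : IsPullback gX (f' ≫ q') (f ≫ q) g := sq2.paste_vert sq1
  constructor
  · intro H z' x hx
    obtain ⟨x', hx'1, -⟩ := exists_point_of_isPullback sq12 x z' hx
    have := (isFlatAtMor_baseChange_iff hX hY hZ hY' hZ' sq1 sq2 hX' hfp hfl hft x').1 (H x')
    rwa [hx'1] at this
  · intro H x'
    rw [isFlatAtMor_baseChange_iff hX hY hZ hY' hZ' sq1 sq2 hX' hfp hfl hft]
    refine H (Points.map (f' ≫ q') x') (Points.map gX x') ?_
    rw [← Points.map_comp, ← Points.map_comp, sq12.w]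

end Groth.Agent.Lib.Helper78.WhereFlat
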