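import Groth.Agent.Lib.Helper78.WhereFlat
import Groth.Agent.Lib.Helper54.LargestOpen
import Groth.Agent.H52.OpenSub
import Groth.Agent.H53.Proper

/-!
# Images of open subsets of the flat locus are open
-/

set_option autoImplicit false
universe u
open CategoryTheory CategoryTheory.Limits AlgebraicGeometry Opposite

namespace Groth.Agent.Lib.Helper78.WhereFlat

open AlgSp Groth.Agent.H52 Groth.Agent.Lib.Helper78.FlatLocusSp

variable {S : Scheme.{u}}

/-- For `f` locally of finite presentation, the image of an open subset of the flat locus of `f`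
is open. -/
theorem isOpen_image_of_flat {X Y : Sp S} (hX : IsAlgSpace X) (hY : IsAlgSpace Y) (f : X ⟶ Y)
    (hlfp : LocP @LocallyOfFinitePresentation f) (A : Set (Points X)) (hA : IsOpen A)
    (hflat : ∀ x ∈ A, IsFlatAtMor f x) : IsOpen (Points.map f '' A) := by
  obtain ⟨X₁, j, hX₁, -, hj, hr⟩ := exists_open_subspace_of_isOpen hX A hA
  have hje : RepWith @Etale j :=
    Groth.Agent.H53.repWith_of_le (P := @IsOpenImmersion) (Q := @Etale)
      (fun _ _ φ hφ => by
        haveI : IsOpenImmersion φ := hφ
        infer_instance) hj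
  have h1 : LocP (@Flat ⊓ @LocallyOfFinitePresentation) (j ≫ f) := by
    intro U V a b h ha hb comm
    have hae : RepWith @Etale (a ≫ j) := (RepWith (S := S) @Etale).comp_mem _ _ ha hje
    have comm' : (a ≫ j) ≫ f = (yon S).map h ≫ b := by rw [Category.assoc]; exact comm
    refine ⟨Flat.of_stalkMap _ (fun u => ?_), hlfp (a ≫ j) b h hae hb comm'⟩
    have hx : Points.ofPt (a ≫ j) u ∈ A := by
      rw [← hr]
      exact ⟨Points.ofPt a u, Points.map_ofPt a j u⟩
    exact hflat _ hx (a ≫ j) b h u hae hb comm' rfl
  have h2 := Groth.Agent.Lib.Helper54.isOpenMap_points_of_locP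
    Groth.Agent.Lib.Helper54.univOpen_of_flat_lfp hX₁ hY (j ≫ f) h1
  have e : Points.map f '' A = Set.range (Points.map (j ≫ f)) := by
    rw [← hr, ← Set.range_comp]
    congr 1
    funext x
    exact (Points.map_comp j f x).symm
  rw [e]
  exact h2.isOpen_range

end Groth.Agent.Lib.Helper78.WhereFlat
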