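import Groth.Agent.Lib.Helper78.WhereUnram
import Groth.Agent.S10262
import Groth.Agent.H52.OpenSub
import Groth.Agent.H52.Top2
import Groth.Agent.H53.OpenSub
import Groth.Agent.H53.Proper

/-!
# Base changes of `X ⟶ Y` over `Z` that are unramified and universally injective
-/

set_option autoImplicit false
universe u
open CategoryTheory CategoryTheory.Limits AlgebraicGeometry Opposite

namespace Groth.Agent.Lib.Helper78.WhereUnivInj

open AlgSp Groth.Agent.H52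

variable {S : Scheme.{u}}

/-- Over an open subset `A` of the unramified locus of `f`, the diagonal is an open immersion:
there is an open subspace `X₁ ⟶ X` with `|X₁| = A` whose diagonal map to `X ×_Y X` is an open
immersion. -/
theorem exists_open_diag {X Y XX : Sp S} (hX : IsAlgSpace X) (hY : IsAlgSpace Y) (f : X ⟶ Y)
    {pr0 pr1 : XX ⟶ X} (hXX : IsPullback pr0 pr1 f f) (A : Set (Points X)) (hA : IsOpen A)
    (hAun : ∀ x ∈ A, HasAtMor (fun U _ h u => ∃ W : U.Opens, u ∈ W ∧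
      (@LocallyOfFiniteType ⊓ @FormallyUnramified) (W.ι ≫ h)) f x) :
    ∃ (X₁ : Sp S) (j : X₁ ⟶ X) (δ : X₁ ⟶ XX), RepWith @IsOpenImmersion j ∧
      RepWith @IsOpenImmersion δ ∧ δ ≫ pr0 = j ∧ δ ≫ pr1 = j ∧ Set.range (Points.map j) = A := by
  obtain ⟨X₁, j, hX₁, -, hj, hr⟩ := exists_open_subspace_of_isOpen hX A hA
  have hje : RepWith @Etale j :=
    Groth.Agent.H53.repWith_of_le (P := @IsOpenImmersion) (Q := @Etale)
      (fun _ _ φ hφ => by
        haveI : IsOpenImmersion φ := hφ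
        infer_instance) hj
  have hun : LocP (@LocallyOfFiniteType ⊓ @FormallyUnramified) (j ≫ f) := by
    intro U V a b h ha hb comm
    have hae : RepWith @Etale (a ≫ j) := (RepWith (S := S) @Etale).comp_mem _ _ ha hje
    have comm' : (a ≫ j) ≫ f = (yon S).map h ≫ b := by rw [Category.assoc]; exact comm
    have key : ∀ u : U.left, ∃ W : U.left.Opens, u ∈ W ∧
        (@LocallyOfFiniteType ⊓ @FormallyUnramified) (W.ι ≫ h.left) := fun u =>
      (isEtLocal_unramified.hasAtMor_nhd_iff_forall hX hY f (Points.ofPt (a ≫ j) u)).1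
        (hAun _ (by rw [← hr]; exact ⟨Points.ofPt a u, Points.map_ofPt a j u⟩))
        (a ≫ j) b h u hae hb comm' rfl
    choose W hW1 hW2 using key
    refine IsZariskiLocalAtSource.of_iSup_eq_top W ?_ hW2
    rw [eq_top_iff]
    intro u _
    exact TopologicalSpace.Opens.mem_iSup.2 ⟨u, hW1 u⟩
  have hdiag : RepWith @IsOpenImmersion (pullback.diagonal (j ≫ f)) :=
    (Groth.Agent.S10262.result (X := ⟨X₁, hX₁⟩) (Y := ⟨Y, hY⟩)
      (ObjectProperty.homMk (j ≫ f))).1 hun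
  have sqP := IsPullback.of_hasPullback (j ≫ f) (j ≫ f)
  have sqQ := IsPullback.of_hasPullback f (j ≫ f)
  let m₁ : pullback (j ≫ f) (j ≫ f) ⟶ pullback f (j ≫ f) :=
    pullback.lift (pullback.fst (j ≫ f) (j ≫ f) ≫ j) (pullback.snd (j ≫ f) (j ≫ f))
      (by rw [Category.assoc]; exact sqP.w)
  have hm₁0 : m₁ ≫ pullback.fst f (j ≫ f) = pullback.fst (j ≫ f) (j ≫ f) ≫ j :=
    pullback.lift_fst _ _ _
  have hm₁1 : m₁ ≫ pullback.snd f (j ≫ f) = pullback.snd (j ≫ f) (j ≫ f) :=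
    pullback.lift_snd _ _ _
  have sqA : IsPullback m₁ (pullback.fst (j ≫ f) (j ≫ f)) (pullback.fst f (j ≫ f)) j := by
    have big : IsPullback (m₁ ≫ pullback.snd f (j ≫ f)) (pullback.fst (j ≫ f) (j ≫ f))
        (j ≫ f) (j ≫ f) := by rw [hm₁1]; exact sqP.flip
    exact IsPullback.of_right big hm₁0 sqQ.flip
  have hm₁ : RepWith @IsOpenImmersion m₁ := MorphismProperty.of_isPullback sqA.flip hj
  let m₂ : pullback f (j ≫ f) ⟶ XX :=
    hXX.lift (pullback.fst f (j ≫ f)) (pullback.snd f (j ≫ f) ≫ j)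
      (by rw [Category.assoc]; exact sqQ.w)
  have hm₂0 : m₂ ≫ pr0 = pullback.fst f (j ≫ f) := hXX.lift_fst _ _ _
  have hm₂1 : m₂ ≫ pr1 = pullback.snd f (j ≫ f) ≫ j := hXX.lift_snd _ _ _
  have sqB : IsPullback m₂ (pullback.snd f (j ≫ f)) pr1 j := by
    have big : IsPullback (m₂ ≫ pr0) (pullback.snd f (j ≫ f)) f (j ≫ f) := by
      rw [hm₂0]; exact sqQ
    exact IsPullback.of_right big hm₂1 hXX
  have hm₂ : RepWith @IsOpenImmersion m₂ := MorphismProperty.of_isPullback sqB.flip hj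
  refine ⟨X₁, j, pullback.diagonal (j ≫ f) ≫ m₁ ≫ m₂, hj,
    (RepWith (S := S) @IsOpenImmersion).comp_mem _ _ hdiag
      ((RepWith (S := S) @IsOpenImmersion).comp_mem _ _ hm₁ hm₂), ?_, ?_, hr⟩
  · rw [Category.assoc, Category.assoc, hm₂0, hm₁0, ← Category.assoc, pullback.diagonal_fst,
      Category.id_comp]
  · rw [Category.assoc, Category.assoc, hm₂1, ← Category.assoc m₁, hm₁1, ← Category.assoc,
      pullback.diagonal_snd, Category.id_comp]

section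

variable {X Y Z XX X₁ X' Y' Z' : Sp S} {f : X ⟶ Y} {q : Y ⟶ Z} {g : Z' ⟶ Z} {f' : X' ⟶ Y'}
  {q' : Y' ⟶ Z'} {gX : X' ⟶ X} {gY : Y' ⟶ Y} {pr0 pr1 : XX ⟶ X} {j : X₁ ⟶ X} {δ : X₁ ⟶ XX}

/-- If all points of `X ×_Y X` over the image of `|g|` lie in the open diagonal, the base change
of `f` along `g` is injective on field-valued points. -/
theorem injective_fieldPts_of_diag (sq2 : IsPullback gX f' f gY) (sq1 : IsPullback gY q' q g)
    (hXX : IsPullback pr0 pr1 f f) (hδ : RepWith @IsOpenImmersion δ) (hδ0 : δ ≫ pr0 = j)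
    (hδ1 : δ ≫ pr1 = j)
    (hR : ∀ ξ : Points XX, Points.map (pr1 ≫ f ≫ q) ξ ∈ Set.range (Points.map g) →
      ξ ∈ Set.range (Points.map δ))
    (K : Type u) [Field K] (str : Spec (CommRingCat.of K) ⟶ S) :
    Function.Injective (fun a : (yon S).obj (Over.mk str) ⟶ X' => a ≫ f') := by
  intro a₁ a₂ h
  have h' : a₁ ≫ f' = a₂ ≫ f' := h
  have hb : (a₁ ≫ gX) ≫ f = (a₂ ≫ gX) ≫ f := by
    rw [Category.assoc, Category.assoc, sq2.w, ← Category.assoc, ← Category.assoc, h']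
  have e0 : hXX.lift (a₁ ≫ gX) (a₂ ≫ gX) hb ≫ pr0 = a₁ ≫ gX := hXX.lift_fst _ _ _
  have e1 : hXX.lift (a₁ ≫ gX) (a₂ ≫ gX) hb ≫ pr1 = a₂ ≫ gX := hXX.lift_snd _ _ _
  have hc : Set.range (Points.map (hXX.lift (a₁ ≫ gX) (a₂ ≫ gX) hb)) ⊆
      Set.range (Points.map δ) := by
    rintro _ ⟨t, rfl⟩
    apply hR
    refine ⟨Points.map (a₂ ≫ f' ≫ q') t, ?_⟩
    rw [← Points.map_comp, ← Points.map_comp]
    congr 1
    rw [← Category.assoc _ pr1, e1, Category.assoc, Category.assoc, Category.assoc,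
      ← Category.assoc gX, sq2.w, Category.assoc, sq1.w]
  obtain ⟨e, he⟩ := Groth.Agent.H53.exists_factor_of_range_subset δ hδ _ hc
  have c0 : (e ≫ δ) ≫ pr0 = a₁ ≫ gX := by rw [he]; exact e0
  have c1 : (e ≫ δ) ≫ pr1 = a₂ ≫ gX := by rw [he]; exact e1
  have h0 : a₁ ≫ gX = a₂ ≫ gX := by
    rw [← c0, ← c1, Category.assoc, Category.assoc, hδ0, hδ1]
  exact sq2.hom_ext h0 h'

/-- Conversely, if the base change of `f` along `g` is injective on field-valued points, all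
points of `X ×_Y X` over the image of `|g|` lie in the open diagonal. -/
theorem diag_of_injective_fieldPts (sq2 : IsPullback gX f' f gY) (sq1 : IsPullback gY q' q g)
    (hXX : IsPullback pr0 pr1 f f) (hj : RepWith @IsOpenImmersion j) (hδ0 : δ ≫ pr0 = j)
    (hδ1 : δ ≫ pr1 = j)
    (hA : ∀ x : Points X, Points.map (f ≫ q) x ∈ Set.range (Points.map g) →
      x ∈ Set.range (Points.map j))
    (hinj : ∀ (K : Type u) [Field K] (str : Spec (CommRingCat.of K) ⟶ S),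
      Function.Injective (fun a : (yon S).obj (Over.mk str) ⟶ X' => a ≫ f'))
    (ξ : Points XX) (hξ : Points.map (pr1 ≫ f ≫ q) ξ ∈ Set.range (Points.map g)) :
    ξ ∈ Set.range (Points.map δ) := by
  obtain ⟨z', hz'⟩ := hξ
  obtain ⟨P, fstW, sndW, sqW⟩ : ∃ (P : Sp S) (fstW : P ⟶ XX) (sndW : P ⟶ Z'),
      IsPullback fstW sndW (pr1 ≫ f ≫ q) g := ⟨_, _, _, IsPullback.of_hasPullback _ _⟩
  obtain ⟨ω, hω1, -⟩ := exists_point_of_isPullback sqW ξ z' hz'.symm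
  obtain ⟨k, rfl⟩ := Points.mk_surjective ω
  obtain ⟨c, hc⟩ : ∃ c : (yon S).obj k.pt ⟶ P, c = k.toHom := ⟨_, rfl⟩
  obtain ⟨b₀, hb₀⟩ : ∃ b₀ : (yon S).obj k.pt ⟶ X, b₀ = c ≫ fstW ≫ pr0 := ⟨_, rfl⟩
  obtain ⟨b₁, hb₁⟩ : ∃ b₁ : (yon S).obj k.pt ⟶ X, b₁ = c ≫ fstW ≫ pr1 := ⟨_, rfl⟩
  obtain ⟨ζ, hζ⟩ : ∃ ζ : (yon S).obj k.pt ⟶ Z', ζ = c ≫ sndW := ⟨_, rfl⟩
  have hb : b₀ ≫ f = b₁ ≫ f := by
    rw [hb₀, hb₁, Category.assoc, Category.assoc, Category.assoc, Category.assoc, hXX.w]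
  have h1 : b₁ ≫ f ≫ q = ζ ≫ g := by
    rw [hb₁, hζ, Category.assoc, Category.assoc, Category.assoc, sqW.w]
  have h0 : b₀ ≫ f ≫ q = ζ ≫ g := by
    rw [← h1, ← Category.assoc b₀, hb, Category.assoc]
  have sq12 : IsPullback gX (f' ≫ q') (f ≫ q) g := sq2.paste_vert sq1
  have l00 : sq12.lift b₀ ζ h0 ≫ gX = b₀ := sq12.lift_fst _ _ _
  have l01 : sq12.lift b₀ ζ h0 ≫ f' ≫ q' = ζ := sq12.lift_snd _ _ _
  have l10 : sq12.lift b₁ ζ h1 ≫ gX = b₁ := sq12.lift_fst _ _ _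
  have l11 : sq12.lift b₁ ζ h1 ≫ f' ≫ q' = ζ := sq12.lift_snd _ _ _
  have ha : sq12.lift b₀ ζ h0 ≫ f' = sq12.lift b₁ ζ h1 ≫ f' := by
    apply sq1.hom_ext
    · rw [Category.assoc, Category.assoc, ← sq2.w, ← Category.assoc, ← Category.assoc,
        l00, l10, hb]
    · rw [Category.assoc, Category.assoc, l01, l11]
  have haa : sq12.lift b₀ ζ h0 = sq12.lift b₁ ζ h1 := hinj k.K k.str ha
  have hbb : b₀ = b₁ := by rw [← l00, ← l10, haa]
  have hbA : Set.range (Points.map b₀) ⊆ Set.range (Points.map j) := by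
    rintro _ ⟨t, rfl⟩
    apply hA
    refine ⟨Points.map ζ t, ?_⟩
    rw [← Points.map_comp, ← Points.map_comp, h0]
  obtain ⟨e, he⟩ := Groth.Agent.H53.exists_factor_of_range_subset j hj b₀ hbA
  have hce : c ≫ fstW = e ≫ δ := by
    apply hXX.hom_ext
    · rw [Category.assoc, Category.assoc, hδ0, he, hb₀]
    · rw [Category.assoc, Category.assoc, hδ1, he, hbb, hb₁]
  have s : ↥(Spec (CommRingCat.of k.K)) := IsLocalRing.closedPoint k.K
  rw [← hω1, ← Points.ofPt_toHom k s, Points.map_ofPt, ← hc, hce, ← Points.map_ofPt]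
  exact ⟨_, rfl⟩

end

end Groth.Agent.Lib.Helper78.WhereUnivInj
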