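import Groth.Agent.H52.UnramLocus
import Groth.Agent.H52.Points
import Groth.Agent.H52.FibreProd
import Groth.Agent.H52.ThickFlat
import Groth.Agent.H53.SpTop

/-!
# Base changes of `X ⟶ Y` over `Z` that are unramified
-/

set_option autoImplicit false
universe u
open CategoryTheory CategoryTheory.Limits AlgebraicGeometry Opposite

namespace Groth.Agent.Lib.Helper78.WhereUnram

open AlgSp Groth.Agent.H52

variable {S : Scheme.{u}}

/-- For `P` etale local and Zariski local at the source, `LocP P f` iff `P` holds near every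
point (on some chart diagram). -/
theorem locP_iff_forall_hasAtMor_nhd {P : MorphismProperty Scheme.{u}} (hP : IsEtLocal P)
    [IsZariskiLocalAtSource P] {X Y : Sp S} (hX : IsAlgSpace X) (hY : IsAlgSpace Y) (f : X ⟶ Y) :
    LocP P f ↔
      ∀ x, HasAtMor (fun U _ h u => ∃ W : U.Opens, u ∈ W ∧ P (W.ι ≫ h)) f x := by
  constructor
  · intro H x
    obtain ⟨V, b, hbe, hbs⟩ := hY.atlas
    obtain ⟨v, hv⟩ := Groth.Agent.H53.surjective_ofPt_of_surjective b hbs (Points.map f x)
    obtain ⟨U, a, k, u, hae, comm, hu, -⟩ :=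
      exists_chart_over_through_point hX hY f b hbe x v hv
    refine ⟨U, V, a, b, k, u, hae, hbe, comm, hu, ⊤, trivial, ?_⟩
    exact hP.precomp _ _ inferInstance (H a b k hae hbe comm)
  · intro H U V a b h ha hb comm
    have key : ∀ u : U.left, ∃ W : U.left.Opens, u ∈ W ∧ P (W.ι ≫ h.left) := fun u =>
      (hP.hasAtMor_nhd_iff_forall hX hY f (Points.ofPt a u)).1 (H _) a b h u ha hb comm rfl
    choose W hW1 hW2 using key
    refine IsZariskiLocalAtSource.of_iSup_eq_top W ?_ hW2
    rw [eq_top_iff]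
    intro u _
    exact TopologicalSpace.Opens.mem_iSup.2 ⟨u, hW1 u⟩

/-- The base change of `f` along `g` is unramified iff `f` is unramified at all points of `X`
lying over the image of `|g|`. -/
theorem baseChange_unram_iff {X Y Z X' Y' Z' : Sp S} (hX : IsAlgSpace X)
    (hY : IsAlgSpace Y) (hY' : IsAlgSpace Y') (hX' : IsAlgSpace X')
    {f : X ⟶ Y} {q : Y ⟶ Z} {g : Z' ⟶ Z} {f' : X' ⟶ Y'} {q' : Y' ⟶ Z'}
    {gX : X' ⟶ X} {gY : Y' ⟶ Y} (sq1 : IsPullback gY q' q g) (sq2 : IsPullback gX f' f gY)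
    (hlft : LocP @LocallyOfFiniteType f) :
    LocP (@LocallyOfFiniteType ⊓ @FormallyUnramified) f' ↔ ∀ (z' : Points Z') (x : Points X),
      Points.map (f ≫ q) x = Points.map g z' →
        HasAtMor (fun U _ h u => ∃ W : U.Opens, u ∈ W ∧
          (@LocallyOfFiniteType ⊓ @FormallyUnramified) (W.ι ≫ h)) f x := by
  rw [locP_iff_forall_hasAtMor_nhd isEtLocal_unramified hX' hY' f']
  have sq12 : IsPullback gX (f' ≫ q') (f ≫ q) g := sq2.paste_vert sq1
  constructor
  · intro H z' x hx
    obtain ⟨x', hx'1, -⟩ := exists_point_of_isPullback sq12 x z' hx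
    have := (hasAtMor_unramified_baseChange_iff hX hY hY' hX' sq2 hlft x').1 (H x')
    rwa [hx'1] at this
  · intro H x'
    refine (hasAtMor_unramified_baseChange_iff hX hY hY' hX' sq2 hlft x').2 ?_
    refine H (Points.map (f' ≫ q') x') (Points.map gX x') ?_
    rw [← Points.map_comp, ← Points.map_comp, sq12.w]

end Groth.Agent.Lib.Helper78.WhereUnram
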